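import Cfsg.Agent.Lib.Invol.JTwo.AltFive

/-!
# Products of order five in the alternating group of degree five
-/

set_option autoImplicit false

namespace CfsgLib.Invol.JThreeType

local notation "A" => alternatingGroup (Fin 5)

/-- The next point of an orbit of an element of order three. -/
def cyc {H : Type*} [Mul H] (y a : H) : H := y * a * y * y

/-- Order five, computably. -/
def fiveOrd (x : A) : Bool := decide (x * x * x * x * x = 1) && !decide (x = 1)

/-- Two of three products have order five. -/
def twoFive (y a c : A) : Bool :=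
  !decide (a * cyc y a = cyc y (cyc y a)) || ((fiveOrd (cyc y a * c) && fiveOrd (cyc y (cyc y a) * c)) ||
    ((fiveOrd (cyc y (cyc y a) * c) && fiveOrd (a * c)) || (fiveOrd (a * c) && fiveOrd (cyc y a * c))))

/-- A three-cycle. -/
def threeCycle : A := ⟨Equiv.swap 0 1 * Equiv.swap 1 2, Equiv.Perm.mem_alternatingGroup.2 (by decide)⟩

theorem three_conj : ∀ y : {y : A // y * y * y = 1 ∧ y ≠ 1}, ∃ g : A, g * y.1 = threeCycle * g := by
  decide +kernel

theorem two_fives_base : ∀ c : {c : A // c * c = 1 ∧ c * threeCycle * c = threeCycle * threeCycle},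
    ∀ a : {a : A // a * a = 1 ∧ a ≠ 1}, twoFive threeCycle a.1 c.1 = true := by decide +kernel

theorem five_const : ∀ g : {g : A // g * g * g * g * g = 1 ∧ g ≠ 1},
    ∀ v : {v : Fin 5 → Bool // JTwo.AltFive.Even5 v}, JTwo.AltFive.Fix g.1 v.1 → ∀ k, v.1 k = false := by
  decide +kernel

theorem twoFive_map (φ : A ≃* A) (y a c : A) : twoFive (φ y) (φ a) (φ c) = twoFive y a c := by
  simp only [twoFive, cyc, fiveOrd, ← map_mul, EmbeddingLike.map_eq_one_iff, EmbeddingLike.apply_eq_iff_eq]
  repeat (first | rfl | congr 1)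

/-- For a four-group permuted by an element of order three inverted by an involution, two of the three
products have order five. -/
theorem two_fives {y a c : A} (hy : y * y * y = 1) (hy1 : y ≠ 1) (ha : a * a = 1) (ha1 : a ≠ 1)
    (hc : c * c = 1) (hcy : c * y * c = y * y) (hr : a * cyc y a = cyc y (cyc y a)) :
    (fiveOrd (cyc y a * c) = true ∧ fiveOrd (cyc y (cyc y a) * c) = true) ∨
    (fiveOrd (cyc y (cyc y a) * c) = true ∧ fiveOrd (a * c) = true) ∨
    (fiveOrd (a * c) = true ∧ fiveOrd (cyc y a * c) = true) := by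
  obtain ⟨g, hg⟩ := three_conj ⟨y, hy, hy1⟩
  have hy0 : MulAut.conj g y = threeCycle := by
    rw [MulAut.conj_apply, hg, mul_inv_cancel_right]
  have h := two_fives_base
    ⟨MulAut.conj g c, by rw [← map_mul, hc, map_one],
      by rw [← hy0, ← map_mul, ← map_mul, ← map_mul, hcy]⟩
    ⟨MulAut.conj g a, by rw [← map_mul, ha, map_one], fun e => ha1 ((MulAut.conj g).injective (e.trans (map_one _).symm))⟩
  replace h : twoFive threeCycle (MulAut.conj g a) (MulAut.conj g c) = true := h
  rw [← hy0, twoFive_map] at h
  simp only [twoFive, Bool.or_eq_true, Bool.and_eq_true, Bool.not_eq_true', decide_eq_false_iff_not] at h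
  exact h.resolve_left (fun n => n hr)

theorem fiveOrd_iff {x : A} : fiveOrd x = true ↔ x * x * x * x * x = 1 ∧ x ≠ 1 := by simp [fiveOrd]

end CfsgLib.Invol.JThreeType
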