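import Cfsg.Agent.Lib.Invol.JThreeType.Sixteen.Transvection

/-!
# Relations of the extra involution

The relations with the normalizer of the group of order fifteen, with its conjugate by the involution
inverting the element of order three, and in the extraspecial group.
-/

set_option autoImplicit false

namespace CfsgLib.Invol.JThreeType

open Subgroup
open CfsgLib.Invol.JTwo (Frame Out cj mem_cj mem_centralizer_conj)

variable {G : Type*} [Group G] [Finite G] {T : Subgroup G} {t σ w u : G} {K : Type} [Field K] {ζ : K}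
  {θ : K → G} {S : Setting T t σ w u K ζ θ} {d : G}

namespace Transv

variable (D : Transv S d)
include D

theorem dinv : d⁻¹ = d := inv_eq_of_mul_eq_one_right D.dd

omit [Finite G] in
theorem pw_commute (n : ℕ) : Commute (t ^ n) (t ^ 10) := (Commute.refl t).pow_pow n 10

theorem sig_commute : Commute σ (t ^ 10) := S.sigma_pow_fix (by norm_num)

theorem d_commute : Commute d (t ^ 10) := D.dy

theorem df3 : (d * t ^ 6) ^ 3 = 1 :=
  S.act_triv (S.act_pow (S.act_mul D.act (S.act_pow S.act_t 6)) 3) (by decide +kernel)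
    ((D.d_commute.mul_left (D.pw_commute 6)).pow_left 3).eq

theorem dsf5 : (d * σ * t ^ 6) ^ 5 = 1 :=
  S.act_triv (S.act_pow (S.act_mul (S.act_mul D.act S.act_sigma) (S.act_pow S.act_t 6)) 5) (by decide +kernel)
    (((D.d_commute.mul_left D.sig_commute).mul_left (D.pw_commute 6)).pow_left 5).eq

theorem dfdff2 : (d * t ^ 6 * d * t ^ 6 * t ^ 6) ^ 2 = 1 :=
  S.act_triv (S.act_pow (S.act_mul (S.act_mul (S.act_mul (S.act_mul D.act (S.act_pow S.act_t 6)) D.act)
      (S.act_pow S.act_t 6)) (S.act_pow S.act_t 6)) 2) (by decide +kernel)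
    (((((D.d_commute.mul_left (D.pw_commute 6)).mul_left D.d_commute).mul_left (D.pw_commute 6)).mul_left
      (D.pw_commute 6)).pow_left 2).eq

theorem dfsf2 : (d * t ^ 6 * σ * t ^ 6) ^ 2 = 1 :=
  S.act_triv (S.act_pow (S.act_mul (S.act_mul (S.act_mul D.act (S.act_pow S.act_t 6)) S.act_sigma)
      (S.act_pow S.act_t 6)) 2) (by decide +kernel)
    ((((D.d_commute.mul_left (D.pw_commute 6)).mul_left D.sig_commute).mul_left (D.pw_commute 6)).pow_left 2).eq

theorem dfdf5 : (d * t ^ 6 * d * t ^ 9) ^ 5 = 1 :=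
  S.act_triv (S.act_pow (S.act_mul (S.act_mul (S.act_mul D.act (S.act_pow S.act_t 6)) D.act)
      (S.act_pow S.act_t 9)) 5) (by decide +kernel)
    ((((D.d_commute.mul_left (D.pw_commute 6)).mul_left D.d_commute).mul_left (D.pw_commute 9)).pow_left 5).eq

/-- The images of the basis. -/
theorem move (i j : ℕ) (e : B4.tv (B4.pw i) = B4.pw j) :
    d * (t ^ i * u * (t ^ i)⁻¹) * d = t ^ j * u * (t ^ j)⁻¹ := by
  rw [← S.theta_val, ← S.theta_val, ← e, ← D.act]
  rw [D.dinv]

end Transv

/-- The second involution. -/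
def mate (w d : G) : G := w * d * w

namespace Transv

variable (D : Transv S d)
include D

theorem mate_eq : mate w d = w * σ * d * (w * σ)⁻¹ := by
  rw [mate, _root_.mul_inv_rev, S.cfg.sinv, S.cfg.winv, show w * σ * d * (σ * w) = w * (σ * d * σ) * w by group,
    ← D.ds, mul_assoc d, S.cfg.ss, mul_one]

theorem mate_sq : mate w d * mate w d = 1 := by
  rw [mate, show w * d * w * (w * d * w) = w * (d * (w * w) * d) * w by group, S.cfg.ww, mul_one, D.dd, mul_one,
    S.cfg.ww]

omit [Finite G] in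
theorem conj_pow_t : ∀ n, n = 6 ∨ n = 9 → w * σ * t ^ n * (w * σ)⁻¹ = t ^ n := by
  intro n hn
  have hσ : σ * t ^ n * σ⁻¹ = t ^ (4 * n) := by
    rw [← conj_pow, inv_eq_of_mul_eq_one_right S.cfg.ss, S.cfg.st, ← pow_mul]
  calc w * σ * t ^ n * (w * σ)⁻¹ = w * (σ * t ^ n * σ⁻¹) * w⁻¹ := by group
    _ = (w * t * w⁻¹) ^ (4 * n) := by rw [hσ, conj_pow]
    _ = t ^ n := by
        rw [inv_eq_of_mul_eq_one_right S.cfg.ww, S.cfg.wtw, inv_pow]
        refine inv_eq_of_mul_eq_one_right ?_
        rw [← pow_add]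
        rcases hn with rfl | rfl
        · rw [show 4 * 6 + 6 = 15 * 2 from rfl, pow_mul, S.cfg.t15, one_pow]
        · rw [show 4 * 9 + 9 = 15 * 3 from rfl, pow_mul, S.cfg.t15, one_pow]

theorem conj_sigma : w * σ * σ * (w * σ)⁻¹ = σ := by
  rw [mul_assoc w σ σ, S.cfg.ss, mul_one, _root_.mul_inv_rev, S.cfg.sinv, S.cfg.winv, ← mul_assoc, S.cfg.ws,
    mul_assoc, S.cfg.ww, mul_one]

theorem conj_facts : ∃ φ : G →* G, φ d = mate w d ∧ φ σ = σ ∧ φ (t ^ 6) = t ^ 6 ∧ φ (t ^ 9) = t ^ 9 :=
  ⟨(MulAut.conj (w * σ)).toMonoidHom, D.mate_eq.symm, D.conj_sigma, D.conj_pow_t 6 (Or.inl rfl),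
    D.conj_pow_t 9 (Or.inr rfl)⟩

theorem qf3 : (mate w d * t ^ 6) ^ 3 = 1 := by
  obtain ⟨φ, e1, e2, e6, e9⟩ := D.conj_facts
  have e := congrArg φ D.df3
  generalize t ^ 6 = f at e e6 ⊢
  simpa only [map_pow, map_mul, map_one, e1, e6] using e

theorem qsf5 : (mate w d * σ * t ^ 6) ^ 5 = 1 := by
  obtain ⟨φ, e1, e2, e6, e9⟩ := D.conj_facts
  have e := congrArg φ D.dsf5
  generalize t ^ 6 = f at e e6 ⊢
  simpa only [map_pow, map_mul, map_one, e1, e2, e6] using e

theorem qfqff2 : (mate w d * t ^ 6 * mate w d * t ^ 6 * t ^ 6) ^ 2 = 1 := by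
  obtain ⟨φ, e1, e2, e6, e9⟩ := D.conj_facts
  have e := congrArg φ D.dfdff2
  generalize t ^ 6 = f at e e6 ⊢
  simpa only [map_pow, map_mul, map_one, e1, e6] using e

theorem qfsf2 : (mate w d * t ^ 6 * σ * t ^ 6) ^ 2 = 1 := by
  obtain ⟨φ, e1, e2, e6, e9⟩ := D.conj_facts
  have e := congrArg φ D.dfsf2
  generalize t ^ 6 = f at e e6 ⊢
  simpa only [map_pow, map_mul, map_one, e1, e2, e6] using e

theorem qfqf5 : (mate w d * t ^ 6 * mate w d * t ^ 9) ^ 5 = 1 := by
  obtain ⟨φ, e1, e2, e6, e9⟩ := D.conj_facts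
  have e := congrArg φ D.dfdf5
  generalize t ^ 6 = f at e e6 ⊢
  generalize t ^ 9 = f9 at e e9 ⊢
  simpa only [map_pow, map_mul, map_one, e1, e6, e9] using e

theorem mate_y : Commute (mate w d) (t ^ 10) := by
  have hw : ∀ n : ℕ, w * t ^ n * w = (t ^ n)⁻¹ := fun n => by
    conv_lhs => rw [show w * t ^ n * w = w * t ^ n * w⁻¹ by rw [S.cfg.winv]]
    rw [← conj_pow, S.cfg.winv, S.cfg.wtw, inv_pow]
  have hww : ∀ a b : G, w * a * w * (w * b * w) = w * (a * b) * w := fun a b => by
    rw [show w * a * w * (w * b * w) = w * a * (w * w) * b * w by group, S.cfg.ww]; group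
  have key : Commute (mate w d) (t ^ 10)⁻¹ := by
    show mate w d * (t ^ 10)⁻¹ = (t ^ 10)⁻¹ * mate w d
    rw [← hw 10, mate, hww, hww, D.dy]
  simpa using key.inv_right

theorem mate_sigma : Commute (mate w d) σ := by
  have c1 : Commute w σ := S.cfg.ws
  exact (c1.mul_left (show Commute d σ from D.ds)).mul_left c1

/-- The two involutions are distinct points. -/
theorem mate_comm : (d * mate w d) ^ 2 = σ := by
  obtain ⟨R, hR⟩ := S.hyp σ ⟨S.cfg.ss, S.sigma_ne⟩
  obtain ⟨F⟩ := hR.exists_frame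
  have hdR := D.point R hR
  have hC : w * σ ∈ centralizer ({σ} : Set G) := mem_centralizer_singleton_iff.2 (by
    rw [mul_assoc, S.cfg.ss, mul_one, S.cfg.ws, ← mul_assoc, S.cfg.ss, one_mul])
  have hqR : mate w d ∈ R := D.mate_eq ▸ hR.nrm _ hC d hdR
  have hnc : d * mate w d ≠ mate w d * d := by
    intro e
    obtain ⟨i, hi⟩ := F.all d hdR D.dd D.ne D.nes
    have hyC : t ^ 10 ∈ centralizer ({σ} : Set G) := mem_centralizer_singleton_iff.2 D.sig_commute.symm.eq
    have hdp : ∀ {c : G}, c ∈ centralizer ({σ} : Set G) → (c * d = d * c ↔ c * F.p i = F.p i * c) := fun hc => by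
      rcases hi with rfl | rfl
      · exact Iff.rfl
      · exact hR.centralizer_mul_z hc
    have hy := hR.act_of_commute F (c := ⟨t ^ 10, hyC⟩) ((hdp hyC).1 D.dy.symm)
    set v : ↥(centralizer ({σ} : Set G)) := ⟨w * σ, hC⟩ with hv
    have hvv : v * v = 1 := Subtype.ext (by
      show w * σ * (w * σ) = 1
      rw [show w * σ * (w * σ) = w * (σ * w) * σ by group, ← S.cfg.ws,
        show w * (w * σ) * σ = w * w * (σ * σ) by group, S.cfg.ww, S.cfg.ss, mul_one])
    let yC : ↥(centralizer ({σ} : Set G)) := ⟨t ^ 10, hyC⟩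
    have hy3 : yC * yC * yC = 1 := Subtype.ext (by
      show t ^ 10 * t ^ 10 * t ^ 10 = 1
      rw [← pow_three']
      exact S.y_three)
    have hinv : v * yC * v = yC⁻¹ := by
      refine eq_inv_of_mul_eq_one_left (Subtype.ext ?_)
      show w * σ * t ^ 10 * (w * σ) * t ^ 10 = 1
      rw [show w * σ * t ^ 10 * (w * σ) = w * (σ * t ^ 10) * (w * σ) by group, D.sig_commute.eq, S.cfg.ws,
        show w * (t ^ 10 * σ) * (σ * w) = w * t ^ 10 * (σ * σ) * w⁻¹⁻¹ by group, S.cfg.ss, mul_one, inv_inv,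
        show w * t ^ 10 * w = w * t ^ 10 * w⁻¹ by rw [S.cfg.winv], ← conj_pow, S.cfg.winv, S.cfg.wtw, inv_pow,
        inv_mul_cancel]
    have hy1 : F.π yC ≠ 1 := fun e' => by
      have hd := orderOf_dvd_natCard R ((F.ker yC).1 e' : t ^ 10 ∈ R)
      rw [hR.card, orderOf_eq_prime (p := 3) S.y_three S.y_ne] at hd
      norm_num at hd
    have hv1 : F.π v ≠ 1 := fun e' => by
      have h2 := congrArg F.π hinv
      rw [map_mul, map_mul, e', one_mul, mul_one, map_inv] at h2
      have h3 := congrArg F.π hy3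
      rw [map_mul, map_mul, map_one, eq_inv_iff_mul_eq_one.1 h2, one_mul] at h3
      exact hy1 h3
    -- `v` fixes the point
    have hvi : JTwo.AltFive.act (F.π v) i = i := by
      rcases hR.commuting_invol hdR D.dd D.ne D.nes hqR D.mate_sq e with e' | e' | e' | e'
      · exact absurd (by
          calc d = w * (w * d * w) * w := by
                rw [show w * (w * d * w) * w = w * w * d * (w * w) by group, S.cfg.ww, one_mul, mul_one]
            _ = 1 := by rw [show w * d * w = 1 from e', mul_one, S.cfg.ww]) D.ne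
      · exact absurd (by
          calc d = w * (w * d * w) * w := by
                rw [show w * (w * d * w) * w = w * w * d * (w * w) by group, S.cfg.ww, one_mul, mul_one]
            _ = σ := by rw [show w * d * w = σ from e', S.cfg.ws, mul_assoc, S.cfg.ww, mul_one]) D.nes
      all_goals
        by_contra hne
        have h2 : (v : G) * d * (v : G)⁻¹ = mate w d := D.mate_eq.symm
        have hvσ : (v : G) * σ * (v : G)⁻¹ = σ := D.conj_sigma
        have h3 : (v : G) * F.p i * (v : G)⁻¹ = F.p i ∨ (v : G) * F.p i * (v : G)⁻¹ = F.p i * σ := by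
          rw [e'] at h2
          rcases hi with rfl | rfl
          · first | exact Or.inl h2 | exact Or.inr h2
          · rw [show (v : G) * (F.p i * σ) * (v : G)⁻¹ = (v : G) * F.p i * (v : G)⁻¹ * ((v : G) * σ * (v : G)⁻¹) by group,
              hvσ] at h2
            first
            | exact Or.inl (mul_right_cancel h2)
            | (refine Or.inr (mul_right_cancel (b := σ) ?_); rw [h2])
        rcases h3 with h3 | h3 <;> rcases F.equi v i with h4 | h4 <;> rw [h3] at h4
        · exact F.noncomm _ _ (Ne.symm hne) (by rw [← h4])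
        · refine F.noncomm _ _ (Ne.symm hne) ?_
          rw [h4, mul_assoc, ← hR.z_comm (F.mem _)]
        · refine F.noncomm _ _ (Ne.symm hne) ?_
          rw [← h4, ← mul_assoc, mul_assoc (F.p i) σ (F.p i), ← hR.z_comm (F.mem i)]
          group
        · refine F.noncomm _ _ (Ne.symm hne) ?_
          rw [mul_right_cancel h4]
    refine no_common_point ⟨F.π v, by rw [← map_mul, hvv, map_one], hv1⟩
      ⟨F.π yC, by rw [← map_mul, ← map_mul, hy3, map_one], hy1⟩ ?_ i hy hvi
    show F.π v * F.π yC * F.π v = (F.π yC)⁻¹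
    rw [← map_mul, ← map_mul, hinv, map_inv]
  rw [pow_two]
  have hc := (hR.comm d hdR _ hqR).resolve_left hnc
  calc d * mate w d * (d * mate w d) = σ * (mate w d * d) * (d * mate w d) := by rw [← hc]
    _ = σ * (mate w d * (d * d) * mate w d) := by group
    _ = σ := by rw [D.dd, mul_one, D.mate_sq, mul_one]

end Transv

end CfsgLib.Invol.JThreeType
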