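import Cfsg.Agent.Lib.Invol.JThreeType.Out

/-!
# The elementary abelian groups of order sixteen

The centralizer of two commuting involutions outside each other's extraspecial groups, for one class of
involutions.
-/

set_option autoImplicit false

namespace CfsgLib.Invol.JThreeType

open Subgroup
open CfsgLib.Invol.JTwo (PreHyp Frame Out cj mem_cj mem_centralizer_conj card_orbit_mul)

local notation "A" => alternatingGroup (Fin 5)

variable {G : Type*} [Group G] {z : G} {Q : Subgroup G}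

namespace Hyp

variable (h : Hyp z Q) (F : Frame z Q)
include h

theorem out_mem_big {x : G} (hx : Out z Q x) {i : Fin 5} (hi : JTwo.AltFive.act (F.π ⟨x, hx.1⟩) i = i) :
    x ∈ F.big i :=
  (h.mem_big F).2 ⟨hx.1, (h.pi_invol F hx).1, h.commute_point F hx hi⟩

section finite

variable [Finite G]

theorem side_mem_big {i : Fin 5} {u g : G} (hu : u = F.p i ∨ u = F.p i * z) (hg : g * z * g⁻¹ = u) {y : G}
    (hy : y ∈ cj g Q) (hyC : y ∈ centralizer ({z} : Set G)) : y ∈ F.big i ∧ (y * y = 1 ∨ y * y = u) := by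
  have h' : Hyp u (cj g Q) := hg ▸ h.conj g
  have hcomm : y * F.p i = F.p i * y := by
    have e := h'.z_comm hy
    rcases hu with rfl | rfl
    · exact e
    · exact (h.centralizer_mul_z hyC).1 e
  refine ⟨(h.mem_big F).2 ⟨hyC, ?_, hcomm⟩, h'.sq y hy⟩
  rw [← map_mul, F.ker]
  show y * y ∈ Q
  rcases h'.sq y hy with e | e <;> rw [e]
  · exact Q.one_mem
  · rcases hu with rfl | rfl
    · exact F.mem i
    · exact mul_mem (F.mem i) h.zmem

/-- The conjugate of `Q` covers the four-group. -/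
theorem side_surj {i : Fin 5} {u g : G} (hu : u = F.p i ∨ u = F.p i * z) (hg : g * z * g⁻¹ = u) :
    ∀ k ∈ JTwo.AltFive.four i, ∃ y, ∃ hy : y ∈ centralizer ({z} : Set G), y ∈ cj g Q ∧ F.π ⟨y, hy⟩ = k := by
  have huQ : u ∈ Q := by
    rcases hu with rfl | rfl
    exacts [F.mem i, mul_mem (F.mem i) h.zmem]
  have huz : u ≠ z := by
    rcases hu with rfl | rfl
    exacts [F.ne_z i, fun e => F.ne_one i (mul_eq_right.1 e)]
  have huo : orderOf u = 2 := hg ▸ invol_conj h.inv g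
  have h' : Hyp u (cj g Q) := hg ▸ h.conj g
  set D := cj g Q ⊓ centralizer ({z} : Set G)
  have hD := (h'.card_pair (h.z_mem_cj huQ huz hg) h.zz h.z_ne huz.symm).1
  have hDQ : Nat.card (D ⊓ Q : Subgroup G) = 4 := by
    rw [← h.ncard_four (invol_ne_one huo) huz, ← Nat.card_coe_set_eq]
    refine Nat.card_congr (Equiv.subtypeEquivRight fun y => ?_)
    simp only [Set.mem_insert_iff, Set.mem_singleton_iff]
    rw [← h.inf_cj huQ huz hg]
    exact ⟨fun e => ⟨e.2, e.1.1⟩, fun e => ⟨⟨e.2, h.le e.1⟩, e.1⟩⟩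
  have hc := h.card_sub F (inf_le_right : D ≤ _)
  rw [show Nat.card D = 16 from hD, hDQ] at hc
  have hle : (D.subgroupOf (centralizer ({z} : Set G))).map F.π ≤ JTwo.AltFive.four i := by
    rintro _ ⟨c, hc', rfl⟩
    obtain ⟨hr, h2, hp⟩ := (h.mem_big F).1 (h.side_mem_big F hu hg hc'.1 c.2).1
    exact ⟨h2, h.act_of_commute F hp⟩
  have heq := eq_of_le_of_card_ge hle (by rw [JTwo.AltFive.card_four]; exact le_of_eq (Nat.eq_of_mul_eq_mul_left (show 0 < 4 by norm_num) (show 4 * 4 = 4 * _ from hc)))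
  intro k hk
  obtain ⟨c, hc', rfl⟩ := heq.ge hk
  exact ⟨c, c.2, hc'.1, rfl⟩

/-- An element of the conjugate of `Q` outside `Q` squares to its centre. -/
theorem side_sq {i : Fin 5} {u g : G} (hu : u = F.p i ∨ u = F.p i * z) (hg : g * z * g⁻¹ = u) {y : G}
    (hy : y ∈ cj g Q) (hyC : y ∈ centralizer ({z} : Set G)) (hyQ : y ∉ Q) : y * y = u := by
  have huQ : u ∈ Q := by
    rcases hu with rfl | rfl
    exacts [F.mem i, mul_mem (F.mem i) h.zmem]
  have huz : u ≠ z := by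
    rcases hu with rfl | rfl
    exacts [F.ne_z i, fun e => F.ne_one i (mul_eq_right.1 e)]
  have h' : Hyp u (cj g Q) := hg ▸ h.conj g
  refine ((h.side_mem_big F hu hg hy hyC).2).resolve_left fun e => hyQ ?_
  rcases h'.commuting_invol (h.z_mem_cj huQ huz hg) h.zz h.z_ne huz.symm hy e
    (mem_centralizer_singleton_iff.1 hyC).symm with e | e | e | e <;> rw [e]
  exacts [Q.one_mem, huQ, h.zmem, mul_mem h.zmem huQ]

theorem conj_point (i : Fin 5) : (∃ g, g * z * g⁻¹ = F.p i) ∧ ∃ g, g * z * g⁻¹ = F.p i * z :=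
  ⟨h.exists_conj ⟨F.inv i, F.ne_one i⟩,
    h.exists_conj ⟨h.mul_z_inv (F.mem i) (F.inv i), fun e => F.ne_z i (by
      calc F.p i = F.p i * z * z := by rw [mul_assoc, h.zz, mul_one]
        _ = z := by rw [e, one_mul])⟩⟩

theorem commute_four {i : Fin 5} {e : G} (he : e = 1 ∨ e = z ∨ e = F.p i ∨ e = F.p i * z) {r : G}
    (hr : r ∈ F.big i) : e * r = r * e := by
  obtain ⟨hrC, -, hrp⟩ := (h.mem_big F).1 hr
  have hrz := mem_centralizer_singleton_iff.1 hrC
  rcases he with rfl | rfl | rfl | rfl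
  · simp
  · exact hrz.symm
  · exact hrp.symm
  · exact ((h.centralizer_mul_z hrC).2 hrp).symm

/-- The classification of a coset in `R`. -/
theorem big_cases {x : G} (hx : Out z Q x) {i : Fin 5} (hi : JTwo.AltFive.act (F.π ⟨x, hx.1⟩) i = i)
    {ga gb : G} (hga : ga * z * ga⁻¹ = F.p i) (hgb : gb * z * gb⁻¹ = F.p i * z)
    {r : G} (hr : r ∈ F.big i) (hrQ : r ∉ Q) :
    r ∈ cj ga Q ∨ r ∈ cj gb Q ∨ r * r = 1 := by
  classical
  letI := Fintype.ofFinite G
  obtain ⟨hrC, hr2, hrp⟩ := (h.mem_big F).1 hr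
  set k := F.π ⟨r, hrC⟩ with hk
  have hk1 : k ≠ 1 := fun e => hrQ ((F.ker _).1 e)
  have hk4 : k ∈ JTwo.AltFive.four i := ⟨hr2, h.act_of_commute F hrp⟩
  let Fib : Finset G := Finset.univ.filter fun s => s ∈ F.big i ∧
    ∀ hs : s ∈ centralizer ({z} : Set G), F.π ⟨s, hs⟩ = k
  have memFib : ∀ {s : G}, s ∈ Fib ↔ s ∈ F.big i ∧ ∀ hs : s ∈ centralizer ({z} : Set G), F.π ⟨s, hs⟩ = k := by
    simp [Fib]
  let U : Finset G := Finset.univ.filter fun q => q ∈ Q ∧ q * F.p i = F.p i * q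
  have hU : U.card = 16 := by
    rw [← (h.card_point F i).1, Nat.card_eq_fintype_card, Fintype.card_subtype]
    congr 1; ext q; simp [U, mem_centralizer_singleton_iff]
  have hFib : Fib.card = 16 := by
    rw [← hU]
    refine Finset.card_bij (fun s _ => r⁻¹ * s) (fun s hs => ?_) (fun a _ b _ e => mul_left_cancel e)
      (fun q hq => ⟨r * q, ?_, by group⟩)
    · obtain ⟨hs1, hs2⟩ := memFib.1 hs
      obtain ⟨hsC, -, -⟩ := (h.mem_big F).1 hs1
      simp only [U, Finset.mem_filter, Finset.mem_univ, true_and]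
      refine ⟨(F.ker ((⟨r, hrC⟩ : ↥(centralizer ({z} : Set G)))⁻¹ * ⟨s, hsC⟩)).1 (by
        rw [map_mul, map_inv, hs2 hsC, ← hk, inv_mul_cancel]), ?_⟩
      exact mem_centralizer_singleton_iff.1 ((mul_mem (inv_mem hr) hs1).2)
    · simp only [U, Finset.mem_filter, Finset.mem_univ, true_and] at hq
      have hqC := h.le hq.1
      refine memFib.2 ⟨mul_mem hr ((h.mem_big F).2 ⟨hqC, ?_, hq.2⟩), fun hs => ?_⟩
      · rw [(F.ker ⟨q, hqC⟩).2 hq.1, one_mul]
      · rw [show (⟨r * q, hs⟩ : ↥(centralizer ({z} : Set G))) = ⟨r, hrC⟩ * ⟨q, hqC⟩ from rfl, map_mul,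
          (F.ker ⟨q, hqC⟩).2 hq.1, mul_one]
  have hside : ∀ {u g : G}, (u = F.p i ∨ u = F.p i * z) → g * z * g⁻¹ = u →
      4 ≤ (Fib.filter fun s => s ∈ cj g Q).card ∧ ∀ s ∈ Fib, s ∈ cj g Q → s * s = u := by
    intro u g hu hg
    obtain ⟨y, hyC, hy, hyk⟩ := h.side_surj F hu hg k hk4
    have huQ : u ∈ Q := by
      rcases hu with rfl | rfl
      exacts [F.mem i, mul_mem (F.mem i) h.zmem]
    have huz : u ≠ z := by
      rcases hu with rfl | rfl
      exacts [F.ne_z i, fun e => F.ne_one i (mul_eq_right.1 e)]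
    have hu1 : u ≠ 1 := invol_ne_one (hg ▸ invol_conj h.inv g)
    refine ⟨?_, fun s hs hsj => ?_⟩
    · rw [← h.ncard_four hu1 huz]
      have hmap : ∀ e ∈ ({1, z, u, u * z} : Finset G), y * e ∈ Fib.filter fun s => s ∈ cj g Q := by
        intro e he
        simp only [Finset.mem_insert, Finset.mem_singleton] at he
        obtain ⟨heQ, hej⟩ := (h.inf_cj huQ huz hg e).2 he
        have heC := h.le heQ
        rw [Finset.mem_filter]
        refine ⟨memFib.2 ⟨(h.side_mem_big F hu hg (mul_mem hy hej) (mul_mem hyC heC)).1, fun hs => ?_⟩,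
          mul_mem hy hej⟩
        rw [show (⟨y * e, hs⟩ : ↥(centralizer ({z} : Set G))) = ⟨y, hyC⟩ * ⟨e, heC⟩ from rfl, map_mul,
          (F.ker ⟨e, heC⟩).2 heQ, mul_one, hyk]
      calc ({1, z, u, u * z} : Set G).ncard = ({1, z, u, u * z} : Finset G).card := by
            rw [← Set.ncard_coe_finset]; simp
        _ ≤ _ := Finset.card_le_card_of_injOn (fun e => y * e) hmap fun a _ b _ e => mul_left_cancel e
    · obtain ⟨hs1, hs2⟩ := memFib.1 hs
      obtain ⟨hsC, -, -⟩ := (h.mem_big F).1 hs1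
      exact h.side_sq F hu hg hsj hsC fun hsQ => hk1 (by rw [← hs2 hsC, (F.ker ⟨s, hsC⟩).2 hsQ])
  obtain ⟨ha4, ha2⟩ := hside (Or.inl rfl) hga
  obtain ⟨hb4, hb2⟩ := hside (Or.inr rfl) hgb
  have hout : 8 ≤ (Fib.filter fun s => s * s = 1).card := by
    obtain ⟨c, hc, -⟩ := h.side_surj F (i := i) (Or.inl rfl) hga k hk4
    obtain ⟨c', hc'⟩ := JTwo.AltFive.invol_conj _ k (h.pi_invol F hx).1 (h.pi_invol F hx).2 hr2 hk1
    obtain ⟨d, rfl⟩ := F.surj c'
    have hy : Out z Q ((d : G) * x * (d : G)⁻¹) := by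
      refine ⟨mul_mem (mul_mem d.2 hx.1) (inv_mem d.2), fun hm => hx.2.1 ?_, ?_⟩
      · have := h.nrm _ (inv_mem d.2) _ hm; simpa [mul_assoc] using this
      · rw [show (d : G) * x * (d : G)⁻¹ * ((d : G) * x * (d : G)⁻¹) = (d : G) * (x * x) * (d : G)⁻¹ by group,
          hx.2.2, mul_one, mul_inv_cancel]
    have hyk : F.π ⟨_, hy.1⟩ = k := by rw [← hc', ← map_inv, ← map_mul, ← map_mul]; rfl
    rw [← h.card_fiber F hy, Nat.card_eq_fintype_card, Fintype.card_subtype]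
    refine Finset.card_le_card fun s hs => ?_
    simp only [Finset.mem_filter, Finset.mem_univ, true_and] at hs
    obtain ⟨hso, hsk⟩ := hs
    rw [hyk] at hsk
    exact Finset.mem_filter.2 ⟨memFib.2 ⟨h.out_mem_big F hso (by rw [hsk]; exact hk4.2), fun _ => hsk⟩, hso.2.2⟩
  by_contra hno
  push Not at hno
  obtain ⟨n1, n2, n3⟩ := hno
  have hsub : (Fib.filter fun s => s ∈ cj ga Q) ∪ (Fib.filter fun s => s ∈ cj gb Q) ∪
      (Fib.filter fun s => s * s = 1) ⊆ Fib.erase r := by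
    intro s hs
    simp only [Finset.mem_union, Finset.mem_filter, Finset.mem_erase] at hs ⊢
    rcases hs with (⟨h1, h2⟩ | ⟨h1, h2⟩) | ⟨h1, h2⟩ <;> exact ⟨fun e => by subst e; first | exact n1 h2 | exact n2 h2 | exact n3 h2, h1⟩
  have d1 : Disjoint (Fib.filter fun s => s ∈ cj ga Q) (Fib.filter fun s => s ∈ cj gb Q) := by
    refine Finset.disjoint_left.2 fun s h1 h2 => ?_
    rw [Finset.mem_filter] at h1 h2
    exact h.z_ne (mul_eq_left.1 ((hb2 s h2.1 h2.2).symm.trans (ha2 s h1.1 h1.2)))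
  have d2 : Disjoint ((Fib.filter fun s => s ∈ cj ga Q) ∪ (Fib.filter fun s => s ∈ cj gb Q))
      (Fib.filter fun s => s * s = 1) := by
    refine Finset.disjoint_left.2 fun s h1 h2 => ?_
    replace h2 := Finset.mem_filter.1 h2
    rcases Finset.mem_union.1 h1 with h1 | h1 <;> replace h1 := Finset.mem_filter.1 h1
    · exact F.ne_one i ((ha2 s h1.1 h1.2).symm.trans h2.2)
    · exact F.ne_z i (by
        calc F.p i = F.p i * z * z := by rw [mul_assoc, h.zz, mul_one]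
          _ = z := by rw [(hb2 s h1.1 h1.2).symm.trans h2.2, one_mul])
  have hle := Finset.card_le_card hsub
  have hmem : r ∈ Fib := memFib.2 ⟨hr, fun _ => rfl⟩
  rw [Finset.card_erase_of_mem hmem, Finset.card_union_of_disjoint d2, Finset.card_union_of_disjoint d1] at hle
  omega


/-- Two elements of `R` commute modulo its four group. -/
theorem big_comm (i : Fin 5) {r s : G} (hr : r ∈ F.big i) (hs : s ∈ F.big i) :
    ∃ e, (e = 1 ∨ e = z ∨ e = F.p i ∨ e = F.p i * z) ∧ r * s = e * (s * r) := by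
  classical
  set R := F.big i
  obtain ⟨⟨g, hg⟩, -⟩ := h.conj_point F i
  let IsE : G → Prop := fun e => e = 1 ∨ e = z ∨ e = F.p i ∨ e = F.p i * z
  have hE : ∀ e, IsE e → ∀ r ∈ R, e * r = r * e := fun e he r hr => h.commute_four F he hr
  have hEprod : ∀ e f, IsE e → IsE f → IsE (e * f) := by
    intro e f he hf
    have he' := (h.inf_cj (F.mem i) (F.ne_z i) hg e).2 he
    have hf' := (h.inf_cj (F.mem i) (F.ne_z i) hg f).2 hf
    exact (h.inf_cj (F.mem i) (F.ne_z i) hg _).1 ⟨mul_mem he'.1 hf'.1, mul_mem he'.2 hf'.2⟩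
  -- every element is a product of the two sides
  have hsplit : ∀ r ∈ R, ∃ q y, q ∈ Q ∧ q ∈ R ∧ y ∈ cj g Q ∧ y ∈ R ∧ r = q * y := by
    intro r hr
    obtain ⟨hrC, hr2, hrp⟩ := (h.mem_big F).1 hr
    obtain ⟨y, hyC, hy, hyk⟩ := h.side_surj F (i := i) (Or.inl rfl) hg _ ⟨hr2, h.act_of_commute F hrp⟩
    have hyR := (h.side_mem_big F (Or.inl rfl) hg hy hyC).1
    exact ⟨r * y⁻¹, y, (F.ker (⟨r, hrC⟩ * (⟨y, hyC⟩ : ↥(centralizer ({z} : Set G)))⁻¹)).1 (by
      rw [map_mul, map_inv, hyk, mul_inv_cancel]), mul_mem hr (inv_mem hyR), hy, hyR, by group⟩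
  have hQQ : ∀ q ∈ Q, ∀ q' ∈ Q, ∃ e, IsE e ∧ q * q' = e * (q' * q) := fun q hq q' hq' =>
    (h.comm q hq q' hq').elim (fun e => ⟨1, Or.inl rfl, by rw [one_mul, e]⟩) fun e => ⟨z, Or.inr (Or.inl rfl), e⟩
  have h' : Hyp (F.p i) (cj g Q) := hg ▸ h.conj g
  have hYY : ∀ q ∈ cj g Q, ∀ q' ∈ cj g Q, ∃ e, IsE e ∧ q * q' = e * (q' * q) := fun q hq q' hq' =>
    (h'.comm q hq q' hq').elim (fun e => ⟨1, Or.inl rfl, by rw [one_mul, e]⟩)
      fun e => ⟨F.p i, Or.inr (Or.inr (Or.inl rfl)), e⟩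
  have hQY : ∀ q ∈ Q, q ∈ R → ∀ y ∈ cj g Q, y ∈ R → ∃ e, IsE e ∧ q * y = e * (y * q) := by
    intro q hq hqR y hy hyR
    refine ⟨q * y * q⁻¹ * y⁻¹, (h.inf_cj (F.mem i) (F.ne_z i) hg _).1 ⟨?_, ?_⟩, by group⟩
    · rw [show q * y * q⁻¹ * y⁻¹ = q * (y * q⁻¹ * y⁻¹) by group]
      obtain ⟨hyC, -, -⟩ := (h.mem_big F).1 hyR
      exact mul_mem hq (h.nrm y hyC _ (inv_mem hq))
    · obtain ⟨-, -, hqp⟩ := (h.mem_big F).1 hqR
      exact mul_mem (h'.nrm q (mem_centralizer_singleton_iff.2 hqp) y hy) (inv_mem hy)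
  suffices key : ∀ r ∈ R, ∀ s ∈ R, ∃ e, IsE e ∧ r * s = e * (s * r) from key r hr s hs
  clear hr hs r s
  intro r hr s hs
  obtain ⟨q, y, hq, hqR, hy, hyR, rfl⟩ := hsplit r hr
  obtain ⟨q', y', hq', hq'R, hy', hy'R, rfl⟩ := hsplit s hs
  obtain ⟨e1, he1, p1⟩ := hQY q' hq' hq'R y hy hyR
  obtain ⟨e2, he2, p2⟩ := hQQ q hq q' hq'
  obtain ⟨e3, he3, p3⟩ := hYY y hy y' hy'
  obtain ⟨e4, he4, p4⟩ := hQY q hq hqR y' hy' hy'R
  have heinv : ∀ e, IsE e → IsE e⁻¹ := fun e he => by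
    rcases he with rfl | rfl | rfl | rfl
    · exact Or.inl inv_one
    · exact Or.inr (Or.inl (inv_eq_of_mul_eq_one_right h.zz))
    · exact Or.inr (Or.inr (Or.inl (inv_eq_of_mul_eq_one_right (F.inv i))))
    · exact Or.inr (Or.inr (Or.inr (inv_eq_of_mul_eq_one_right (h.mul_z_inv (F.mem i) (F.inv i)))))
  refine ⟨e1⁻¹ * e2 * e3 * e4, hEprod _ _ (hEprod _ _ (hEprod _ _ (heinv _ he1) he2) he3) he4, ?_⟩
  have c3 := hE e3 he3 _ (mul_mem hq'R hqR)
  have c4 := hE e4 he4 _ hq'R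
  have c1 := hE e1⁻¹ (heinv _ he1) _ hqR
  calc q * y * (q' * y') = q * (e1⁻¹ * (e1 * (y * q'))) * y' := by group
    _ = e1⁻¹ * (q * q') * (y * y') := by rw [← p1, ← mul_assoc q, ← c1]; group
    _ = e1⁻¹ * e2 * (q' * q * e3) * (y' * y) := by rw [p2, p3]; group
    _ = e1⁻¹ * e2 * e3 * q' * (q * y') * y := by rw [← c3]; group
    _ = e1⁻¹ * e2 * e3 * (q' * e4) * (y' * q) * y := by rw [p4]; group
    _ = _ := by rw [← c4]; group

/-- The order of `R`. -/
theorem card_big (i : Fin 5) : Nat.card (F.big i) = 64 := by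
  classical
  set R := F.big i
  have hRC : R ≤ centralizer ({z} : Set G) := fun r hr => ((h.mem_big F).1 hr).1
  rw [h.card_sub F hRC]
  have e1 : R ⊓ Q = Q ⊓ centralizer ({F.p i} : Set G) := by
    ext q
    simp only [mem_inf, mem_centralizer_singleton_iff]
    exact ⟨fun e => ⟨e.2, ((h.mem_big F).1 e.1).2.2⟩, fun e => ⟨(h.mem_big F).2 ⟨h.le e.1,
      by rw [(F.ker ⟨q, h.le e.1⟩).2 e.1, one_mul], e.2⟩, e.1⟩⟩
  have e2 : (R.subgroupOf (centralizer ({z} : Set G))).map F.π = JTwo.AltFive.four i := by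
    refine le_antisymm ?_ fun k hk => ?_
    · rintro _ ⟨c, hc, rfl⟩
      obtain ⟨_, h2, hp⟩ := (h.mem_big F).1 (mem_subgroupOf.1 hc)
      exact ⟨h2, h.act_of_commute F hp⟩
    · obtain ⟨c, rfl, hc⟩ := h.exists_lift F k i hk.2
      exact ⟨c, mem_subgroupOf.2 ((h.mem_big F).2 ⟨c.2, hk.1, hc⟩), rfl⟩
  rw [e1, (h.card_point F i).1, e2, JTwo.AltFive.card_four]

/-- The centralizer of an outer involution lies in `R`. -/
theorem outer_le_big {x : G} (hx : Out z Q x) {i : Fin 5} (hi : JTwo.AltFive.act (F.π ⟨x, hx.1⟩) i = i) :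
    centralizer ({z} : Set G) ⊓ centralizer ({x} : Set G) ≤ F.big i := by
  classical
  set R := F.big i
  have hxR : x ∈ R := h.out_mem_big F hx hi
  have key : ∀ r ∈ R, ∀ s ∈ R, ∃ e, (e = 1 ∨ e = z ∨ e = F.p i ∨ e = F.p i * z) ∧ r * s = e * (s * r) :=
    fun r hr s hs => h.big_comm F i hr hs
  -- the orbit of `x` has at most four elements
  have h3 := card_orbit_mul R x
  have horb : Nat.card {y : G // ∃ c ∈ R, c * x * c⁻¹ = y} ≤ 4 := by
    show Nat.card ↥{y : G | ∃ c ∈ R, c * x * c⁻¹ = y} ≤ 4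
    rw [Nat.card_coe_set_eq]
    refine le_trans (Set.ncard_le_ncard (t := (fun e => e * x) '' {1, z, F.p i, F.p i * z}) ?_
      (Set.toFinite _)) (le_trans (Set.ncard_image_le (Set.toFinite _))
        (h.ncard_four (F.ne_one i) (F.ne_z i)).le)
    rintro _ ⟨c, hc, rfl⟩
    obtain ⟨e, he, p⟩ := key c hc x hxR
    exact ⟨e, by simpa using he, by
      show e * x = c * x * c⁻¹
      rw [p]; group⟩
  have hR : Nat.card R = 64 := h.card_big F i
  have hle : R ⊓ centralizer ({x} : Set G) ≤ centralizer ({z} : Set G) ⊓ centralizer ({x} : Set G) :=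
    fun c hc => ⟨((h.mem_big F).1 hc.1).1, hc.2⟩
  have heq := eq_of_le_of_card_ge hle (by rw [(h.outer_class hx).1]; rw [hR] at h3; nlinarith)
  exact heq.ge.trans inf_le_left


/-- The centralizer of an outer involution. -/
theorem outer_struct {x : G} (hx : Out z Q x) {i : Fin 5} (hi : JTwo.AltFive.act (F.π ⟨x, hx.1⟩) i = i) :
    (∀ a ∈ centralizer ({z} : Set G) ⊓ centralizer ({x} : Set G),
      ∀ b ∈ centralizer ({z} : Set G) ⊓ centralizer ({x} : Set G), a * b = b * a) ∧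
    (∀ a ∈ centralizer ({z} : Set G) ⊓ centralizer ({x} : Set G), a * a = 1) ∧
    ∀ a ∈ centralizer ({z} : Set G) ⊓ centralizer ({x} : Set G), a * F.p i = F.p i * a := by
  classical
  have hle := h.outer_le_big F hx hi
  set W := centralizer ({z} : Set G) ⊓ centralizer ({x} : Set G)
  set g := F.π ⟨x, hx.1⟩ with hgdef
  obtain ⟨hg, hg1⟩ := h.pi_invol F hx
  have hxx : ∀ {a : G}, a ∈ W → a * x = x * a := fun ha => mem_centralizer_singleton_iff.1 ha.2
  have hQW : ∀ {q : G}, q ∈ W → q ∈ Q → ∀ {b : G}, b ∈ W → q * b = b * q := fun hq hqQ _ hb =>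
    h.commute_four F ((h.inf_outer F hx hi _).1 ⟨hqQ, hxx hq⟩) (hle hb)
  have hpi : ∀ {a : G} (ha : a ∈ W), F.π ⟨a, ha.1⟩ * F.π ⟨a, ha.1⟩ = 1 ∧
      JTwo.AltFive.act (F.π ⟨a, ha.1⟩) i = i := fun ha => by
    obtain ⟨hc, h2, hp⟩ := (h.mem_big F).1 (hle ha)
    exact ⟨h2, h.act_of_commute F hp⟩
  have hxW : x ∈ W := ⟨hx.1, mem_centralizer_singleton_iff.2 rfl⟩
  have hsame : ∀ {a b : G} (ha : a ∈ W) (hb : b ∈ W), F.π ⟨a, ha.1⟩ = F.π ⟨b, hb.1⟩ → a⁻¹ * b ∈ Q :=
    fun ha hb e => (F.ker ((⟨_, ha.1⟩ : ↥(centralizer ({z} : Set G)))⁻¹ * ⟨_, hb.1⟩)).1 (by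
      rw [map_mul, map_inv, e, inv_mul_cancel])
  have hzcen : ∀ {a : G} (ha : a ∈ W), (F.π ⟨a, ha.1⟩ = 1 ∨ F.π ⟨a, ha.1⟩ = g) → ∀ {b : G}, b ∈ W → a * b = b * a := by
    intro a ha hc b hb
    rcases hc with e | e
    · exact hQW ha ((F.ker _).1 e) hb
    · have hq := hsame hxW ha e.symm
      have hqW : x⁻¹ * a ∈ W := mul_mem (inv_mem hxW) ha
      calc a * b = x * ((x⁻¹ * a) * b) := by group
        _ = x * (b * (x⁻¹ * a)) := by rw [hQW hqW hq hb]
        _ = x * b * x⁻¹ * a := by group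
        _ = b * a := by rw [← hxx hb, mul_inv_cancel_right]
  have hab : ∀ a ∈ W, ∀ b ∈ W, a * b = b * a := by
    intro a ha b hb
    by_cases ea : F.π ⟨a, ha.1⟩ = 1 ∨ F.π ⟨a, ha.1⟩ = g
    · exact hzcen ha ea hb
    push Not at ea
    rcases JTwo.AltFive.four_cases g (F.π ⟨a, ha.1⟩) (F.π ⟨b, hb.1⟩) hg (hpi ha).1 (hpi hb).1 i hi (hpi ha).2
      (hpi hb).2 hg1 ea.1 ea.2 with e | e | e | e
    · exact (hzcen hb (Or.inl e) ha).symm
    · exact (hzcen hb (Or.inr e) ha).symm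
    · have hq := hsame ha hb e.symm
      have := hQW (mul_mem (inv_mem ha) hb) hq ha
      calc a * b = a * (a * (a⁻¹ * b)) := by group
        _ = a * ((a⁻¹ * b) * a) := by rw [← this]
        _ = b * a := by group
    · have hax : a * x ∈ W := mul_mem ha hxW
      have hq := hsame hax hb (by rw [e]; exact map_mul F.π ⟨a, ha.1⟩ ⟨x, hx.1⟩)
      have := hQW (mul_mem (inv_mem hax) hb) hq ha
      calc a * b = a * (a * x * ((a * x)⁻¹ * b)) := by group
        _ = a * x * (a * ((a * x)⁻¹ * b)) := by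
          rw [show a * (a * x * ((a * x)⁻¹ * b)) = a * (a * x) * ((a * x)⁻¹ * b) by group,
            show a * (a * x) = a * x * a by rw [mul_assoc a x a, ← hxx ha]]
          group
        _ = a * x * (((a * x)⁻¹ * b) * a) := by rw [← this]
        _ = b * a := by group
  refine ⟨hab, fun a ha => ?_, fun a ha => ((h.mem_big F).1 (hle ha)).2.2⟩
  by_cases haQ : a ∈ Q
  · rcases (h.inf_outer F hx hi a).1 ⟨haQ, hxx ha⟩ with e | e | e | e <;> subst e
    · exact one_mul 1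
    · exact h.zz
    · exact F.inv i
    · exact h.mul_z_inv (F.mem i) (F.inv i)
  obtain ⟨⟨ga, hga⟩, gb, hgb⟩ := h.conj_point F i
  have hax : a * x ∈ W := mul_mem ha hxW
  have hsq : a * x * (a * x) = a * a := by
    calc a * x * (a * x) = a * (x * a) * x := by group
      _ = a * a * (x * x) := by rw [← hxx ha]; group
      _ = a * a := by rw [hx.2.2, mul_one]
  have bad : ∀ {u gu : G}, (u = F.p i ∨ u = F.p i * z) → gu * z * gu⁻¹ = u →
      (∀ s ∈ W, s ∉ Q → s * s = u → s ∈ cj gu Q) → a ∈ cj gu Q → False := by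
    intro u gu hu hgu hrec hin
    have e := h.side_sq F hu hgu hin ha.1 haQ
    by_cases hq : a * x ∈ Q
    · -- then `a` lies over the image of `x`
      have hsq' : a * x * (a * x) = 1 := by
        rcases (h.inf_outer F hx hi _).1 ⟨hq, hxx hax⟩ with e | e | e | e <;> rw [e]
        · exact one_mul 1
        · exact h.zz
        · exact F.inv i
        · exact h.mul_z_inv (F.mem i) (F.inv i)
      rw [hsq, e] at hsq'
      exact invol_ne_one (hgu ▸ invol_conj h.inv gu) hsq'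
    · have hin' := hrec _ hax hq (hsq.trans e)
      have hxin : x ∈ cj gu Q := by
        have := mul_mem (inv_mem hin) hin'
        rwa [inv_mul_cancel_left] at this
      exact invol_ne_one (hgu ▸ invol_conj h.inv gu) ((h.side_sq F hu hgu hxin hx.1 hx.2.1).symm.trans hx.2.2)
  have hrec : ∀ s ∈ W, s ∉ Q → (s * s = F.p i → s ∈ cj ga Q) ∧ (s * s = F.p i * z → s ∈ cj gb Q) := by
    intro s hs hsQ
    rcases h.big_cases F hx hi hga hgb (hle hs) hsQ with e | e | e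
    · refine ⟨fun _ => e, fun e' => absurd ?_ h.z_ne⟩
      exact mul_eq_left.1 (e'.symm.trans (h.side_sq F (Or.inl rfl) hga e hs.1 hsQ))
    · refine ⟨fun e' => absurd ?_ h.z_ne, fun _ => e⟩
      exact mul_eq_left.1 ((h.side_sq F (Or.inr rfl) hgb e hs.1 hsQ).symm.trans e')
    · refine ⟨fun e' => absurd (e'.symm.trans e) (F.ne_one i), fun e' => absurd (e'.symm.trans e) ?_⟩
      exact invol_ne_one (hgb ▸ invol_conj h.inv gb)
  rcases h.big_cases F hx hi hga hgb (hle ha) haQ with e | e | e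
  · exact (bad (Or.inl rfl) hga (fun s h1 h2 => (hrec s h1 h2).1) e).elim
  · exact (bad (Or.inr rfl) hgb (fun s h1 h2 => (hrec s h1 h2).2) e).elim
  · exact e

end finite

end Hyp

end CfsgLib.Invol.JThreeType
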