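import Cfsg.Agent.Lib.Invol.JThreeType.Sixteen.Cosets
import Mathlib.Algebra.CharP.Frobenius
import Mathlib.GroupTheory.IndexNormal

/-!
# Recognition of `SL(2,16):2`
-/

set_option autoImplicit false

namespace CfsgLib.Invol.JThreeType

open Subgroup Matrix

/-- The Moebius action of `SL(2,K)` on the projective line. -/
def lineHom (K : Type) [Field K] [DecidableEq K] :
    SpecialLinearGroup (Fin 2) K →* Equiv.Perm (OnePoint K) :=
  (MulAction.toPermHom (GL (Fin 2) K) (OnePoint K)).comp SpecialLinearGroup.toGL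

theorem lineHom_eq_one {K : Type} [Field K] [DecidableEq K] [CharP K 2] {g : SpecialLinearGroup (Fin 2) K}
    (hi : lineHom K g (OnePoint.infty : OnePoint K) = OnePoint.infty)
    (h0 : lineHom K g ((0 : K) : OnePoint K) = ((0 : K) : OnePoint K))
    (h1 : lineHom K g ((1 : K) : OnePoint K) = ((1 : K) : OnePoint K)) : g = 1 := by
  change SpecialLinearGroup.toGL g • (OnePoint.infty : OnePoint K) = OnePoint.infty at hi
  change SpecialLinearGroup.toGL g • ((0 : K) : OnePoint K) = ((0 : K) : OnePoint K) at h0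
  change SpecialLinearGroup.toGL g • ((1 : K) : OnePoint K) = ((1 : K) : OnePoint K) at h1
  have hc : g 1 0 = 0 := OnePoint.smul_infty_eq_self_iff.1 hi
  have hd := g.2
  rw [det_fin_two] at hd
  have hd' : g 0 0 * g 1 1 = 1 := by
    rw [show (g : Matrix (Fin 2) (Fin 2) K) 1 0 = 0 from hc] at hd
    simpa using hd
  have hd0 : g 1 1 ≠ 0 := right_ne_zero_of_mul_eq_one hd'
  rw [OnePoint.smul_some_eq_ite] at h0 h1
  simp only [SpecialLinearGroup.toGL, mul_zero, zero_add, mul_one] at h0 h1
  change (if (g 1 1 = 0) then (OnePoint.infty : OnePoint K) else ((g 0 1 / g 1 1 : K) : OnePoint K)) = _ at h0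
  rw [if_neg hd0, OnePoint.coe_eq_coe, div_eq_zero_iff, or_iff_left hd0] at h0
  change (if (g 1 0 + g 1 1 = 0) then (OnePoint.infty : OnePoint K)
    else (((g 0 0 + g 0 1) / (g 1 0 + g 1 1) : K) : OnePoint K)) = _ at h1
  rw [hc, h0, zero_add, add_zero, if_neg hd0, OnePoint.coe_eq_coe, div_eq_one_iff_eq hd0] at h1
  rw [← h1] at hd'
  have ha : g 0 0 = 1 := by
    have e : (g 0 0 + 1) * (g 0 0 + 1) = 0 := by
      linear_combination hd' + (g 0 0 + 1) * CharTwo.two_eq_zero (R := K)
    have e' := mul_self_eq_zero.1 e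
    exact CharTwo.add_eq_zero.1 e'
  ext i j
  fin_cases i <;> fin_cases j
  · simpa using ha
  · simpa using h0
  · simpa using hc
  · simpa [← h1] using ha

theorem lineHom_injective {K : Type} [Field K] [DecidableEq K] [CharP K 2] :
    Function.Injective (lineHom K) := by
  rw [← MonoidHom.ker_eq_bot_iff, eq_bot_iff]
  intro g hg
  rw [MonoidHom.mem_ker] at hg
  exact mem_bot.2 (lineHom_eq_one (by rw [hg]; rfl) (by rw [hg]; rfl) (by rw [hg]; rfl))

namespace SLConfig

variable {G : Type*} [Group G] [Finite G] {T : Subgroup G} {t σ w u : G} (c : SLConfig T t σ w u)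
include c

section acting

variable {K : Type} [Field K] {ζ : K} {θ : K → G}

/-- An element acts as a permutation on the seventeen cosets. -/
def Acts (θ : K → G) (h : G) (f : OnePoint K → OnePoint K) : Prop :=
  ∀ o, h • c.point θ o = c.point θ (f o)

variable {h h' : G} {f f' : OnePoint K → OnePoint K}

theorem acts_mul (a : c.Acts θ h f) (a' : c.Acts θ h' f') : c.Acts θ (h * h') (f ∘ f') := fun o => by
  rw [mul_smul, a' o, a]; rfl

theorem acts_one : c.Acts θ 1 id := fun o => one_smul G _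

theorem acts_inv {p : Equiv.Perm (OnePoint K)} (a : c.Acts θ h p) : c.Acts θ h⁻¹ ⇑p⁻¹ := fun o => by
  rw [inv_smul_eq_iff, a, show p (p⁻¹ o) = o from Equiv.apply_symm_apply p o]

variable (d : Coord T t σ u K ζ θ)
include d

theorem acts_shift (b : K) : c.Acts θ (θ b) (OnePoint.map fun x => b + x) := fun o => by
  have := c.point_T d b o
  rwa [mul_one] at this

theorem acts_scale (i : ℕ) : c.Acts θ (t ^ i) (OnePoint.map fun x => ζ ^ i * x) := by
  induction i with
  | zero => intro o; rw [pow_zero, one_smul]; congr 1; cases o <;> simp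
  | succ i ih =>
    intro o
    rw [pow_succ', mul_smul, ih, c.point_t d]
    congr 1
    cases o with
    | infty => rfl
    | coe x => simp [pow_succ', mul_assoc]

/-- An element fixing the seventeen cosets is trivial. -/
theorem acts_id_eq {g : G} (a : c.Acts θ g id) : g = 1 := by
  have hB : g ∈ c.borel := by
    have e := a (OnePoint.infty : OnePoint K)
    have e' := QuotientGroup.eq.1 (show ((g * 1 : G) : G ⧸ c.borel) = ((1 : G) : G ⧸ c.borel) from e)
    rwa [mul_one, mul_one, inv_mem_iff] at e'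
  obtain ⟨α, hα, i, hg⟩ := hB
  obtain ⟨b, rfl⟩ := d.surj α hα
  obtain ⟨φ, hφ, hφ0, hφ1, hcase⟩ : ∃ φ : K → K,
      c.Acts θ g (OnePoint.map fun x => b + ζ ^ i * φ x) ∧ φ 0 = 0 ∧ φ 1 = 1 ∧
        ((g = θ b * t ^ i ∧ φ = id) ∨ (g = θ b * t ^ i * σ ∧ φ = fun x => x ^ 4)) := by
    rcases hg with rfl | rfl
    · refine ⟨id, fun o => ?_, rfl, rfl, Or.inl ⟨rfl, rfl⟩⟩
      rw [mul_smul, c.acts_scale d i o, c.acts_shift d b]
      congr 1
      cases o <;> rfl
    · refine ⟨fun x => x ^ 4, fun o => ?_, zero_pow (by norm_num), one_pow 4, Or.inr ⟨rfl, rfl⟩⟩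
      rw [mul_smul, c.point_sigma d, mul_smul, c.acts_scale d i, c.acts_shift d b]
      congr 1
      cases o <;> rfl
  have key : ∀ x : K, b + ζ ^ i * φ x = x := fun x => by
    have := c.point_injective d ((hφ (x : OnePoint K)).symm.trans (a _))
    exact OnePoint.coe_injective this
  have hb : b = 0 := by simpa [hφ0] using key 0
  have hi : ζ ^ i = 1 := by simpa [hφ1, hb] using key 1
  have hti : t ^ i = 1 := by
    have hm : i % 15 = 0 := by
      by_contra hne
      refine d.zpow_ne (i % 15) (by omega) (Nat.mod_lt _ (by norm_num)) ?_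
      rw [← hi]
      conv_rhs => rw [← Nat.mod_add_div i 15, pow_add, pow_mul, d.zord, one_pow, mul_one]
    obtain ⟨k, rfl⟩ := Nat.dvd_of_mod_eq_zero hm
    rw [pow_mul, c.t15, one_pow]
  rcases hcase with ⟨rfl, -⟩ | ⟨rfl, rfl⟩
  · rw [hb, c.theta_zero d, hti, one_mul]
  · exfalso
    have e := key ζ
    rw [hb, hi, zero_add, one_mul] at e
    have hz : ζ ≠ 0 := fun e0 => by
      have h := d.zord
      rw [e0, zero_pow (by norm_num)] at h
      exact zero_ne_one h
    refine d.zpow_ne 3 (by norm_num) (by norm_num) (mul_left_cancel₀ hz ?_)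
    rw [mul_one, ← pow_succ']
    exact e

theorem acts_unique {p : Equiv.Perm (OnePoint K)} (a : c.Acts θ h p) (a' : c.Acts θ h' p) : h = h' := by
  have := c.acts_mul (c.acts_inv a) a'
  rw [show (⇑p⁻¹ ∘ ⇑p) = id from funext fun o => Equiv.symm_apply_apply p o] at this
  exact inv_mul_eq_one.1 (c.acts_id_eq d this)

/-- Every Moebius map is induced. -/
theorem exists_acts [DecidableEq K] [CharP K 2] (g : SpecialLinearGroup (Fin 2) K) :
    ∃ h : G, c.Acts θ h (lineHom K g) := by
  have hd := g.2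
  rw [det_fin_two] at hd
  have two : (2 : K) = 0 := CharTwo.two_eq_zero
  by_cases hc : g 1 0 = 0
  · rw [show (g : Matrix (Fin 2) (Fin 2) K) 1 0 = 0 from hc, mul_zero, sub_zero] at hd
    have hd0 : g 1 1 ≠ 0 := right_ne_zero_of_mul_eq_one hd
    obtain ⟨i, hi⟩ := d.gen (g 0 0 * g 0 0) (mul_ne_zero (left_ne_zero_of_mul_eq_one hd)
      (left_ne_zero_of_mul_eq_one hd))
    refine ⟨θ (g 0 0 * g 0 1) * t ^ i, fun o => ?_⟩
    rw [c.acts_mul (c.acts_shift d _) (c.acts_scale d i) o]
    congr 1
    show _ = SpecialLinearGroup.toGL g • o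
    cases o with
    | infty =>
      rw [OnePoint.smul_infty_eq_self_iff.2 (show (SpecialLinearGroup.toGL g) 1 0 = 0 from hc)]
      rfl
    | coe x =>
      rw [OnePoint.smul_some_eq_ite]
      show ((g 0 0 * g 0 1 + ζ ^ i * x : K) : OnePoint K) =
        if g 1 0 * x + g 1 1 = 0 then (OnePoint.infty : OnePoint K)
        else (((g 0 0 * x + g 0 1) / (g 1 0 * x + g 1 1) : K) : OnePoint K)
      rw [hc, zero_mul, zero_add, if_neg hd0, OnePoint.coe_eq_coe, eq_div_iff hd0, ← hi]
      linear_combination (g 0 1 + g 0 0 * x) * hd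
  · obtain ⟨i, hi⟩ := d.gen (g 1 0 * g 1 0) (mul_ne_zero hc hc)
    refine ⟨θ (g 0 0 / g 1 0) * (w * (θ (g 1 0 * g 1 1) * t ^ i)), fun o => ?_⟩
    rw [mul_smul, mul_smul, c.acts_mul (c.acts_shift d _) (c.acts_scale d i) o]
    show θ (g 0 0 / g 1 0) • w • c.point θ _ = c.point θ (SpecialLinearGroup.toGL g • o)
    cases o with
    | infty =>
      rw [OnePoint.smul_infty_eq_ite]
      show θ (g 0 0 / g 1 0) • w • c.point θ OnePoint.infty =
        c.point θ (if g 1 0 = 0 then OnePoint.infty else ((g 0 0 / g 1 0 : K) : OnePoint K))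
      rw [if_neg hc]
      rw [show w • c.point θ (OnePoint.infty : OnePoint K) = c.point θ ((0 : K) : OnePoint K) from c.point_w_none d,
        c.acts_shift d]
      congr 1
      show ((g 0 0 / g 1 0 + 0 : K) : OnePoint K) = _
      rw [add_zero]
    | coe x =>
      rw [OnePoint.smul_some_eq_ite]
      show θ (g 0 0 / g 1 0) • w • c.point θ ((g 1 0 * g 1 1 + ζ ^ i * x : K) : OnePoint K) =
        c.point θ (if g 1 0 * x + g 1 1 = 0 then (OnePoint.infty : OnePoint K)
        else (((g 0 0 * x + g 0 1) / (g 1 0 * x + g 1 1) : K) : OnePoint K))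
      rw [show g 1 0 * g 1 1 + ζ ^ i * x = g 1 0 * (g 1 0 * x + g 1 1) by rw [← hi]; ring]
      by_cases h0 : g 1 0 * x + g 1 1 = 0
      · rw [if_pos h0, h0, mul_zero,
          show w • c.point θ ((0 : K) : OnePoint K) = c.point θ OnePoint.infty from c.point_w_zero d, c.acts_shift d]
        rfl
      · rw [if_neg h0, c.point_w_ne d (mul_ne_zero hc h0), c.acts_shift d]
        congr 1
        rw [OnePoint.map_some, OnePoint.coe_eq_coe]
        field_simp
        linear_combination hd + two

end acting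

/-- The recognition theorem. -/
theorem exists_extension : ∃ (H : Subgroup G) (N : Subgroup H) (K : Type) (_ : Field K) (_ : Fintype K),
    N.Normal ∧ N.index = 2 ∧ Fintype.card K = 16 ∧ Nonempty (N ≃* SpecialLinearGroup (Fin 2) K) := by
  classical
  obtain ⟨K, hKF, hKT, ζ, θ, hcard, hchar, d⟩ := c.exists_coord
  haveI : Fact (Nat.Prime 2) := ⟨Nat.prime_two⟩
  let φ : K →+* K := iterateFrobenius K 2 2
  have hφ : ∀ x, φ x = x ^ 4 := fun x => by rw [iterateFrobenius_def]; norm_num
  have hφφ : ∀ x, φ (φ x) = x := fun x => by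
    rw [hφ, hφ, ← pow_mul, show 4 * 4 = Fintype.card K by rw [hcard], FiniteField.pow_card]
  have hmap : ∀ o : OnePoint K, OnePoint.map φ (OnePoint.map φ o) = o := fun o => by
    cases o with
    | infty => rfl
    | coe x => simp [hφφ]
  let Fr : Equiv.Perm (OnePoint K) := ⟨OnePoint.map φ, OnePoint.map φ, hmap, hmap⟩
  have hFr : c.Acts θ σ Fr := fun o => by
    rw [c.point_sigma d]
    congr 1
  have hFF : Fr * Fr = 1 := Equiv.ext hmap
  have hFinv : Fr⁻¹ = Fr := inv_eq_of_mul_eq_one_right hFF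
  have hswap : ∀ g, Fr * lineHom K g = lineHom K (SpecialLinearGroup.map φ g) * Fr := fun g =>
    Equiv.ext fun o => by
      show OnePoint.map φ (SpecialLinearGroup.toGL g • o) =
        SpecialLinearGroup.toGL (SpecialLinearGroup.map φ g) • OnePoint.map φ o
      rw [OnePoint.map_smul]
      congr 1
      exact Units.ext rfl
  let S : Subgroup (Equiv.Perm (OnePoint K)) :=
    { carrier := {p | ∃ g, p = lineHom K g ∨ p = lineHom K g * Fr}
      one_mem' := ⟨1, Or.inl (map_one _).symm⟩
      mul_mem' := by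
        rintro _ _ ⟨g, rfl | rfl⟩ ⟨g', rfl | rfl⟩
        · exact ⟨g * g', Or.inl (map_mul _ _ _).symm⟩
        · exact ⟨g * g', Or.inr (by rw [map_mul]; group)⟩
        · exact ⟨g * SpecialLinearGroup.map φ g', Or.inr (by rw [map_mul, mul_assoc, hswap]; group)⟩
        · exact ⟨g * SpecialLinearGroup.map φ g', Or.inl (by
            rw [map_mul, mul_assoc, ← mul_assoc Fr, hswap, mul_assoc _ Fr, hFF, mul_one])⟩
      inv_mem' := by
        rintro _ ⟨g, rfl | rfl⟩
        · exact ⟨g⁻¹, Or.inl (map_inv _ _).symm⟩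
        · exact ⟨SpecialLinearGroup.map φ g⁻¹, Or.inr (by rw [_root_.mul_inv_rev, hFinv, ← map_inv, hswap])⟩ }
  let H : Subgroup G :=
    { carrier := {h | ∃ p ∈ S, c.Acts θ h (⇑p)}
      one_mem' := ⟨1, one_mem S, c.acts_one⟩
      mul_mem' := by
        rintro _ _ ⟨p, hp, a⟩ ⟨q, hq, a'⟩
        exact ⟨p * q, mul_mem hp hq, fun o => (c.acts_mul a a') o⟩
      inv_mem' := by
        rintro _ ⟨p, hp, a⟩
        exact ⟨p⁻¹, inv_mem hp, c.acts_inv a⟩ }
  choose ν hν using fun g => c.exists_acts d (K := K) g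
  let ι : SpecialLinearGroup (Fin 2) K →* H :=
    MonoidHom.mk' (fun g => ⟨ν g, lineHom K g, ⟨g, Or.inl rfl⟩, hν g⟩) fun g g' => Subtype.ext (by
      refine c.acts_unique d (p := lineHom K (g * g')) (hν _) ?_
      rw [map_mul]
      exact fun o => (c.acts_mul (hν g) (hν g')) o)
  have hinj : Function.Injective ι := fun g g' e => by
    refine lineHom_injective (Equiv.ext fun o => c.point_injective d ?_)
    rw [← hν g o, ← hν g' o, show ν g = ν g' from congrArg Subtype.val e]
  have hFne : ∀ g, lineHom K g ≠ Fr := by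
    intro g e
    have hg : g = 1 := lineHom_eq_one (by rw [e]; rfl) (by
        rw [e]; exact congrArg OnePoint.some (map_zero φ)) (by
        rw [e]; exact congrArg OnePoint.some (map_one φ))
    rw [hg, map_one] at e
    have h := congrArg (fun p : Equiv.Perm (OnePoint K) => p (ζ : OnePoint K)) e
    change (ζ : OnePoint K) = ((φ ζ : K) : OnePoint K) at h
    rw [OnePoint.coe_eq_coe, hφ] at h
    have hz : ζ ≠ 0 := fun e0 => by
      have h := d.zord
      rw [e0, zero_pow (by norm_num)] at h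
      exact zero_ne_one h
    refine d.zpow_ne 3 (by norm_num) (by norm_num) (mul_left_cancel₀ hz ?_)
    rw [mul_one, ← pow_succ']
    exact h.symm
  have hidx : ι.range.index = 2 := by
    refine index_eq_two_iff.2 ⟨⟨σ, Fr, ⟨1, Or.inr (by rw [map_one, one_mul])⟩, hFr⟩, fun b => ?_⟩
    obtain ⟨p, ⟨g, hp⟩, ha⟩ := b.2
    rcases hp with rfl | rfl
    · refine Or.inr ⟨⟨g, Subtype.ext (c.acts_unique d (hν g) ha)⟩, fun ⟨g', hg'⟩ => ?_⟩
      refine hFne (g⁻¹ * g') ?_
      have e : (ν g' : G) = (b : G) * σ := congrArg Subtype.val hg'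
      have hact := c.acts_mul ha hFr
      rw [← e] at hact
      rw [map_mul, map_inv, inv_mul_eq_iff_eq_mul]
      exact Equiv.ext fun o => c.point_injective d ((hν g' o).symm.trans (hact o))
    · refine Or.inl ⟨⟨g, Subtype.ext (c.acts_unique d (hν g) ?_)⟩, fun ⟨g', hg'⟩ => ?_⟩
      · intro o
        show ((b : G) * σ) • c.point θ o = _
        rw [c.acts_mul ha hFr o]
        show c.point θ (lineHom K g (Fr (Fr o))) = _
        rw [show Fr (Fr o) = o from hmap o]
      · refine hFne (g⁻¹ * g') ?_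
        have e : (ν g' : G) = (b : G) := congrArg Subtype.val hg'
        rw [map_mul, map_inv, inv_mul_eq_iff_eq_mul]
        exact Equiv.ext fun o => c.point_injective d ((hν g' o).symm.trans (by rw [e]; exact ha o))
  exact ⟨H, ι.range, K, hKF, hKT, normal_of_index_eq_two hidx, hidx, hcard,
    ⟨(MonoidHom.ofInjective hinj).symm⟩⟩

end SLConfig

end CfsgLib.Invol.JThreeType
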