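import Cfsg.Agent.Lib.Invol.JThreeType.Sixteen.Transvection
import Cfsg.Agent.Lib.Invol.JThreeType.Sixteen.Recognition

/-!
# The braid relation, exactly

The product of order three is read off the seventeen cosets.
-/

set_option autoImplicit false

namespace CfsgLib.Invol.JThreeType

open Subgroup

namespace Setting

variable {G : Type*} [Group G] [Finite G] {T : Subgroup G} {t σ w u : G} {K : Type} [Field K] {ζ : K}
  {θ : K → G} (S : Setting T t σ w u K ζ θ)
include S

theorem braid : (u * w) * (u * w) * (u * w) = 1 := by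
  have two : (2 : K) = 0 := S.two
  refine S.cfg.acts_id_eq S.crd fun o => ?_
  simp only [mul_smul]
  have hu : ∀ o, u • S.cfg.point θ o = S.cfg.point θ (OnePoint.map (fun x => 1 + x) o) := fun o => by
    have e := S.cfg.acts_shift S.crd 1 o
    rwa [S.crd.one] at e
  have h0 : w • S.cfg.point θ ((0 : K) : OnePoint K) = S.cfg.point θ OnePoint.infty := S.cfg.point_w_zero S.crd
  have hi : w • S.cfg.point θ (OnePoint.infty : OnePoint K) = S.cfg.point θ ((0 : K) : OnePoint K) :=
    S.cfg.point_w_none S.crd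
  have h1 : w • S.cfg.point θ ((1 : K) : OnePoint K) = S.cfg.point θ ((1 : K) : OnePoint K) := by
    rw [S.cfg.point_w_ne S.crd one_ne_zero, inv_one]
  have e11 : (1 : K) + 1 = 0 := by linear_combination two
  cases o with
  | infty =>
    show u • w • u • w • u • w • S.cfg.point θ OnePoint.infty = _
    rw [hi, hu, OnePoint.map_some, add_zero, h1, hu, OnePoint.map_some, e11, h0, hu, OnePoint.map_infty]
    rfl
  | coe x =>
    by_cases hx : x = 0
    · subst hx
      rw [h0, hu, OnePoint.map_infty, hi, hu, OnePoint.map_some, add_zero, h1, hu, OnePoint.map_some, e11]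
      rfl
    by_cases hx1 : x = 1
    · subst hx1
      rw [h1, hu, OnePoint.map_some, e11, h0, hu, OnePoint.map_infty, hi, hu, OnePoint.map_some, add_zero]
      rfl
    have hs : (1 : K) + x ≠ 0 := fun e => hx1 (by linear_combination e - two)
    have ha : (1 : K) + x⁻¹ ≠ 0 := fun e => hs (by
      have := congrArg (· * x) e
      simp only [add_mul, one_mul, inv_mul_cancel₀ hx, zero_mul] at this
      linear_combination this)
    have e2 : (1 : K) + (1 + x⁻¹)⁻¹ = (1 + x)⁻¹ := by
      have e4 : (1 + x⁻¹) * x = 1 + x := by rw [add_mul, one_mul, inv_mul_cancel₀ hx, add_comm]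
      have e5 : (1 + x⁻¹) * (x * (1 + x)⁻¹) = 1 := by rw [← mul_assoc, e4, mul_inv_cancel₀ hs]
      rw [inv_eq_of_mul_eq_one_right e5]
      linear_combination (x * (1 + x)⁻¹) * two - mul_inv_cancel₀ hs
    have hb : (1 : K) + (1 + x⁻¹)⁻¹ ≠ 0 := by rw [e2]; exact inv_ne_zero hs
    rw [S.cfg.point_w_ne S.crd hx, hu, OnePoint.map_some, S.cfg.point_w_ne S.crd ha, hu, OnePoint.map_some,
      S.cfg.point_w_ne S.crd hb, hu, OnePoint.map_some, e2, inv_inv,
      show (1 : K) + (1 + x) = x by linear_combination two]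
    rfl

theorem braid_conj {a : G} (ha : a * w * a = w) :
    a * u * a⁻¹ * w * (a⁻¹ * u * a) * w * (a * u * a⁻¹) * w = a * a := by
  have h1 : a⁻¹ * w = w * a := by rw [inv_mul_eq_iff_eq_mul, ← mul_assoc, ha]
  have h2 : a⁻¹ * w * a⁻¹ = w := by rw [h1, mul_inv_cancel_right]
  calc a * u * a⁻¹ * w * (a⁻¹ * u * a) * w * (a * u * a⁻¹) * w
      = a * u * (a⁻¹ * w * a⁻¹) * u * (a * w * a) * u * (a⁻¹ * w) := by group
    _ = a * (u * w * (u * w) * (u * w)) * a := by rw [h2, ha, h1]; group
    _ = a * a := by rw [S.braid, mul_one]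

end Setting

end CfsgLib.Invol.JThreeType
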