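import Mathlib.Tactic.Group
import Mathlib.Algebra.Group.Basic

/-!
# A relation of the alternating group of degree five

A four-group permuted by an element of order three and an involution inverting the latter: two products of
order five force the third product to have order three.
-/

set_option autoImplicit false

namespace CfsgLib.Invol.JThreeType

variable {H : Type*} [Group H]

/-- The defining relations. -/
structure FiveRel (a b e y c : H) : Prop where
  aa : a * a = 1
  bb : b * b = 1
  ab : a * b = e
  ba : b * a = e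
  ya : y * a = b * y
  yb : y * b = e * y
  yy : y * y * y = 1
  cc : c * c = 1
  yc : y * c = c * (y * y)
  fa : (a * c) * (a * c) * (a * c) * (a * c) * (a * c) = 1
  fb : (b * c) * (b * c) * (b * c) * (b * c) * (b * c) = 1

/-- The third product has order dividing three. -/
theorem FiveRel.three {a b e y c : H} (R : FiveRel a b e y c) : e * c * (e * c) * (e * c) = 1 := by
  have l : ∀ {p q r : H}, p * q = r → ∀ x : H, p * (q * x) = r * x := fun h x => by rw [← mul_assoc, h]
  have ea : e * a = b := by rw [← R.ba, mul_assoc, R.aa, mul_one]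
  have ae : a * e = b := by rw [← R.ab, ← mul_assoc, R.aa, one_mul]
  have eb : e * b = a := by rw [← R.ab, mul_assoc, R.bb, mul_one]
  have be : b * e = a := by rw [← R.ba, ← mul_assoc, R.bb, one_mul]
  have ee : e * e = 1 := by nth_rw 2 [← R.ab]; rw [← mul_assoc, ea, R.bb]
  have ye : y * e = a * y := by
    rw [← R.ab, ← mul_assoc, R.ya, mul_assoc, R.yb, ← mul_assoc, be]
  have y3 : y * (y * y) = 1 := by rw [← mul_assoc]; exact R.yy
  have y3' : ∀ x : H, y * (y * (y * x)) = x := fun x => by rw [← mul_assoc, ← mul_assoc, R.yy, one_mul]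
  have rot : ∀ L M r : H, r = 1 → L * M = L * r * M := fun L M r hr => by rw [hr, mul_one]
  have hA1 : y * ((a * c) * (a * c) * (a * c) * (a * c) * (a * c)) * (y * y) = 1 := by
    rw [R.fa, mul_one, y3]
  have hA2 : y * y * ((a * c) * (a * c) * (a * c) * (a * c) * (a * c)) * y = 1 := by
    rw [R.fa, mul_one, R.yy]
  have s1 : e * (c * e * c * e * c) = a * c * e * c * b * c * b * c * (y * y) := by
    rw [rot e (c * e * c * e * c) _ hA1]
    simp only [mul_assoc, R.aa, R.bb, ee, R.ab, R.ba, ea, ae, eb, be, R.cc, l R.aa, l R.bb, l ee, l R.ab,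
      l R.ba, l ea, l ae, l eb, l be, l R.cc, R.ya, R.yb, ye, R.yc, l R.ya, l R.yb, l ye, l R.yc, y3, y3',
      one_mul, mul_one]
  have s2 : a * (c * e * c * b * c * b * c * (y * y)) =
      b * c * b * c * e * c * b * c * b * c * a * c * e * c * y := by
    rw [rot a (c * e * c * b * c * b * c * (y * y)) _ hA2]
    simp only [mul_assoc, R.aa, R.bb, ee, R.ab, R.ba, ea, ae, eb, be, R.cc, l R.aa, l R.bb, l ee, l R.ab,
      l R.ba, l ea, l ae, l eb, l be, l R.cc, R.ya, R.yb, ye, R.yc, l R.ya, l R.yb, l ye, l R.yc, y3, y3',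
      one_mul, mul_one]
  have s3 : b * c * b * c * e * (c * b * c * b * c * a * c * e * c * y) =
      b * c * b * c * a * c * b * c * e * c * e * c * y := by
    rw [rot (b * c * b * c * e) (c * b * c * b * c * a * c * e * c * y) _ R.fb]
    simp only [mul_assoc, R.aa, R.bb, ee, R.ab, R.ba, ea, ae, eb, be, R.cc, l R.aa, l R.bb, l ee, l R.ab,
      l R.ba, l ea, l ae, l eb, l be, l R.cc, R.ya, R.yb, ye, R.yc, l R.ya, l R.yb, l ye, l R.yc, y3, y3',
      one_mul, mul_one]
  have s4 : b * c * b * c * a * (c * b * c * e * c * e * c * y) = (b * c) * (b * c) * (b * c) * (b * c) * (b * c) := by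
    rw [rot (b * c * b * c * a) (c * b * c * e * c * e * c * y) _ hA2]
    simp only [mul_assoc, R.aa, R.bb, ee, R.ab, R.ba, ea, ae, eb, be, R.cc, l R.aa, l R.bb, l ee, l R.ab,
      l R.ba, l ea, l ae, l eb, l be, l R.cc, R.ya, R.yb, ye, R.yc, l R.ya, l R.yb, l ye, l R.yc, y3, y3',
      one_mul, mul_one]
  calc e * c * (e * c) * (e * c) = e * (c * e * c * e * c) := by group
    _ = _ := s1
    _ = a * (c * e * c * b * c * b * c * (y * y)) := by group
    _ = _ := s2
    _ = b * c * b * c * e * (c * b * c * b * c * a * c * e * c * y) := by group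
    _ = _ := s3
    _ = b * c * b * c * a * (c * b * c * e * c * e * c * y) := by group
    _ = _ := s4
    _ = 1 := R.fb

end CfsgLib.Invol.JThreeType
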