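import Cfsg.Agent.Lib.Invol.JThreeType.Sixteen.Singer
import Cfsg.Agent.Lib.Invol.JThreeType.Sixteen.Alt
import Cfsg.Agent.Lib.Invol.JThreeType.Sixteen.Relations
import Cfsg.Agent.Lib.Invol.JThreeType.Sixteen.Recognition

/-!
# The generators of `SL(2,16):2` in a group of third Janko type
-/

set_option autoImplicit false

namespace CfsgLib.Invol.JThreeType

open Subgroup
open CfsgLib.Invol.JTwo (nc_eq_false)

variable {G : Type*} [Group G]

/-- An element of order three commuting with an element of order five is the companion or its inverse. -/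
theorem FiveData.three_cases [Finite G] {f v b a : G} (hf : orderOf f = 5) (E : FiveData f v b)
    (haf : a * f = f * a) (ha : orderOf a = 3) : a = b ∨ a = b⁻¹ := by
  obtain ⟨i, j, e⟩ := E.odd a (mem_centralizer_singleton_iff.2 haf) (by rw [ha]; decide)
  have hb3 : b ^ 3 = 1 := by rw [← E.yclass.1]; exact pow_orderOf_eq_one _
  have hf5 : f ^ 5 = 1 := by rw [← hf]; exact pow_orderOf_eq_one _
  have ha3 : a ^ 3 = 1 := by rw [← ha]; exact pow_orderOf_eq_one _
  have e10 : a = b ^ j := by
    calc a = a ^ 10 := by rw [show 10 = 3 * 3 + 1 from rfl, pow_succ, pow_mul, ha3, one_pow, one_mul]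
      _ = (f ^ i * b ^ j) ^ 10 := by rw [e]
      _ = f ^ (5 * (2 * i)) * b ^ (3 * (3 * j) + j) := by
          rw [((show Commute f b from E.commb.symm).pow_pow i j).mul_pow, ← pow_mul, ← pow_mul]
          ring_nf
      _ = b ^ j := by rw [pow_mul, hf5, one_pow, pow_add, pow_mul b 3, hb3, one_pow, one_mul, one_mul]
  rcases order_three_pow E.yclass.1 j with e' | e' | e'
  · rw [e10, e', orderOf_one] at ha
    exact absurd ha (by norm_num)
  · exact Or.inl (e10.trans e')
  · exact Or.inr (e10.trans e')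

/-- An element over an element of order five of the quotient has fifth power `1` or the central involution. -/
theorem Hyp.five_power [Finite G] {s : G} {R : Subgroup G} (h : Hyp s R) (F : JTwo.Frame s R)
    (g : ↥(centralizer ({s} : Set G))) (hg : fiveOrd (F.π g) = true) :
    (g : G) ^ 5 = 1 ∨ (g : G) ^ 5 = s := by
  obtain ⟨h5, h1⟩ := fiveOrd_iff.1 hg
  have hq : (g : G) ^ 5 ∈ R := (F.ker (g ^ 5)).1 (by
    rw [map_pow]; simp only [pow_succ, pow_zero, one_mul]; exact h5)
  have hfix := (h.fix_mod_iff F g hq).1 (Or.inl (by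
    rw [← pow_succ', pow_succ, mul_inv_cancel_right]))
  exact F.sep _ hq fun k => nc_eq_false.1
    (five_const ⟨F.π g, h5, h1⟩ ⟨F.chi ((g : G) ^ 5), h.chi_even F hq⟩ hfix k)

theorem cyc_three {H : Type*} [Group H] {y : H} (hy : y * y * y = 1) (a : H) : cyc y (cyc y (cyc y a)) = a := by
  have : y * y * y = 1 := hy
  calc cyc y (cyc y (cyc y a)) = y * y * y * a * (y * y * y) * (y * y * y) := by simp [cyc, mul_assoc]
    _ = a := by rw [this, one_mul, mul_one, mul_one]

/-- The generators exist. -/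
theorem SixData.exists_config [Finite G] {z : G} {Q : Subgroup G} (h : Hyp z Q) {T : Subgroup G}
    {f y σ u : G} (d : SixData T f y σ u) :
    ∃ w u', SLConfig T (y * f) σ w u' := by
  classical
  have si : σ⁻¹ = σ := inv_eq_of_mul_eq_one_right d.ss
  obtain ⟨R, hR⟩ := h.at_invol ⟨d.ss, d.s1⟩
  obtain ⟨F⟩ := hR.exists_frame
  obtain ⟨v, b, E⟩ := h.big.five_data d.fo
  have hvv : v * v = 1 := E.isI.1
  have hvi : v⁻¹ = v := inv_eq_of_mul_eq_one_right hvv
  have hy3 : y * y * y = 1 := by
    rw [← pow_orderOf_eq_one y, d.yo, pow_succ, pow_two]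
  have hyi : y⁻¹ = y * y := inv_eq_of_mul_eq_one_right (by rw [← mul_assoc]; exact hy3)
  have hsb : σ * b * σ = b := by
    rcases E.three_cases d.fo d.yf d.yo with e | e
    · rw [← e, d.sy, mul_assoc, d.ss, mul_one]
    · have : b = y⁻¹ := by rw [e, inv_inv]
      rw [this, show σ * y⁻¹ * σ = (σ⁻¹ * y * σ⁻¹)⁻¹ by group, si, d.sy, mul_assoc, d.ss, mul_one]
  have hvy : v * y * v = y⁻¹ := by
    rcases E.three_cases d.fo d.yf d.yo with e | e
    · rw [e]; exact E.inv
    · rw [e, inv_inv]
      calc v * b⁻¹ * v = (v⁻¹ * b * v⁻¹)⁻¹ := by group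
        _ = b := by rw [hvi, E.inv, inv_inv]
  have hf5 : f ^ 5 = 1 := by rw [← d.fo]; exact pow_orderOf_eq_one _
  have hyc : ∀ a : G, y * a * y⁻¹ = cyc y a := fun a => by rw [hyi, cyc, ← mul_assoc]
  have hsv : σ * v * σ = v := by
    have hc : (σ * v * σ) * f = f * (σ * v * σ) := by
      have c4 : Commute (σ * v * σ) (f ^ 4) := by
        rw [← d.sf]
        show σ * v * σ * (σ * f * σ) = σ * f * σ * (σ * v * σ)
        calc σ * v * σ * (σ * f * σ) = σ * (v * (σ * σ) * f) * σ := by group
          _ = σ * (f * (σ * σ) * v) * σ := by rw [d.ss, mul_one, mul_one, E.comm]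
          _ = _ := by group
      have := c4.pow_right 4
      rwa [← pow_mul, show 4 * 4 = 5 * 3 + 1 from rfl, pow_succ, pow_mul, hf5, one_pow, one_mul] at this
    have hI : IsI (σ * v * σ) := by
      have := isI_conj σ E.isI
      rwa [si] at this
    obtain ⟨j, hj⟩ := E.invol _ (mem_centralizer_singleton_iff.2 hc) hI
    have hbj : σ * b ^ j * σ = b ^ j := by
      conv_lhs => rw [show σ * b ^ j * σ = σ * b ^ j * σ⁻¹ by rw [si]]
      rw [← conj_pow, si, hsb]
    have e2 : v * (b ^ j * b ^ j) = v := by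
      calc v * (b ^ j * b ^ j) = σ * v * σ * b ^ j := by rw [hj]; group
        _ = σ * v * σ * (σ * b ^ j * σ) := by rw [hbj]
        _ = σ * (v * b ^ j) * σ := by
            rw [show σ * v * σ * (σ * b ^ j * σ) = σ * v * (σ * σ) * b ^ j * σ by group, d.ss]; group
        _ = σ * (σ * v * σ) * σ := by rw [hj]
        _ = σ * σ * v * (σ * σ) := by group
        _ = v := by rw [d.ss, one_mul, mul_one]
    have e3 : (b ^ j) ^ 3 = 1 := by
      rw [← pow_mul, mul_comm, pow_mul, show b ^ 3 = 1 by rw [← E.yclass.1]; exact pow_orderOf_eq_one _, one_pow]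
    have e4 : b ^ j = 1 := by
      rw [pow_succ, pow_two, mul_eq_left.1 e2, one_mul] at e3
      exact e3
    rw [hj, e4, mul_one]
  have hvσ : v * σ = σ * v := by
    calc v * σ = σ * v * σ * σ := by rw [hsv]
      _ = σ * v := by rw [mul_assoc, d.ss, mul_one]
  have huT1 : ∀ {a : G}, a ∈ T → cyc y a ∈ T := fun {a} ha => by
    rw [cyc, mul_assoc (y * a), ← hyi]; exact d.ymem a ha
  have hsc : ∀ {a : G}, a * σ = σ * a → cyc y a * σ = σ * cyc y a := fun {a} ha => by
    have cy : Commute y σ := d.sy.symm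
    exact (((cy.mul_left (show Commute a σ from ha)).mul_left cy).mul_left cy).eq
  have huσ : u * σ = σ * u := d.su.symm
  have hC : ∀ {a : G}, a * σ = σ * a → a ∈ centralizer ({σ} : Set G) := fun ha =>
    mem_centralizer_singleton_iff.2 ha
  let C := centralizer ({σ} : Set G)
  let yC : C := ⟨y, hC d.sy.symm⟩
  let uC : C := ⟨u, hC huσ⟩
  let vC : C := ⟨v, hC hvσ⟩
  have hyC3 : yC * yC * yC = 1 := Subtype.ext hy3
  -- the images in the quotient
  have hyR : y ∉ R := fun hm => by
    have := Subgroup.orderOf_dvd_natCard R hm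
    rw [d.yo, hR.card] at this
    norm_num at this
  have huR : u ∉ R := fun hm => by
    have h1 : cyc y u ∈ R := by
      rw [cyc, mul_assoc (y * u), ← hyi]
      exact hR.nrm y (hC d.sy.symm) u hm
    have hus : u ≠ σ := fun e => d.sT (e ▸ d.uT)
    rcases hR.commuting_invol hm (d.sq u d.uT) d.u1 hus h1 (d.sq _ (huT1 d.uT))
      (d.comm u d.uT _ (huT1 d.uT)) with e | e | e | e
    · refine d.u1 ?_
      rw [cyc, mul_assoc (y * u), ← hyi] at e
      exact conj_eq_one_iff.1 e
    · exact d.sT (e ▸ huT1 d.uT)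
    · refine d.u1 (d.yfree u d.uT ?_)
      rw [cyc, mul_assoc (y * u), ← hyi] at e
      exact mul_inv_eq_iff_eq_mul.1 e
    · refine d.sT ?_
      have := mul_mem d.uT (huT1 d.uT)
      rwa [e, ← mul_assoc, d.sq u d.uT, one_mul] at this
  have hprod : u * cyc y u = cyc y (cyc y u) := by
    set P := u * cyc y u * cyc y (cyc y u) with hP
    have hPT : P ∈ T := mul_mem (mul_mem d.uT (huT1 d.uT)) (huT1 (huT1 d.uT))
    have hfix : y * P * y⁻¹ = P := by
      calc y * P * y⁻¹ = y * u * y⁻¹ * (y * cyc y u * y⁻¹) * (y * cyc y (cyc y u) * y⁻¹) := by rw [hP]; group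
        _ = cyc y u * cyc y (cyc y u) * cyc y (cyc y (cyc y u)) := by rw [hyc, hyc, hyc]
        _ = cyc y u * cyc y (cyc y u) * u := by rw [cyc_three hy3]
        _ = P := by
            rw [hP, mul_assoc u, d.comm u d.uT _ (mul_mem (huT1 d.uT) (huT1 (huT1 d.uT)))]
    have h1 := d.yfree P hPT (mul_inv_eq_iff_eq_mul.1 hfix)
    rw [hP] at h1
    rw [eq_inv_of_mul_eq_one_left h1]
    exact inv_eq_of_mul_eq_one_right (d.sq _ (huT1 (huT1 d.uT)))
  have hcyc : ∀ x : C, ((cyc yC x : C) : G) = cyc y x := fun x => rfl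
  have hπcyc : ∀ x : C, F.π (cyc yC x) = cyc (F.π yC) (F.π x) := fun x => by simp [cyc, map_mul]
  have five := two_fives (y := F.π yC) (a := F.π uC) (c := F.π vC)
    (by rw [← map_mul, ← map_mul, hyC3, map_one]) (fun e => hyR ((F.ker yC).1 e))
    (by rw [← map_mul, show uC * uC = 1 from Subtype.ext (d.sq u d.uT), map_one])
    (fun e => huR ((F.ker uC).1 e))
    (by rw [← map_mul, show vC * vC = 1 from Subtype.ext hvv, map_one])
    (by rw [← map_mul, ← map_mul, ← map_mul,
      show vC * yC * vC = yC * yC from Subtype.ext (by show v * y * v = y * y; rw [hvy, hyi])])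
    (by rw [← hπcyc, ← hπcyc, ← map_mul, show uC * cyc yC uC = cyc yC (cyc yC uC) from Subtype.ext hprod])
  simp only [← hπcyc, ← map_mul] at five
  -- the relation
  let σC : C := ⟨σ, hC rfl⟩
  let Z : Subgroup C := zpowers σC
  have hcen : ∀ x : C, x * σC = σC * x := fun x => Subtype.ext (mem_centralizer_singleton_iff.1 x.2)
  haveI hZn : Z.Normal := ⟨fun n hn g => by
    obtain ⟨k, rfl⟩ := mem_zpowers_iff.1 hn
    rw [((show Commute g σC from hcen g).zpow_right k).eq, mul_inv_cancel_right]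
    exact zpow_mem (mem_zpowers σC) k⟩
  have hZ : ∀ {x : C}, x ∈ Z → (x : G) = 1 ∨ (x : G) = σ := by
    intro x hx
    obtain ⟨k, rfl⟩ := mem_zpowers_iff.1 hx
    rw [Subgroup.coe_zpow]
    show σ ^ k = 1 ∨ σ ^ k = σ
    rcases Int.even_or_odd' k with ⟨l, rfl | rfl⟩
    · left; rw [zpow_mul, zpow_two, d.ss, one_zpow]
    · right; rw [zpow_add, zpow_mul, zpow_two, d.ss, one_zpow, one_mul, zpow_one]
  let π' : C →* C ⧸ Z := QuotientGroup.mk' Z
  have rel : ∀ x : C, (x : G) ∈ T → (x : G) * cyc y x = cyc y (cyc y x) →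
      fiveOrd (F.π (cyc yC x * vC)) = true → fiveOrd (F.π (cyc yC (cyc yC x) * vC)) = true →
      (x : G) * v * ((x : G) * v) * ((x : G) * v) = 1 ∨ (x : G) * v * ((x : G) * v) * ((x : G) * v) = σ := by
    intro x hx hrel f1 f2
    set a : C := cyc yC x with ha
    set a2 : C := cyc yC a with ha2
    have hsq : ∀ {g : C}, (g : G) ∈ T → π' g * π' g = 1 := fun {g} hg => by
      rw [← map_mul, show g * g = 1 from Subtype.ext (d.sq _ hg), map_one]
    have haT : (a : G) ∈ T := huT1 hx
    have ha2T : (a2 : G) ∈ T := huT1 haT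
    have hfive : ∀ {g : C}, fiveOrd (F.π g) = true → π' g * π' g * π' g * π' g * π' g = 1 := fun {g} hg => by
      rw [← map_mul, ← map_mul, ← map_mul, ← map_mul]
      refine (QuotientGroup.eq_one_iff _).2 ?_
      rcases hR.five_power F g hg with e | e
      · rw [show g * g * g * g * g = 1 from Subtype.ext (by
          simp only [pow_succ, pow_zero, one_mul] at e; exact e)]
        exact one_mem Z
      · rw [show g * g * g * g * g = σC from Subtype.ext (by
          simp only [pow_succ, pow_zero, one_mul] at e; exact e)]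
        exact mem_zpowers σC
    have e' : (a : G) * a2 = x := by
      show cyc y (x : G) * cyc y (cyc y (x : G)) = x
      rw [← hrel, ← mul_assoc, d.comm _ (huT1 hx) _ hx, mul_assoc, d.sq _ (huT1 hx), mul_one]
    have R5 : FiveRel (π' a) (π' a2) (π' x) (π' yC) (π' vC) :=
      { aa := hsq haT
        bb := hsq ha2T
        ab := by rw [← map_mul, show a * a2 = x from Subtype.ext e']
        ba := by
          rw [← map_mul, show a2 * a = x from Subtype.ext (by
            show (a2 : G) * a = x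
            rw [d.comm _ ha2T _ haT, e'])]
        ya := by
          rw [← map_mul, ← map_mul]
          refine congrArg π' ?_
          rw [ha2, cyc, show yC * a * yC * yC * yC = yC * a * (yC * yC * yC) by group, hyC3, mul_one]
        yb := by
          rw [← map_mul, ← map_mul]
          refine congrArg π' ?_
          have e3 : cyc yC a2 = x := cyc_three hyC3 x
          rw [← e3, cyc, show yC * a2 * yC * yC * yC = yC * a2 * (yC * yC * yC) by group, hyC3, mul_one]
        yy := by rw [← map_mul, ← map_mul, hyC3, map_one]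
        cc := by rw [← map_mul, show vC * vC = 1 from Subtype.ext hvv, map_one]
        yc := by
          simp only [← map_mul]
          refine congrArg π' (Subtype.ext ?_)
          show y * v = v * (y * y)
          rw [← hyi, ← hvy, ← mul_assoc, ← mul_assoc, hvv, one_mul]
        fa := by rw [← map_mul]; exact hfive f1
        fb := by rw [← map_mul]; exact hfive f2 }
    have e3 := R5.three
    rw [← map_mul, ← map_mul, ← map_mul] at e3
    exact hZ ((QuotientGroup.eq_one_iff _).1 e3)
  -- the choice of the point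
  obtain ⟨x, hx, hx1, hxσ, hxr⟩ : ∃ x ∈ T, x ≠ 1 ∧ σ * x = x * σ ∧
      (x * v * (x * v) * (x * v) = 1 ∨ x * v * (x * v) * (x * v) = σ) := by
    have h1 : cyc y u ≠ 1 := fun e => d.u1 (by
      rw [cyc, mul_assoc (y * u), ← hyi] at e; exact conj_eq_one_iff.1 e)
    have h2 : cyc y (cyc y u) ≠ 1 := fun e => h1 (by
      rw [← hyc] at e; exact conj_eq_one_iff.1 e)
    have sq1 := d.sq u d.uT
    have c12 : cyc y u * cyc y (cyc y u) = u := by
      rw [← hprod, ← mul_assoc, d.comm _ (huT1 d.uT) _ d.uT, mul_assoc, d.sq _ (huT1 d.uT), mul_one]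
    have c20 : cyc y (cyc y u) * u = cyc y u := by
      rw [← hprod, d.comm _ d.uT _ (huT1 d.uT), mul_assoc, sq1, mul_one]
    rcases five with ⟨f1, f2⟩ | ⟨f2, f0⟩ | ⟨f0, f1⟩
    · exact ⟨u, d.uT, d.u1, d.su, rel uC d.uT hprod f1 f2⟩
    · refine ⟨cyc y u, huT1 d.uT, h1, (hsc huσ).symm, rel (cyc yC uC) (huT1 d.uT) ?_ f2 ?_⟩
      · show cyc y u * cyc y (cyc y u) = cyc y (cyc y (cyc y u))
        rw [cyc_three hy3, c12]
      · rw [cyc_three hyC3]; exact f0
    · refine ⟨cyc y (cyc y u), huT1 (huT1 d.uT), h2, (hsc (hsc huσ)).symm,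
        rel (cyc yC (cyc yC uC)) (huT1 (huT1 d.uT)) ?_ ?_ ?_⟩
      · show cyc y (cyc y u) * cyc y (cyc y (cyc y u)) = cyc y (cyc y (cyc y (cyc y u)))
        simp only [cyc_three hy3]
        exact c20
      · rw [cyc_three hyC3]; exact f0
      · rw [cyc_three hyC3]; exact f1
  have cvσ : Commute v σ := hvσ
  have cxσ : Commute σ x := hxσ
  refine ⟨v * σ, x, d.comm, d.sq, d.card, d.tord, fun a ha => ?_, hx, fun a ha ha1 => ?_, d.ss, ?_, hxσ,
    ?_, ?_, ?_, ?_⟩
  · rw [show y * f * a * (y * f)⁻¹ = y * (f * a * f⁻¹) * y⁻¹ by group]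
    exact d.ymem _ (d.fmem a ha)
  · obtain ⟨i, hi⟩ := d.trans a ha ha1
    obtain ⟨j, hj⟩ := d.trans x hx hx1
    refine ⟨i + 14 * j, ?_⟩
    have hinv : (y * f) ^ (14 * j) = ((y * f) ^ j)⁻¹ := (inv_eq_of_mul_eq_one_right (by
      rw [← pow_add, show j + 14 * j = 15 * j by ring, pow_mul, ← d.tord, pow_orderOf_eq_one, one_pow])).symm
    rw [pow_add, hinv, ← hi, ← hj]
    group
  · rw [show σ * (y * f) * σ = σ * y * (σ * σ) * f * σ by rw [d.ss]; group,
      show σ * y * (σ * σ) * f * σ = σ * y * σ * (σ * f * σ) by group, d.sf, d.sy, mul_assoc y, d.ss, mul_one,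
      (show Commute y f from d.yf).mul_pow]
    rw [show y ^ 4 = y * y * y * y by simp only [pow_succ, pow_zero, one_mul], hy3, one_mul]
  · calc v * σ * (v * σ) = v * (σ * v) * σ := by group
      _ = v * v * (σ * σ) := by rw [← hvσ]; group
      _ = 1 := by rw [hvv, d.ss, one_mul]
  · have hfv : v * f * v = f := by rw [E.comm, mul_assoc, hvv, mul_one]
    have hfi : f ^ 4 = f⁻¹ := (inv_eq_of_mul_eq_one_right (by rw [← pow_succ', hf5])).symm
    calc v * σ * (y * f) * (v * σ) = v * (σ * y * (σ * σ) * f * σ) * v := by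
          rw [d.ss, hvσ]
          rw [← hvσ, show v * σ * (y * f) * (v * σ) = v * σ * (y * f) * (σ * v) by rw [hvσ]]
          group
      _ = v * (σ * y * σ * (σ * f * σ)) * v := by group
      _ = v * (y * f ^ 4) * v := by rw [d.sf, d.sy, mul_assoc y, d.ss, mul_one]
      _ = v * y * (v * v) * f⁻¹ * v := by rw [hvv, hfi]; group
      _ = v * y * v * (v⁻¹ * f * v⁻¹)⁻¹ := by group
      _ = (y * f)⁻¹ := by rw [hvy, hvi, hfv, d.yf, _root_.mul_inv_rev]
  · rw [← mul_assoc σ, ← hvσ]
  · have c : Commute σ (x * v) := cxσ.mul_right cvσ.symm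
    have e : x * (v * σ) * (x * (v * σ)) * (x * (v * σ)) = x * v * (x * v) * (x * v) * σ := by
      calc x * (v * σ) * (x * (v * σ)) * (x * (v * σ)) = x * v * (σ * (x * v)) * σ * (x * v) * σ := by group
        _ = x * v * (x * v) * (σ * σ) * (x * v) * σ := by rw [c.eq]; group
        _ = _ := by rw [d.ss, mul_one]
    rw [e]
    rcases hxr with e' | e' <;> rw [e']
    · exact Or.inr (one_mul σ)
    · exact Or.inl d.ss

/-- A group of third Janko type contains `SL(2,16):2`. -/
theorem Hyp.contains_sl_sixteen [Finite G] {z : G} {Q : Subgroup G} (h : Hyp z Q) :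
    ∃ (H : Subgroup G) (N : Subgroup H) (K : Type) (_ : Field K) (_ : Fintype K),
      N.Normal ∧ N.index = 2 ∧ Fintype.card K = 16 ∧
        Nonempty (N ≃* Matrix.SpecialLinearGroup (Fin 2) K) := by
  obtain ⟨x, hx⟩ := h.exists_out
  obtain ⟨f, y, σ, u, d⟩ := h.exists_sixData (h.pair_iff.2 hx)
  obtain ⟨w, u', c⟩ := d.exists_config h
  exact c.exists_extension

end CfsgLib.Invol.JThreeType
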