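import Cfsg.Agent.Lib.Invol.JThreeType.Sixteen.Field
import Mathlib.GroupTheory.GroupAction.Quotient
import Mathlib.Topology.Compactification.OnePoint.ProjectiveLine

/-!
# The seventeen cosets

The generators permute seventeen cosets of a Borel subgroup like Moebius maps and the square of the
Frobenius map.
-/

set_option autoImplicit false

namespace CfsgLib.Invol.JThreeType

open Subgroup

namespace SLConfig

variable {G : Type*} [Group G] {T : Subgroup G} {t σ w u : G} (c : SLConfig T t σ w u)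
include c

theorem sinv : σ⁻¹ = σ := inv_eq_of_mul_eq_one_right c.ss

theorem winv : w⁻¹ = w := inv_eq_of_mul_eq_one_right c.ww

theorem sigma_t (i : ℕ) : σ * t ^ i = t ^ (4 * i) * σ := by
  have e : σ * t ^ i * σ⁻¹ = t ^ (4 * i) := by
    rw [← conj_pow, c.sinv, c.st, ← pow_mul]
  rw [← e, inv_mul_cancel_right]

theorem sigma_T {a : G} (ha : a ∈ T) : σ * a * σ ∈ T := by
  by_cases ha1 : a = 1
  · rw [ha1, mul_one, c.ss]; exact one_mem T
  obtain ⟨i, hi⟩ := c.trans a ha ha1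
  rw [← hi, c.sigma_pow]
  exact c.tpow_mem _ c.uT

/-- The cyclic group meets the elementary abelian one trivially. -/
theorem pow_mem_imp {n : ℕ} (h : t ^ n ∈ T) : 15 ∣ n := by
  have h2 := c.sq _ h
  rw [← pow_add] at h2
  have := orderOf_dvd_of_pow_eq_one h2
  rw [c.tord] at this
  omega

/-- The Borel subgroup. -/
def borel [Finite G] : Subgroup G where
  carrier := {g | ∃ a ∈ T, ∃ i : ℕ, g = a * t ^ i ∨ g = a * t ^ i * σ}
  one_mem' := ⟨1, one_mem T, 0, Or.inl (by simp)⟩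
  mul_mem' := by
    rintro _ _ ⟨a, ha, i, hg⟩ ⟨b, hb, j, hg'⟩
    have e1 : ∀ b ∈ T, ∀ j : ℕ, a * t ^ i * (b * t ^ j) = a * (t ^ i * b * (t ^ i)⁻¹) * t ^ (i + j) := fun b _ j => by
      rw [pow_add]; group
    have e2 : σ * (b * t ^ j) = σ * b * σ * t ^ (4 * j) * σ := by
      calc σ * (b * t ^ j) = σ * b * (σ * σ) * t ^ j := by rw [c.ss]; group
        _ = σ * b * σ * (σ * t ^ j) := by group
        _ = _ := by rw [c.sigma_t]; group
    rcases hg with rfl | rfl <;> rcases hg' with rfl | rfl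
    · exact ⟨_, mul_mem ha (c.tpow_mem i hb), i + j, Or.inl (e1 b hb j)⟩
    · exact ⟨_, mul_mem ha (c.tpow_mem i hb), i + j, Or.inr (by rw [← mul_assoc, e1 b hb j])⟩
    · refine ⟨_, mul_mem ha (c.tpow_mem i (c.sigma_T hb)), i + 4 * j, Or.inr ?_⟩
      rw [mul_assoc (a * t ^ i), e2, ← mul_assoc, e1 _ (c.sigma_T hb)]
    · refine ⟨_, mul_mem ha (c.tpow_mem i (c.sigma_T hb)), i + 4 * j, Or.inl ?_⟩
      rw [mul_assoc (a * t ^ i), ← mul_assoc σ (b * t ^ j) σ, e2, mul_assoc _ σ σ, c.ss, mul_one,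
        e1 _ (c.sigma_T hb)]
  inv_mem' := by
    rintro g ⟨a, ha, i, hg⟩
    have hsi : σ * (t ^ i)⁻¹ = t ^ (4 * (14 * i)) * σ := by
      rw [← c.sigma_t, inv_eq_of_mul_eq_one_right (show t ^ i * t ^ (14 * i) = 1 by
        rw [← pow_add, show i + 14 * i = 15 * i by ring, pow_mul, c.t15, one_pow])]
    have hti : (t ^ i)⁻¹ = t ^ (14 * i) := inv_eq_of_mul_eq_one_right (by
      rw [← pow_add, show i + 14 * i = 15 * i by ring, pow_mul, c.t15, one_pow])
    rcases hg with rfl | rfl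
    · refine ⟨t ^ (14 * i) * a⁻¹ * (t ^ (14 * i))⁻¹, c.tpow_mem _ (inv_mem ha), 14 * i, Or.inl ?_⟩
      rw [_root_.mul_inv_rev, hti]; group
    · refine ⟨t ^ (4 * (14 * i)) * (σ * a⁻¹ * σ) * (t ^ (4 * (14 * i)))⁻¹,
        c.tpow_mem _ (c.sigma_T (inv_mem ha)), 4 * (14 * i), Or.inr ?_⟩
      calc (a * t ^ i * σ)⁻¹ = σ⁻¹ * (t ^ i)⁻¹ * a⁻¹ := by group
        _ = t ^ (4 * (14 * i)) * σ * a⁻¹ * (σ * σ) := by rw [c.ss, mul_one, c.sinv, hsi]
        _ = _ := by group

variable [Finite G]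

theorem mem_borel {g : G} : g ∈ c.borel ↔ ∃ a ∈ T, ∃ i : ℕ, g = a * t ^ i ∨ g = a * t ^ i * σ := Iff.rfl

theorem T_borel {a : G} (ha : a ∈ T) : a ∈ c.borel := ⟨a, ha, 0, Or.inl (by simp)⟩

theorem t_borel : t ∈ c.borel := ⟨1, one_mem T, 1, Or.inl (by simp)⟩

theorem s_borel : σ ∈ c.borel := ⟨1, one_mem T, 0, Or.inr (by simp)⟩

/-- The extra involution lies outside. -/
theorem w_notin : w ∉ c.borel := by
  rintro ⟨a, ha, i, h⟩
  have bad : ∀ e : ℕ, (e = 1 ∨ e = 4) → a * t ^ e * a⁻¹ = t ^ 14 → False := by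
    intro e he h14
    have hm : t ^ (14 + (14 * e)) ∈ T := by
      have hte : t ^ (14 * e) = (t ^ e)⁻¹ := (inv_eq_of_mul_eq_one_right (by
        rw [← pow_add, show e + 14 * e = 15 * e by ring, pow_mul, c.t15, one_pow])).symm
      rw [pow_add, hte, ← h14, show a * t ^ e * a⁻¹ * (t ^ e)⁻¹ = a * (t ^ e * a⁻¹ * (t ^ e)⁻¹) by group]
      exact mul_mem ha (c.tpow_mem e (inv_mem ha))
    have := c.pow_mem_imp hm
    rcases he with rfl | rfl <;> omega
  have h14 : w * t * w⁻¹ = t ^ 14 := by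
    rw [c.winv, c.wtw]
    exact inv_eq_of_mul_eq_one_right (by rw [← pow_succ', c.t15])
  rcases h with e | e <;> rw [e] at h14
  · exact bad 1 (Or.inl rfl) (by rw [← h14]; group)
  · refine bad 4 (Or.inr rfl) ?_
    rw [← h14, show a * t ^ i * σ * t * (a * t ^ i * σ)⁻¹ = a * t ^ i * (σ * t * σ⁻¹) * (t ^ i)⁻¹ * a⁻¹ by group,
      c.sinv, c.st]
    group

theorem wuw : w * u * w = u * w * (σ * u) ∨ w * u * w = u * w * u := by
  have uu : u⁻¹ = u := inv_eq_of_mul_eq_one_right (c.sq u c.uT)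
  have key : ∀ s, u * w * (u * w) * (u * w) = s → w * u * w = u⁻¹ * s * w⁻¹ * u⁻¹ := fun s e => by
    rw [← e]; group
  rcases c.rel with e | e
  · refine Or.inr ?_
    rw [key 1 e, c.winv, uu, mul_one]
  · refine Or.inl ?_
    rw [key σ e, c.winv, uu, mul_assoc u σ w, ← c.ws]
    group

section points

variable {K : Type} [Field K] {ζ : K} {θ : K → G}

/-- The seventeen cosets. -/
def point (θ : K → G) : OnePoint K → G ⧸ c.borel
  | .none => QuotientGroup.mk 1
  | .some x => QuotientGroup.mk (θ x * w)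

variable (d : Coord T t σ u K ζ θ)
include d

theorem theta_zero : θ 0 = 1 := by
  have := d.add 0 0
  rw [add_zero] at this
  exact mul_eq_left.1 this.symm

theorem theta_pow (i : ℕ) : θ (ζ ^ i) = t ^ i * u * (t ^ i)⁻¹ := by
  induction i with
  | zero => simp [d.one]
  | succ i ih => rw [pow_succ' ζ, ← d.tmul, ih, pow_succ']; group

theorem point_T (b : K) (o : OnePoint K) :
    (θ b * 1) • c.point θ o = c.point θ (OnePoint.map (fun x => b + x) o) := by
  rw [mul_one]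
  cases o with
  | infty =>
    show ((θ b * 1 : G) : G ⧸ c.borel) = _
    refine QuotientGroup.eq.2 ?_
    rw [mul_one, mul_one]
    exact inv_mem (c.T_borel (d.mem b))
  | coe x =>
    show ((θ b * (θ x * w) : G) : G ⧸ c.borel) = ((θ (b + x) * w : G) : G ⧸ c.borel)
    rw [d.add, mul_assoc]

theorem point_t (o : OnePoint K) : t • c.point θ o = c.point θ (OnePoint.map (fun x => ζ * x) o) := by
  cases o with
  | infty =>
    show ((t * 1 : G) : G ⧸ c.borel) = _
    refine QuotientGroup.eq.2 ?_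
    rw [mul_one, mul_one]
    exact inv_mem c.t_borel
  | coe x =>
    show ((t * (θ x * w) : G) : G ⧸ c.borel) = ((θ (ζ * x) * w : G) : G ⧸ c.borel)
    refine QuotientGroup.eq.2 ?_
    rw [← d.tmul x, show (t * (θ x * w))⁻¹ * (t * θ x * t⁻¹ * w) = w⁻¹ * t⁻¹ * w by group, c.winv]
    rw [show w * t⁻¹ * w = (w⁻¹ * t * w⁻¹)⁻¹ by group, c.winv, c.wtw, inv_inv]
    exact c.t_borel

theorem point_sigma (o : OnePoint K) : σ • c.point θ o = c.point θ (OnePoint.map (fun x => x ^ 4) o) := by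
  cases o with
  | infty =>
    show ((σ * 1 : G) : G ⧸ c.borel) = _
    refine QuotientGroup.eq.2 ?_
    rw [mul_one, mul_one]
    exact inv_mem c.s_borel
  | coe x =>
    show ((σ * (θ x * w) : G) : G ⧸ c.borel) = ((θ (x ^ 4) * w : G) : G ⧸ c.borel)
    refine QuotientGroup.eq.2 ?_
    rw [← d.frob x, mul_assoc (σ * θ x), ← c.ws,
      show (σ * (θ x * w))⁻¹ * (σ * θ x * (w * σ)) = σ by group]
    exact c.s_borel

/-- The action of the extra involution. -/
theorem point_w_none : w • c.point θ .infty = c.point θ ((0 : K) : OnePoint K) := by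
  show ((w * 1 : G) : G ⧸ c.borel) = ((θ 0 * w : G) : G ⧸ c.borel)
  rw [c.theta_zero d, one_mul, mul_one]

theorem point_w_zero : w • c.point θ ((0 : K) : OnePoint K) = c.point θ .infty := by
  show ((w * (θ 0 * w) : G) : G ⧸ c.borel) = ((1 : G) : G ⧸ c.borel)
  rw [c.theta_zero d, one_mul, c.ww]

theorem point_w_ne {x : K} (hx : x ≠ 0) :
    w • c.point θ (x : OnePoint K) = c.point θ ((x⁻¹ : K) : OnePoint K) := by
  obtain ⟨i, rfl⟩ := d.gen x hx
  have hinv : (ζ ^ i)⁻¹ = ζ ^ (14 * i) := by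
    rw [inv_eq_of_mul_eq_one_right]
    rw [← pow_add, show i + 14 * i = 15 * i by ring, pow_mul, d.zord, one_pow]
  have hti : t ^ (14 * i) = (t ^ i)⁻¹ := (inv_eq_of_mul_eq_one_right (by
    rw [← pow_add, show i + 14 * i = 15 * i by ring, pow_mul, c.t15, one_pow])).symm
  rw [hinv]
  show ((w * (θ (ζ ^ i) * w) : G) : G ⧸ c.borel) = ((θ (ζ ^ (14 * i)) * w : G) : G ⧸ c.borel)
  rw [c.theta_pow d, c.theta_pow d, hti, inv_inv]
  have hwt : ∀ n : ℕ, w * t ^ n * w⁻¹ = (t ^ n)⁻¹ := fun n => by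
    rw [← conj_pow, c.winv, c.wtw, inv_pow]
  have e1 : w * (t ^ i * u * (t ^ i)⁻¹ * w) = (t ^ i)⁻¹ * (w * u * w) * t ^ i := by
    calc w * (t ^ i * u * (t ^ i)⁻¹ * w)
        = w * t ^ i * w⁻¹ * (w * u * w) * (w⁻¹ * (t ^ i)⁻¹ * w⁻¹⁻¹) := by group
      _ = (t ^ i)⁻¹ * (w * u * w) * (w * t ^ i * w⁻¹)⁻¹ := by
          rw [hwt, show w⁻¹ * (t ^ i)⁻¹ * w⁻¹⁻¹ = (w⁻¹ * t ^ i * w)⁻¹ by group,
            show w⁻¹ * t ^ i * w = w * t ^ i * w⁻¹ by rw [c.winv]]
          rw [hwt]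
      _ = _ := by rw [hwt, inv_inv]
  rw [e1]
  refine QuotientGroup.eq.2 ?_
  have hm : ∀ b : G, b ∈ c.borel → ((t ^ i)⁻¹ * (u * w * b) * t ^ i)⁻¹ *
      ((t ^ i)⁻¹ * u * t ^ i * w) ∈ c.borel := by
    intro b hb
    have ht : t ^ i ∈ c.borel := pow_mem c.t_borel i
    rw [show ((t ^ i)⁻¹ * (u * w * b) * t ^ i)⁻¹ * ((t ^ i)⁻¹ * u * t ^ i * w) =
      (t ^ i)⁻¹ * b⁻¹ * (w⁻¹ * t ^ i * w) by group,
      show w⁻¹ * t ^ i * w = w * t ^ i * w⁻¹ by rw [c.winv], hwt]
    exact mul_mem (mul_mem (inv_mem ht) (inv_mem hb)) (inv_mem ht)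
  rcases c.wuw with e | e <;> rw [e]
  · exact hm _ (mul_mem c.s_borel (c.T_borel c.uT))
  · exact hm _ (c.T_borel c.uT)

theorem point_injective : Function.Injective (c.point θ) := by
  have hnone : ∀ x : K, c.point θ (x : OnePoint K) ≠ c.point θ .infty := by
    intro x e
    have e' := QuotientGroup.eq.1 (show ((θ x * w : G) : G ⧸ c.borel) = ((1 : G) : G ⧸ c.borel) from e)
    rw [mul_one] at e'
    refine c.w_notin ?_
    have := mul_mem (inv_mem (c.T_borel (d.mem x))) (inv_mem e')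
    rwa [inv_inv, ← mul_assoc, inv_mul_cancel, one_mul] at this
  intro o o' e
  cases o with
  | infty =>
    cases o' with
    | infty => rfl
    | coe y => exact absurd e.symm (hnone y)
  | coe x =>
    cases o' with
    | infty => exact absurd e (hnone x)
    | coe y =>
      by_contra hne
      have hxy : -y + x ≠ 0 := fun h0 => hne (by rw [eq_of_neg_add_eq_zero h0])
      have e1 := congrArg (fun q => (θ (-y) * 1) • q) e
      simp only [c.point_T d, OnePoint.map_some, neg_add_cancel] at e1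
      have e2 := congrArg (fun q => w • q) e1
      simp only [c.point_w_ne d hxy, c.point_w_zero d] at e2
      exact hnone _ e2

end points

end SLConfig

end CfsgLib.Invol.JThreeType
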