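import Cfsg.Agent.Lib.Invol.JThreeType.Sixteen.Base

/-!
# The pairs of involutions inside a group of order sixteen

The centralizer of a pair of commuting involutions with small common centralizer is elementary abelian of
order sixteen and its normalizer is transitive on its involutions.
-/

set_option autoImplicit false

namespace CfsgLib.Invol.JThreeType

open Subgroup
open CfsgLib.Invol.JTwo (Frame Out cj mem_cj mem_centralizer_conj card_orbit_mul)

variable {G : Type*} [Group G]

/-- The common centralizer. -/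
def six (a b : G) : Subgroup G := centralizer ({a} : Set G) ⊓ centralizer ({b} : Set G)

theorem mem_six {a b x : G} : x ∈ six a b ↔ x * a = a * x ∧ x * b = b * x := by
  rw [six, mem_inf, mem_centralizer_singleton_iff, mem_centralizer_singleton_iff]

theorem six_comm (a b : G) : six a b = six b a := inf_comm _ _

theorem six_conj (g a b : G) : six (g * a * g⁻¹) (g * b * g⁻¹) = cj g (six a b) := by
  ext x
  rw [six, six, mem_inf, mem_centralizer_conj, mem_centralizer_conj, mem_cj, mem_inf]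

/-- Commuting involutions with common centralizer of order sixteen. -/
structure Pair (a b : G) : Prop where
  left : IsI a
  right : IsI b
  comm : a * b = b * a
  card : Nat.card (six a b) = 16

namespace Pair

variable {a b : G} (p : Pair a b)
include p

theorem symm : Pair b a := ⟨p.right, p.left, p.comm.symm, by rw [six_comm]; exact p.card⟩

theorem mem_left : a ∈ six a b := mem_six.2 ⟨rfl, p.comm⟩

theorem mem_right : b ∈ six a b := mem_six.2 ⟨p.comm.symm, rfl⟩

theorem conj (g : G) : Pair (g * a * g⁻¹) (g * b * g⁻¹) where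
  left := isI_conj g p.left
  right := isI_conj g p.right
  comm := by
    calc g * a * g⁻¹ * (g * b * g⁻¹) = g * (a * b) * g⁻¹ := by group
      _ = g * (b * a) * g⁻¹ := by rw [p.comm]
      _ = _ := by group
  card := by rw [six_conj, cj, card_map_of_injective (MulAut.conj g).injective, p.card]

end Pair

namespace Hyp

variable [Finite G] {z : G} {Q : Subgroup G} (h : Hyp z Q)
include h

theorem at_invol {a : G} (ha : IsI a) : ∃ R : Subgroup G, Hyp a R := by
  obtain ⟨g, hg⟩ := h.exists_conj ha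
  exact ⟨cj g Q, hg ▸ h.conj g⟩

/-- The partners of `z` are the involutions outside `Q`. -/
theorem pair_iff {b : G} : Pair z b ↔ Out z Q b := by
  constructor
  · intro p
    have hbC : b ∈ centralizer ({z} : Set G) := mem_centralizer_singleton_iff.2 p.comm.symm
    have hbz : b ≠ z := fun e => by
      have c := p.card
      rw [e, six, inf_idem, h.card_C] at c
      norm_num at c
    refine ⟨hbC, fun hq => ?_, p.right.1⟩
    have c : Nat.card (six z b) = 192 := (h.card_meet p.right hbz hbC).1 hq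
    rw [p.card] at c
    norm_num at c
  · intro o
    exact ⟨h.isI, h.out_isI o, (mem_centralizer_singleton_iff.1 o.1).symm, (h.outer_class o).1⟩

/-- The frame at a partner. -/
theorem exists_fixed {b : G} (o : Out z Q b) :
    ∃ (F : Frame z Q) (i : Fin 5), JTwo.AltFive.act (F.π ⟨b, o.1⟩) i = i := by
  obtain ⟨F⟩ := h.exists_frame
  obtain ⟨hg, hg1⟩ := h.pi_invol F o
  obtain ⟨i, hi, -⟩ := JTwo.AltFive.invol_fixed _ hg hg1
  exact ⟨F, i, hi⟩

/-- The common centralizer is elementary abelian. -/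
theorem pair_struct {a b : G} (p : Pair a b) :
    (∀ x ∈ six a b, ∀ y ∈ six a b, x * y = y * x) ∧ ∀ x ∈ six a b, x * x = 1 := by
  obtain ⟨R, h'⟩ := h.at_invol p.left
  obtain ⟨F, i, hi⟩ := h'.exists_fixed (h'.pair_iff.1 p)
  exact ⟨(h'.outer_struct F (h'.pair_iff.1 p) hi).1, (h'.outer_struct F (h'.pair_iff.1 p) hi).2.1⟩

/-- A pair inside gives the same group. -/
theorem six_eq {a b s x : G} (p : Pair a b) (q : Pair s x) (hs : s ∈ six a b) (hx : x ∈ six a b) :
    six s x = six a b :=
  (eq_of_le_of_card_ge (fun y hy => mem_six.2 ⟨(h.pair_struct p).1 y hy s hs, (h.pair_struct p).1 y hy x hx⟩)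
    (by rw [p.card, q.card])).symm

/-- Every involution of the group has a partner. -/
theorem exists_partner {b s : G} (p : Pair z b) (hs : s ∈ six z b) (hs1 : s ≠ 1) :
    ∃ x ∈ six z b, Pair s x := by
  have hsI : IsI s := ⟨(h.pair_struct p).2 s hs, hs1⟩
  obtain ⟨hbC, hbQ, -⟩ := h.pair_iff.1 p
  obtain ⟨hsz, hsb⟩ := mem_six.1 hs
  by_cases hz : s = z
  · subst hz
    exact ⟨b, p.mem_right, p⟩
  by_cases hq : s ∈ Q
  · refine ⟨b, p.mem_right, ?_⟩
    obtain ⟨g, hg⟩ := h.exists_conj hsI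
    have h' : Hyp s (cj g Q) := hg ▸ h.conj g
    refine h'.pair_iff.2 ⟨mem_centralizer_singleton_iff.2 hsb.symm, fun hb => ?_, p.right.1⟩
    rcases h'.commuting_invol (h.z_mem_cj hq hz hg) h.zz h.z_ne (Ne.symm hz) hb p.right.1 p.comm with
      e | e | e | e
    · exact p.right.2 e
    · exact hbQ (e ▸ hq)
    · exact hbQ (e ▸ h.zmem)
    · exact hbQ (e ▸ mul_mem h.zmem hq)
  · exact ⟨z, p.mem_left, (h.pair_iff.2 ⟨mem_centralizer_singleton_iff.2 hsz, hq, hsI.1⟩).symm⟩

theorem exists_partner_gen {a b s : G} (p : Pair a b) (hs : s ∈ six a b) (hs1 : s ≠ 1) :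
    ∃ x ∈ six a b, Pair s x := by
  obtain ⟨R, h'⟩ := h.at_invol p.left
  exact h'.exists_partner p hs hs1

/-- Four elements of the group lie in `Q`. -/
theorem card_six_inf {b : G} (p : Pair z b) : Nat.card (six z b ⊓ Q : Subgroup G) = 4 := by
  rw [show (six z b ⊓ Q : Subgroup G) = Q ⊓ centralizer ({b} : Set G) from by
    ext q
    simp only [six, mem_inf]
    exact ⟨fun e => ⟨e.2, e.1.2⟩, fun e => ⟨⟨h.le e.1, e.2⟩, e.1⟩⟩]
  exact h.card_inf_outer (h.pair_iff.1 p)

/-- A common partner. -/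
theorem exists_common {a b s t : G} (p : Pair a b) (hs : s ∈ six a b) (hs1 : s ≠ 1) (ht : t ∈ six a b)
    (ht1 : t ≠ 1) : ∃ y ∈ six a b, Pair s y ∧ Pair t y := by
  obtain ⟨x, hx, q⟩ := h.exists_partner_gen p hs hs1
  obtain ⟨x', hx', q'⟩ := h.exists_partner_gen p ht ht1
  obtain ⟨R, hR⟩ := h.at_invol q.left
  obtain ⟨R', hR'⟩ := h.at_invol q'.left
  have c := hR.card_six_inf q
  have c' := hR'.card_six_inf q'
  rw [h.six_eq p q hs hx] at c
  rw [h.six_eq p q' ht hx'] at c'
  by_contra hno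
  push Not at hno
  have hsub : (six a b : Set G) ⊆ ↑(six a b ⊓ R) ∪ ↑(six a b ⊓ R') := by
    intro y hy
    by_cases hyR : y ∈ R
    · exact Or.inl ⟨hy, hyR⟩
    refine Or.inr ⟨hy, ?_⟩
    by_contra hyR'
    have hyy := (h.pair_struct p).2 y hy
    exact hno y hy
      (hR.pair_iff.2 ⟨mem_centralizer_singleton_iff.2 ((h.pair_struct p).1 y hy s hs), hyR, hyy⟩)
      (hR'.pair_iff.2 ⟨mem_centralizer_singleton_iff.2 ((h.pair_struct p).1 y hy t ht), hyR', hyy⟩)
  have h1 := (Set.ncard_le_ncard hsub (Set.toFinite _)).trans (Set.ncard_union_le _ _)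
  rw [← Nat.card_coe_set_eq, ← Nat.card_coe_set_eq, ← Nat.card_coe_set_eq] at h1
  rw [SetLike.coe_sort_coe, SetLike.coe_sort_coe, SetLike.coe_sort_coe, p.card, c, c'] at h1
  omega

/-- An element of the centralizer moves a partner inside its coset. -/
theorem exists_move {b e : G} (p : Pair z b) (he : e ∈ six z b) (heQ : e ∈ Q) :
    ∃ r, r * z = z * r ∧ r * b * r⁻¹ = e * b ∧ r ∈ normalizer (six z b : Set G) := by
  classical
  have o := h.pair_iff.1 p
  obtain ⟨F, i, hi⟩ := h.exists_fixed o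
  have hRb : F.big i ⊓ centralizer ({b} : Set G) = six z b := by
    refine le_antisymm (fun r hr => ⟨((h.mem_big F).1 hr.1).1, hr.2⟩) fun r hr => ⟨?_, hr.2⟩
    exact h.outer_le_big F o hi hr
  have ho := card_orbit_mul (F.big i) b
  rw [hRb, p.card, h.card_big F i] at ho
  set T : Set G := {y | ∃ c ∈ F.big i, c * b * c⁻¹ = y} with hT
  have hT4 : T.ncard = 4 := by
    rw [← Nat.card_coe_set_eq]
    show Nat.card {y : G // ∃ c ∈ F.big i, c * b * c⁻¹ = y} = 4
    omega
  have hsub : T ⊆ (fun e => e * b) '' {1, z, F.p i, F.p i * z} := by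
    rintro _ ⟨c, hc, rfl⟩
    obtain ⟨d, hd, e'⟩ := h.big_comm F i hc (h.out_mem_big F o hi)
    exact ⟨d, by simpa using hd, by
      show d * b = c * b * c⁻¹
      rw [e']; group⟩
  have heq := Set.eq_of_subset_of_ncard_le hsub (by
    rw [hT4]
    exact (Set.ncard_image_le (Set.toFinite _)).trans (h.ncard_four (F.ne_one i) (F.ne_z i)).le)
    (Set.toFinite _)
  obtain ⟨r, hrR, hr⟩ : e * b ∈ T := heq.ge ⟨e, by
    simpa using (h.inf_outer F o hi e).1 ⟨heQ, (mem_six.1 he).2⟩, rfl⟩
  have hrz : r * z = z * r := mem_centralizer_singleton_iff.1 ((h.mem_big F).1 hrR).1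
  refine ⟨r, hrz, hr, mem_normalizer_fintype fun y hy => ?_⟩
  have p' : Pair z (e * b) := by
    have := p.conj r
    rwa [hr, hrz, mul_inv_cancel_right] at this
  have hy' : r * y * r⁻¹ ∈ six z (e * b) := by
    have : r * y * r⁻¹ ∈ cj r (six z b) := mem_cj.2 (by simpa [mul_assoc] using hy)
    rwa [← six_conj, hr, hrz, mul_inv_cancel_right] at this
  rwa [h.six_eq p p' p.mem_left (mul_mem he p.mem_right)] at hy'

/-- The normalizer interchanges a pair. -/
theorem exists_conj_pair {a b : G} (p : Pair a b) :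
    ∃ r ∈ normalizer (six a b : Set G), r * a * r⁻¹ = b := by
  obtain ⟨R, h'⟩ := h.at_invol p.left
  obtain ⟨R', h''⟩ := h.at_invol p.right
  obtain ⟨r, -, hr, hrN⟩ := h'.exists_move p p.mem_left h'.zmem
  obtain ⟨s, -, hs, hsN⟩ := h''.exists_move p.symm p.symm.mem_left h''.zmem
  rw [six_comm] at hsN
  refine ⟨r⁻¹ * s, mul_mem (inv_mem hrN) hsN, ?_⟩
  calc r⁻¹ * s * a * (r⁻¹ * s)⁻¹ = r⁻¹ * (s * a * s⁻¹) * r := by group
    _ = r⁻¹ * (a * b) * r := by rw [hs, p.comm]
    _ = r⁻¹ * (r * b * r⁻¹) * r := by rw [hr]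
    _ = b := by group

/-- The normalizer is transitive on the involutions. -/
theorem six_transitive {a b s t : G} (p : Pair a b) (hs : s ∈ six a b) (hs1 : s ≠ 1) (ht : t ∈ six a b)
    (ht1 : t ≠ 1) : ∃ r ∈ normalizer (six a b : Set G), r * s * r⁻¹ = t := by
  obtain ⟨y, hy, q, q'⟩ := h.exists_common p hs hs1 ht ht1
  obtain ⟨r, hr, e⟩ := h.exists_conj_pair q
  obtain ⟨r', hr', e'⟩ := h.exists_conj_pair q'.symm
  rw [h.six_eq p q hs hy] at hr
  rw [h.six_eq p q'.symm hy ht] at hr'
  exact ⟨r' * r, mul_mem hr' hr, by rw [← e', ← e]; group⟩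

end Hyp

end CfsgLib.Invol.JThreeType
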