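import Cfsg.Agent.Lib.Invol.JThreeType.Main
import Cfsg.Agent.Lib.Invol.JThreeType.PrimeNorm
import Cfsg.Agent.Lib.Invol.JThreeType.Sixteen.Lines

/-!
# A subgroup containing an involution centralizer with one class of involutions

In a group of third Janko type such a subgroup of order divisible by seventeen is everything.
-/

set_option autoImplicit false
set_option synthInstance.maxSize 4096

namespace CfsgLib.Invol.JThreeType

open Subgroup
open CfsgLib.Invol.JTwo (Frame Out cj mem_cj mem_centralizer_conj)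

/-- Two involutions with product of odd order are conjugate in the group they generate. -/
theorem odd_dihedral_conj {G : Type*} [Group G] {a b : G} (ha : a * a = 1) (hb : b * b = 1) {k : ℕ}
    (hk : (a * b) ^ (2 * k + 1) = 1) {H : Subgroup G} (haH : a ∈ H) (hbH : b ∈ H) :
    ∃ c ∈ H, c * a * c⁻¹ = b := by
  refine ⟨(a * b) ^ k, pow_mem (mul_mem haH hbH) k, ?_⟩
  have hai : a⁻¹ = a := inv_eq_of_mul_eq_one_right ha
  have h1 : a * ((a * b) ^ k)⁻¹ = (a * b) ^ k * a := by
    have e : a * (a * b)⁻¹ * a⁻¹ = a * b := by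
      rw [_root_.mul_inv_rev, inv_eq_of_mul_eq_one_right hb, hai]
      calc a * (b * a) * a = a * b * (a * a) := by group
        _ = a * b := by rw [ha, mul_one]
    calc a * ((a * b) ^ k)⁻¹ = a * ((a * b)⁻¹) ^ k * a⁻¹ * a := by rw [inv_pow]; group
      _ = (a * b) ^ k * a := by rw [← conj_pow, e]
  rw [mul_assoc, h1, ← mul_assoc, ← pow_add]
  calc (a * b) ^ (k + k) * a = (a * b) ^ (2 * k + 1) * (a * b)⁻¹ * a := by
        rw [pow_succ, show 2 * k = k + k by omega]; group
    _ = b * (a * a) := by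
        rw [hk, one_mul, _root_.mul_inv_rev, inv_eq_of_mul_eq_one_right hb, hai]; group
    _ = b := by rw [ha, mul_one]

theorem thirteen_arith : ∀ m < 1540, m ∣ 1539 → m % 128 = 1 → m = 1 ∨ m = 513 := by
  intro m hm hd h128
  have : m ∈ Nat.divisors 1539 := Nat.mem_divisors.2 ⟨hd, by norm_num⟩
  rw [show Nat.divisors 1539 = {1, 3, 9, 19, 27, 57, 81, 171, 513, 1539} by decide +kernel] at this
  simp only [Finset.mem_insert, Finset.mem_singleton] at this
  omega

theorem seventeen_arith : ∀ M ∈ Nat.divisors 136, ∀ n, n * M = 97920 → n % 17 = 1 → False := by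
  intro M hM n hn h1
  rw [show Nat.divisors 136 = {1, 2, 4, 8, 17, 34, 68, 136} by decide +kernel] at hM
  simp only [Finset.mem_insert, Finset.mem_singleton] at hM
  rcases hM with rfl | rfl | rfl | rfl | rfl | rfl | rfl | rfl <;> omega

namespace Hyp

variable {G : Type*} [Group G] [Finite G] {z : G} {Q : Subgroup G} (h : Hyp z Q)
include h

/-- The group of order 128 acting freely on the other cosets. -/
theorem index_mod {H : Subgroup G} (hC : centralizer ({z} : Set G) ≤ H)
    (hone : ∀ s ∈ H, IsI s → ∃ c ∈ H, c * z * c⁻¹ = s) : H.index % 128 = 1 := by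
  classical
  haveI : Fact (Nat.Prime 2) := ⟨Nat.prime_two⟩
  obtain ⟨S⟩ : Nonempty (Sylow 2 (centralizer ({z} : Set G))) := inferInstance
  set P : Subgroup G := (S : Subgroup (centralizer ({z} : Set G))).map (centralizer ({z} : Set G)).subtype with hP
  have hPc : Nat.card P = 128 := by
    rw [hP, card_map_of_injective (centralizer ({z} : Set G)).subtype_injective, S.card_eq_multiplicity, h.card_C,
      show 1920 = 2 ^ 7 * 15 by norm_num, Nat.factorization_mul (by norm_num) (by norm_num), Finsupp.add_apply,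
      Nat.prime_two.factorization_pow, Finsupp.single_eq_same,
      Nat.factorization_eq_zero_of_not_dvd (show ¬ 2 ∣ 15 by norm_num)]
    norm_num
  have hPH : P ≤ H := (map_subtype_le _).trans hC
  have hfree : ∀ q : G ⧸ H, q ≠ QuotientGroup.mk 1 → MulAction.stabilizer P q = ⊥ := by
    intro q hq
    by_contra hne
    obtain ⟨a, ha, ha1⟩ := (Subgroup.ne_bot_iff_exists_ne_one.1 hne)
      |> fun ⟨x, hx⟩ => (⟨x.1, x.2, fun e => hx (Subtype.ext e)⟩ : ∃ a : P, a ∈ MulAction.stabilizer P q ∧ a ≠ 1)
    have hev : Even (orderOf a) := by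
      rw [even_iff_two_dvd]
      obtain ⟨j, hj⟩ := (Nat.dvd_prime_pow Nat.prime_two (m := 7)).1 (show orderOf a ∣ 2 ^ 7 by
        have := _root_.orderOf_dvd_natCard a
        rwa [hPc] at this)
      rcases j with _ | j
      · exact absurd (orderOf_eq_one_iff.1 (hj.2.trans (pow_zero 2))) ha1
      · rw [hj.2, pow_succ]; exact dvd_mul_left 2 _
    set r := a ^ (orderOf a / 2) with hr
    have hrI : IsI (r : G) := by
      have := exists_invol_half (x := (a : G)) (by rwa [Subgroup.orderOf_coe])
      rwa [Subgroup.orderOf_coe, ← Subgroup.coe_pow] at this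
    have hrq : (r : G) • q = q := MulAction.mem_stabilizer_iff.1 (pow_mem ha _)
    obtain ⟨g, rfl⟩ := QuotientGroup.mk_surjective q
    have hgH : g⁻¹ * r * g ∈ H := by
      have e := QuotientGroup.eq.1 (show ((r * g : G) : G ⧸ H) = (g : G ⧸ H) from hrq)
      rw [← inv_mem_iff]
      convert e using 1
      group
    obtain ⟨c, hc, hce⟩ := hone _ hgH (by
      have := isI_conj g⁻¹ hrI
      rwa [inv_inv] at this)
    obtain ⟨e, he, hee⟩ := hone _ (hPH r.2) hrI
    refine hq (QuotientGroup.eq.2 ?_)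
    rw [mul_one, inv_mem_iff]
    have hm : e⁻¹ * (g * c) ∈ centralizer ({z} : Set G) := mem_centralizer_singleton_iff.2 (by
      calc e⁻¹ * (g * c) * z = e⁻¹ * (g * (c * z * c⁻¹) * g⁻¹) * g * c := by group
        _ = e⁻¹ * (g * (g⁻¹ * r * g) * g⁻¹) * g * c := by rw [hce]
        _ = e⁻¹ * (e * z * e⁻¹) * g * c := by rw [hee]; group
        _ = z * (e⁻¹ * (g * c)) := by group)
    have := mul_mem (mul_mem he (hC hm)) (inv_mem hc)
    rwa [show e * (e⁻¹ * (g * c)) * c⁻¹ = g by group] at this
  letI := Fintype.ofFinite (MulAction.orbitRel.Quotient P (G ⧸ H))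
  letI := Fintype.ofFinite (G ⧸ H)
  have e := Nat.card_congr (MulAction.selfEquivSigmaOrbits P (G ⧸ H))
  rw [Nat.card_sigma] at e
  set o₀ : MulAction.orbitRel.Quotient P (G ⧸ H) := Quotient.mk'' (QuotientGroup.mk 1) with ho₀
  have hcard : ∀ o, o ≠ o₀ → Nat.card (MulAction.orbit P (Quotient.out o)) = 128 := by
    intro o ho
    have hne : Quotient.out o ≠ QuotientGroup.mk 1 := fun e => ho (by rw [ho₀, ← e, Quotient.out_eq'])
    have h1 := (MulAction.stabilizer P (Quotient.out o)).card_mul_index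
    rw [MulAction.index_stabilizer, hfree _ hne, card_bot, one_mul, ← Nat.card_coe_set_eq, hPc] at h1
    exact h1
  have hfix : ∀ a : P, a • (QuotientGroup.mk 1 : G ⧸ H) = QuotientGroup.mk 1 := fun a => by
    show (((a : G) * 1 : G) : G ⧸ H) = _
    refine QuotientGroup.eq.2 ?_
    rw [mul_one, mul_one]
    exact inv_mem (hPH a.2)
  have hbase : Nat.card (MulAction.orbit P (Quotient.out o₀)) = 1 := by
    have e1 : Quotient.out o₀ = QuotientGroup.mk 1 := by
      obtain ⟨a, ha⟩ := MulAction.orbitRel_apply.1 (Quotient.eq''.1 (Quotient.out_eq' o₀))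
      rw [← ha]; exact hfix a
    rw [e1, Nat.card_coe_set_eq, Set.ncard_eq_one]
    refine ⟨_, Set.eq_singleton_iff_unique_mem.2 ⟨MulAction.mem_orbit_self _, ?_⟩⟩
    rintro q ⟨a, rfl⟩
    exact hfix a
  rw [← Finset.add_sum_erase _ _ (Finset.mem_univ o₀), hbase,
    Finset.sum_congr rfl (fun o ho => hcard o (Finset.ne_of_mem_erase ho)), Finset.sum_const, smul_eq_mul] at e
  rw [index_eq_card, e]
  omega

/-- The subgroup is everything. -/
theorem embedded_top {H : Subgroup G} (hC : centralizer ({z} : Set G) ≤ H)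
    (hone : ∀ s ∈ H, IsI s → ∃ c ∈ H, c * z * c⁻¹ = s) (h17 : 17 ∣ Nat.card H) : H = ⊤ := by
  have h1920 : 1920 ∣ Nat.card H := h.card_C ▸ card_dvd_of_le hC
  obtain ⟨k, hk⟩ : 32640 ∣ Nat.card H :=
    (show 32640 = 1920 * 17 by norm_num) ▸ Nat.Coprime.mul_dvd_of_dvd_of_dvd (by norm_num) h1920 h17
  have hmul := H.card_mul_index
  rw [h.card_eq, hk] at hmul
  have hm : H.index ∣ 1539 := ⟨k, by
    have : 32640 * (k * H.index) = 32640 * 1539 := by rw [← mul_assoc, hmul]
    rw [mul_comm, Nat.eq_of_mul_eq_mul_left (by norm_num) this]⟩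
  rcases thirteen_arith H.index (by have := Nat.le_of_dvd (by norm_num) hm; omega) hm (h.index_mod hC hone) with
    e | e
  · exact index_eq_one.1 e
  exfalso
  rw [e] at hmul
  have hH : Nat.card H = 97920 := by omega
  haveI : Fact (Nat.Prime 17) := ⟨by norm_num⟩
  obtain ⟨x, hx⟩ := exists_prime_orderOf_dvd_card' (G := H) 17 h17
  have hxo : orderOf (x : G) = 17 := by rw [Subgroup.orderOf_coe, hx]
  obtain ⟨hcx, hrange⟩ := h.seventeen_data hxo
  set N := normalizer (zpowers (x : G) : Set G)
  have hN : Nat.card N = 136 := by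
    have h1 := (normalizerMonoidHom (zpowers (x : G))).ker.card_mul_index
    rw [index_ker, hrange] at h1
    rw [← h1, normalizerMonoidHom_ker]
    rw [Nat.card_congr (subgroupOfEquivOfLe (centralizer_le_normalizer _)).toEquiv]
    have : centralizer (zpowers (x : G) : Set G) = centralizer ({(x : G)} : Set G) := by
      rw [zpowers_eq_closure, centralizer_closure]
    rw [this, hcx]
  obtain ⟨P, hP⟩ := (IsPGroup.of_card (p := 17) (n := 1) (G := zpowers x)
    (by rw [Nat.card_zpowers, hx, pow_one])).exists_le_sylow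
  have hPe : (P : Subgroup H) = zpowers x := by
    refine (eq_of_le_of_card_ge hP ?_).symm
    obtain ⟨j, hj⟩ := IsPGroup.iff_card.1 P.isPGroup'
    have hd := card_subgroup_dvd_card (P : Subgroup H)
    rw [hj, hH] at hd
    have : j ≤ 1 := by
      by_contra hj2
      exact absurd ((pow_dvd_pow 17 (show 2 ≤ j by omega)).trans hd) (by norm_num)
    rw [hj, Nat.card_zpowers, hx]
    exact (Nat.pow_le_pow_right (by norm_num) this).trans (by norm_num)
  have hM : (normalizer ((P : Subgroup H) : Set H)).map H.subtype ≤ N := by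
    rw [hPe]
    rintro _ ⟨a, ha, rfl⟩
    refine mem_normalizer_fintype fun b hb => ?_
    obtain ⟨i, rfl⟩ := mem_zpowers_iff.1 hb
    obtain ⟨j, hj⟩ := mem_zpowers_iff.1 ((mem_normalizer_iff.1 ha (x ^ i)).1 (zpow_mem (mem_zpowers x) i))
    exact mem_zpowers_iff.2 ⟨j, by simpa using congrArg Subtype.val hj⟩
  have hMd := card_dvd_of_le hM
  rw [card_map_of_injective H.subtype_injective, hN] at hMd
  have hn := card_sylow_modEq_one 17 H
  rw [P.card_eq_index_normalizer] at hn
  refine seventeen_arith _ (Nat.mem_divisors.2 ⟨hMd, by norm_num⟩) _ ?_ hn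
  rw [mul_comm]
  exact (card_mul_index _).trans hH

end Hyp

end CfsgLib.Invol.JThreeType
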