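import Mathlib.FieldTheory.Finite.GaloisField
import Mathlib.GroupTheory.OrderOfElement
import Mathlib.Tactic.Group
import Mathlib.Algebra.Ring.Subring.Basic

/-!
# Field coordinates on a group of order sixteen with a regular cyclic group of order fifteen
-/

set_option autoImplicit false

namespace CfsgLib.Invol.JThreeType

open Subgroup

variable {G : Type*} [Group G]

/-- The generators of a group `SL(2,16):2`. -/
structure SLConfig (T : Subgroup G) (t σ w u : G) : Prop where
  comm : ∀ a ∈ T, ∀ b ∈ T, a * b = b * a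
  sq : ∀ a ∈ T, a * a = 1
  card : Nat.card T = 16
  tord : orderOf t = 15
  tmem : ∀ a ∈ T, t * a * t⁻¹ ∈ T
  uT : u ∈ T
  trans : ∀ a ∈ T, a ≠ 1 → ∃ i : ℕ, t ^ i * u * (t ^ i)⁻¹ = a
  ss : σ * σ = 1
  st : σ * t * σ = t ^ 4
  su : σ * u = u * σ
  ww : w * w = 1
  wtw : w * t * w = t⁻¹
  ws : w * σ = σ * w
  rel : u * w * (u * w) * (u * w) = 1 ∨ u * w * (u * w) * (u * w) = σ

/-- The coordinates. -/
structure Coord (T : Subgroup G) (t σ u : G) (K : Type) [Field K] (ζ : K) (θ : K → G) : Prop where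
  mem : ∀ x, θ x ∈ T
  add : ∀ x y, θ (x + y) = θ x * θ y
  inj : Function.Injective θ
  surj : ∀ a ∈ T, ∃ x, θ x = a
  one : θ 1 = u
  tmul : ∀ x, t * θ x * t⁻¹ = θ (ζ * x)
  gen : ∀ x, x ≠ 0 → ∃ i : ℕ, x = ζ ^ i
  frob : ∀ x, σ * θ x * σ = θ (x ^ 4)
  zpow_ne : ∀ i : ℕ, 0 < i → i < 15 → ζ ^ i ≠ 1
  zord : ζ ^ 15 = 1

namespace SLConfig

variable {T : Subgroup G} {t σ w u : G} (c : SLConfig T t σ w u)
include c

theorem t15 : t ^ 15 = 1 := by rw [← c.tord]; exact pow_orderOf_eq_one t

theorem tpow_mem : ∀ (i : ℕ) {a : G}, a ∈ T → t ^ i * a * (t ^ i)⁻¹ ∈ T := by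
  intro i
  induction i with
  | zero => intro a ha; simpa using ha
  | succ i ih =>
    intro a ha
    rw [pow_succ', show t * t ^ i * a * (t * t ^ i)⁻¹ = t * (t ^ i * a * (t ^ i)⁻¹) * t⁻¹ by group]
    exact c.tmem _ (ih ha)

theorem u_ne : u ≠ 1 := by
  intro e
  obtain ⟨a, b, hab⟩ : ∃ a b : T, a ≠ b := by
    haveI : Finite T := Nat.finite_of_card_ne_zero (by rw [c.card]; norm_num)
    have h := c.card
    by_contra hno
    push Not at hno
    haveI : Subsingleton T := ⟨hno⟩
    rw [Nat.card_of_subsingleton (1 : T)] at h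
    norm_num at h
  have key : ∀ a : T, a = 1 := fun a => by
    by_contra ha
    obtain ⟨i, hi⟩ := c.trans a a.2 fun e' => ha (Subtype.ext e')
    rw [e, mul_one, mul_inv_cancel] at hi
    exact ha (Subtype.ext hi.symm)
  exact hab ((key a).trans (key b).symm)

/-- The involution of the cyclic part fixes the point raised to the fourth power. -/
theorem sigma_pow (i : ℕ) : σ * (t ^ i * u * (t ^ i)⁻¹) * σ = t ^ (4 * i) * u * (t ^ (4 * i))⁻¹ := by
  have si : σ⁻¹ = σ := inv_eq_of_mul_eq_one_right c.ss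
  have hp : σ * t ^ i * σ = t ^ (4 * i) := by
    rw [pow_mul, ← c.st]
    conv_rhs => rw [show σ * t * σ = σ * t * σ⁻¹ by rw [si], conj_pow, si]
  calc σ * (t ^ i * u * (t ^ i)⁻¹) * σ
      = σ * t ^ i * σ⁻¹ * (σ * u * σ⁻¹) * (σ * t ^ i * σ⁻¹)⁻¹ := by
        conv_lhs => arg 2; rw [← si]
        group
    _ = _ := by rw [si, hp, c.su, mul_assoc u, c.ss, mul_one]

/-- Field coordinates exist. -/
theorem exists_coord : ∃ (K : Type) (_ : Field K) (_ : Fintype K) (ζ : K) (θ : K → G),
    Fintype.card K = 16 ∧ CharP K 2 ∧ Coord T t σ u K ζ θ := by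
  classical
  haveI : Finite T := Nat.finite_of_card_ne_zero (by rw [c.card]; norm_num)
  letI : AddCommGroup (Additive T) :=
    { (inferInstance : AddGroup (Additive T)) with
      add_comm := fun a b => Additive.toMul.injective (Subtype.ext
        (c.comm _ (Additive.toMul a).2 _ (Additive.toMul b).2)) }
  let τ : AddMonoid.End (Additive T) := AddMonoidHom.mk'
    (fun a => Additive.ofMul ⟨t * (Additive.toMul a : T) * t⁻¹, c.tmem _ (Additive.toMul a).2⟩)
    (fun a b => congrArg Additive.ofMul (Subtype.ext (by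
      show t * ((Additive.toMul a : T) * (Additive.toMul b : T) : G) * t⁻¹ =
        t * (Additive.toMul a : T) * t⁻¹ * (t * (Additive.toMul b : T) * t⁻¹)
      group)))
  have hτ : ∀ (i : ℕ) (a : Additive T),
      ((Additive.toMul ((τ ^ i) a) : T) : G) = t ^ i * (Additive.toMul a : T) * (t ^ i)⁻¹ := by
    intro i
    induction i with
    | zero => intro a; show ((Additive.toMul a : T) : G) = _; simp
    | succ i ih =>
      intro a
      rw [pow_succ']
      show t * ((Additive.toMul ((τ ^ i) a) : T) : G) * t⁻¹ = _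
      rw [ih, pow_succ']; group
  let u' : Additive T := Additive.ofMul ⟨u, c.uT⟩
  have hu0 : u' ≠ 0 := fun e => c.u_ne (congrArg (fun a : Additive T => ((Additive.toMul a : T) : G)) e)
  have hall : ∀ a : Additive T, a ≠ 0 → ∃ i : ℕ, a = (τ ^ i) u' := by
    intro a ha
    obtain ⟨i, hi⟩ := c.trans _ (Additive.toMul a).2 fun e =>
      ha (Additive.toMul.injective (Subtype.ext e))
    exact ⟨i, Additive.toMul.injective (Subtype.ext (by rw [hτ]; exact hi.symm))⟩
  let R : Subring (AddMonoid.End (Additive T)) := Subring.centralizer {τ}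
  have hτR : ∀ i : ℕ, τ ^ i ∈ R := fun i => Subring.mem_centralizer_iff.2 fun g hg => by
    rw [Set.mem_singleton_iff.1 hg]; exact ((Commute.refl τ).pow_right i).eq
  have evinj : ∀ r ∈ R, r u' = 0 → r = 0 := by
    intro r hr e
    have hc : Commute τ r := Subring.mem_centralizer_iff.1 hr τ rfl
    refine DFunLike.ext _ _ fun a => ?_
    show r a = 0
    by_cases ha : a = 0
    · rw [ha]; exact map_zero r
    obtain ⟨i, rfl⟩ := hall a ha
    show (r * τ ^ i) u' = 0
    rw [← (hc.pow_left i).eq]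
    show (τ ^ i) (r u') = 0
    rw [e]; exact map_zero _
  have hcases : ∀ r ∈ R, r ≠ 0 → ∃ i : ℕ, r = τ ^ i := by
    intro r hr hne
    obtain ⟨i, hi⟩ := hall (r u') fun e => hne (evinj r hr e)
    exact ⟨i, sub_eq_zero.1 (evinj _ (R.sub_mem hr (hτR i)) (by
      show r u' - (τ ^ i) u' = 0
      rw [hi, sub_self]))⟩
  have hτ15 : τ ^ 15 = 1 := DFunLike.ext _ _ fun a => Additive.toMul.injective (Subtype.ext (by
    rw [hτ, c.t15]; show _ = ((Additive.toMul a : T) : G); simp))
  have hne10 : (1 : R) ≠ 0 := fun e => hu0 (by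
    have e' := congrArg (fun r : R => (r : AddMonoid.End (Additive T)) u') e
    exact e')
  have hR : IsField R := by
    refine ⟨⟨1, 0, hne10⟩, fun a b => Subtype.ext ?_, fun {a} ha => ?_⟩
    · show (a : AddMonoid.End (Additive T)) * b = b * a
      by_cases ha : (a : AddMonoid.End (Additive T)) = 0
      · rw [ha, zero_mul, mul_zero]
      by_cases hb : (b : AddMonoid.End (Additive T)) = 0
      · rw [hb, zero_mul, mul_zero]
      obtain ⟨i, hi⟩ := hcases _ a.2 ha
      obtain ⟨j, hj⟩ := hcases _ b.2 hb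
      rw [hi, hj, ← pow_add, ← pow_add, add_comm]
    · obtain ⟨i, hi⟩ := hcases _ a.2 fun e => ha (Subtype.ext e)
      refine ⟨⟨τ ^ (14 * i), hτR _⟩, Subtype.ext ?_⟩
      show (a : AddMonoid.End (Additive T)) * τ ^ (14 * i) = 1
      rw [hi, ← pow_add, show i + 14 * i = 15 * i by ring, pow_mul, hτ15, one_pow]
  have evsurj : Function.Surjective (fun r : R => (r : AddMonoid.End (Additive T)) u') := by
    intro a
    by_cases ha : a = 0
    · exact ⟨0, by rw [ha]; rfl⟩
    obtain ⟨i, rfl⟩ := hall a ha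
    exact ⟨⟨τ ^ i, hτR i⟩, rfl⟩
  have evinj' : Function.Injective (fun r : R => (r : AddMonoid.End (Additive T)) u') := fun r s e =>
    Subtype.ext (sub_eq_zero.1 (evinj _ (R.sub_mem r.2 s.2) (by
      show (r : AddMonoid.End (Additive T)) u' - (s : AddMonoid.End (Additive T)) u' = 0
      exact sub_eq_zero.2 e)))
  have hcR : Nat.card R = 16 := by
    rw [Nat.card_congr (Equiv.ofBijective _ ⟨evinj', evsurj⟩), Nat.card_congr Additive.toMul, c.card]
  haveI : Finite R := Nat.finite_of_card_ne_zero (by rw [hcR]; norm_num)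
  letI : Fintype R := Fintype.ofFinite R
  letI : Field R := hR.toField
  haveI : Fact (Nat.Prime 2) := ⟨Nat.prime_two⟩
  letI : Fintype (GaloisField 2 4) := Fintype.ofFinite _
  have hK : Fintype.card (GaloisField 2 4) = 16 := by
    rw [← Nat.card_eq_fintype_card, GaloisField.card 2 4 (by norm_num)]; norm_num
  obtain ⟨ψ⟩ : Nonempty (GaloisField 2 4 ≃+* R) :=
    ⟨FiniteField.ringEquivOfCardEq (by rw [hK, ← Nat.card_eq_fintype_card, hcR])⟩
  let ζ : GaloisField 2 4 := ψ.symm ⟨τ, by simpa using hτR 1⟩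
  let θ : GaloisField 2 4 → G := fun x =>
    ((Additive.toMul ((ψ x : AddMonoid.End (Additive T)) u') : T) : G)
  have hζ : (ψ ζ : AddMonoid.End (Additive T)) = τ := congrArg Subtype.val (ψ.apply_symm_apply _)
  have hζi : ∀ i : ℕ, (ψ (ζ ^ i) : AddMonoid.End (Additive T)) = τ ^ i := fun i => by
    rw [map_pow]
    show ((ψ ζ) ^ i : R).1 = τ ^ i
    rw [SubmonoidClass.coe_pow, hζ]
  have hgen : ∀ x, x ≠ 0 → ∃ i : ℕ, x = ζ ^ i := fun x hx => by
    obtain ⟨i, hi⟩ := hcases _ (ψ x).2 fun e => hx (ψ.injective (by rw [map_zero]; exact Subtype.ext e))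
    exact ⟨i, ψ.injective (Subtype.ext (by rw [hζi]; exact hi))⟩
  have hθi : ∀ i : ℕ, θ (ζ ^ i) = t ^ i * u * (t ^ i)⁻¹ := fun i => by
    show ((Additive.toMul ((ψ (ζ ^ i) : AddMonoid.End (Additive T)) u') : T) : G) = _
    rw [hζi, hτ]; rfl
  have hθ0 : θ 0 = 1 := by
    show ((Additive.toMul ((ψ 0 : AddMonoid.End (Additive T)) u') : T) : G) = 1
    rw [map_zero]; rfl
  refine ⟨GaloisField 2 4, inferInstance, inferInstance, ζ, θ, hK, inferInstance,
    ⟨fun x => (Additive.toMul ((ψ x : AddMonoid.End (Additive T)) u') : T).2, fun x y => ?_, fun x y e => ?_, fun a ha => ?_, ?_, fun x => ?_, hgen,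
      fun x => ?_, fun i h0 hi e => ?_, ?_⟩⟩
  · show ((Additive.toMul ((ψ (x + y) : AddMonoid.End (Additive T)) u') : T) : G) = _
    rw [map_add]; rfl
  · exact ψ.injective (evinj' (Additive.toMul.injective (Subtype.ext e)))
  · obtain ⟨r, hr⟩ := evsurj (Additive.ofMul ⟨a, ha⟩)
    refine ⟨ψ.symm r, ?_⟩
    show ((Additive.toMul ((ψ (ψ.symm r) : AddMonoid.End (Additive T)) u') : T) : G) = a
    rw [ψ.apply_symm_apply]
    exact congrArg (fun v : Additive T => ((Additive.toMul v : T) : G)) hr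
  · have := hθi 0
    simpa using this
  · show _ = ((Additive.toMul ((ψ (ζ * x) : AddMonoid.End (Additive T)) u') : T) : G)
    rw [map_mul]
    show _ = ((Additive.toMul (((ψ ζ : AddMonoid.End (Additive T)) * (ψ x : AddMonoid.End (Additive T))) u') : T) : G)
    rw [hζ]; rfl
  · by_cases hx : x = 0
    · rw [hx, zero_pow (by norm_num), hθ0, mul_one, c.ss]
    obtain ⟨i, rfl⟩ := hgen x hx
    rw [hθi, c.sigma_pow, ← pow_mul, hθi, mul_comm]
  · have e' := congrArg (fun x => (ψ x : AddMonoid.End (Additive T))) e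
    simp only [map_one, hζi] at e'
    have hti : ∀ j : ℕ, t ^ i * (t ^ j * u * (t ^ j)⁻¹) * (t ^ i)⁻¹ = t ^ j * u * (t ^ j)⁻¹ := fun j => by
      have := congrArg (fun r : AddMonoid.End (Additive T) =>
        ((Additive.toMul (r ((τ ^ j) u')) : T) : G)) e'
      change ((Additive.toMul ((τ ^ i) ((τ ^ j) u')) : T) : G) = ((Additive.toMul ((τ ^ j) u') : T) : G) at this
      rw [hτ, hτ] at this
      exact this
    have hu := hti 0
    simp only [pow_zero, one_mul, inv_one, mul_one] at hu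
    -- the stabilizer of a point has order one
    let φ : Fin i → G := fun j => t ^ (j : ℕ) * u * (t ^ (j : ℕ))⁻¹
    have hsub : (T : Set G) \ {1} ⊆ Set.range φ := by
      rintro a ⟨ha, ha1⟩
      obtain ⟨j, hj⟩ := c.trans a ha ha1
      refine ⟨⟨j % i, Nat.mod_lt _ h0⟩, ?_⟩
      show t ^ (j % i) * u * (t ^ (j % i))⁻¹ = a
      have hk : ∀ k : ℕ, t ^ (i * k) * u * (t ^ (i * k))⁻¹ = u := by
        intro k
        induction k with
        | zero => simp
        | succ k ih =>
          calc t ^ (i * (k + 1)) * u * (t ^ (i * (k + 1)))⁻¹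
              = t ^ i * (t ^ (i * k) * u * (t ^ (i * k))⁻¹) * (t ^ i)⁻¹ := by
                rw [show i * (k + 1) = i + i * k by ring, pow_add]; group
            _ = u := by rw [ih, hu]
      calc t ^ (j % i) * u * (t ^ (j % i))⁻¹
          = t ^ (j % i) * (t ^ (i * (j / i)) * u * (t ^ (i * (j / i)))⁻¹) * (t ^ (j % i))⁻¹ := by rw [hk]
        _ = t ^ (j % i + i * (j / i)) * u * (t ^ (j % i + i * (j / i)))⁻¹ := by rw [pow_add]; group
        _ = a := by rw [Nat.mod_add_div, hj]
    have hle := Set.ncard_le_ncard hsub (Set.finite_range φ)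
    rw [Set.ncard_sdiff_singleton_of_mem (one_mem T), ← Nat.card_coe_set_eq] at hle
    have h2 : (Set.range φ).ncard ≤ i := by
      rw [← Nat.card_coe_set_eq]
      exact (Finite.card_range_le φ).trans (by simp)
    have : Nat.card T - 1 ≤ i := le_trans hle h2
    rw [c.card] at this
    omega
  · exact ψ.injective (Subtype.ext (by rw [hζi, hτ15, map_one]; rfl))

end SLConfig

end CfsgLib.Invol.JThreeType
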