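import Cfsg.Agent.Lib.Invol.JThreeType.Sixteen.Transvection
import Cfsg.Agent.Lib.Invol.JThreeType.Sixteen.Recognition
import Mathlib.SetTheory.Cardinal.Finite

/-!
# The extra involution lies outside the group with seventeen points

That group has order at most `8160`.
-/

set_option autoImplicit false

namespace CfsgLib.Invol.JThreeType

open Subgroup

namespace Setting

variable {G : Type*} [Group G] [Finite G] {T : Subgroup G} {t σ w u : G} {K : Type} [Field K] {ζ : K}
  {θ : K → G} (S : Setting T t σ w u K ζ θ)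

/-- The element permutes the seventeen cosets. -/
def Keeps (S : Setting T t σ w u K ζ θ) (g : G) : Prop :=
  ∀ o, ∃ o', g • S.cfg.point θ o = S.cfg.point θ o'

include S

theorem keeps_mul {g g' : G} (a : S.Keeps g) (a' : S.Keeps g') : S.Keeps (g * g') := fun o => by
  obtain ⟨o', e⟩ := a' o
  obtain ⟨o'', e'⟩ := a o'
  exact ⟨o'', by rw [mul_smul, e, e']⟩

theorem keeps_gens : S.Keeps u ∧ S.Keeps σ ∧ S.Keeps w ∧ ∀ n : ℕ, S.Keeps (w * t ^ n) := by
  have hw : S.Keeps w := fun o => by
    cases o with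
    | infty => exact ⟨_, S.cfg.point_w_none S.crd⟩
    | coe x =>
      by_cases hx : x = 0
      · subst hx; exact ⟨_, S.cfg.point_w_zero S.crd⟩
      · exact ⟨_, S.cfg.point_w_ne S.crd hx⟩
  refine ⟨fun o => ⟨OnePoint.map (fun x => 1 + x) o, ?_⟩, fun o => ⟨_, S.cfg.point_sigma S.crd o⟩, hw,
    fun n => S.keeps_mul hw fun o => ⟨_, S.cfg.acts_scale S.crd n o⟩⟩
  have e := S.cfg.acts_shift S.crd 1 o
  rwa [S.crd.one] at e

/-- The group with seventeen points. -/
def base17 (_S : Setting T t σ w u K ζ θ) : Subgroup G := closure {u, σ, w, w * t ^ 6, w * t ^ 10}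

theorem keeps_base {g : G} (hg : g ∈ S.base17) : S.Keeps g := by
  obtain ⟨hu, hs, hw, hwt⟩ := S.keeps_gens
  have hgen : ∀ a ∈ ({u, σ, w, w * t ^ 6, w * t ^ 10} : Set G), S.Keeps a ∧ a⁻¹ = a := by
    have hinv : ∀ n : ℕ, (w * t ^ n)⁻¹ = w * t ^ n := fun n => inv_eq_of_mul_eq_one_right (by
      rw [show w * t ^ n * (w * t ^ n) = w * t ^ n * w⁻¹⁻¹ * t ^ n by group, inv_inv,
        show w * t ^ n * w = w * t ^ n * w⁻¹ by rw [S.cfg.winv], ← conj_pow, S.cfg.winv, S.cfg.wtw, inv_pow,
        inv_mul_cancel])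
    rintro a (rfl | rfl | rfl | rfl | rfl)
    exacts [⟨hu, inv_eq_of_mul_eq_one_right (S.cfg.sq _ S.cfg.uT)⟩, ⟨hs, S.cfg.sinv⟩, ⟨hw, S.cfg.winv⟩,
      ⟨hwt 6, hinv 6⟩, ⟨hwt 10, hinv 10⟩]
  induction hg using Subgroup.closure_induction'' with
  | mem a ha => exact (hgen a ha).1
  | inv_mem a ha => rw [(hgen a ha).2]; exact (hgen a ha).1
  | one => exact fun o => ⟨o, one_smul G _⟩
  | mul a b _ _ ha hb => exact S.keeps_mul ha hb

theorem card_base : Nat.card S.base17 ≤ 17 * 480 := by
  classical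
  haveI : Finite K := Nat.finite_of_card_ne_zero (by rw [S.card]; norm_num)
  haveI : Fintype (OnePoint K) := Fintype.ofFinite (Option K)
  have h17 : Nat.card (OnePoint K) = 17 := by
    show Nat.card (Option K) = 17
    rw [Finite.card_option, S.card]
  have hB : Nat.card S.cfg.borel ≤ 480 := by
    let F : T × Fin 15 × Bool → S.cfg.borel := fun p =>
      ⟨(p.1 : G) * t ^ (p.2.1 : ℕ) * bif p.2.2 then σ else 1, by
        refine mul_mem (mul_mem (S.cfg.T_borel p.1.2) (pow_mem S.cfg.t_borel _)) ?_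
        cases p.2.2
        exacts [one_mem _, S.cfg.s_borel]⟩
    have hF : Function.Surjective F := by
      rintro ⟨g, a, ha, i, hg⟩
      have hm : t ^ i = t ^ (i % 15) := by
        conv_lhs => rw [← Nat.mod_add_div i 15, pow_add, pow_mul, S.cfg.t15, one_pow, mul_one]
      rcases hg with e | e
      · exact ⟨(⟨a, ha⟩, ⟨i % 15, Nat.mod_lt _ (by norm_num)⟩, false), Subtype.ext (by
          show a * t ^ (i % 15) * 1 = g; rw [mul_one, ← hm, e])⟩
      · exact ⟨(⟨a, ha⟩, ⟨i % 15, Nat.mod_lt _ (by norm_num)⟩, true), Subtype.ext (by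
          show a * t ^ (i % 15) * σ = g; rw [← hm, e])⟩
    refine (Nat.card_le_card_of_surjective F hF).trans ?_
    rw [Nat.card_prod, Nat.card_prod, S.cfg.card, Nat.card_eq_fintype_card, Nat.card_eq_fintype_card,
      Fintype.card_fin, Fintype.card_bool]
  choose f hf using fun g : S.base17 => S.keeps_base g.2 (OnePoint.infty : OnePoint K)
  have hb : ∀ g : S.base17, (S.cfg.point θ (f g)).out⁻¹ * (g : G) ∈ S.cfg.borel := fun g => by
    refine QuotientGroup.eq.1 ?_
    rw [QuotientGroup.out_eq', ← hf g]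
    show (((g : G) * 1 : G) : G ⧸ S.cfg.borel) = _
    rw [mul_one]
  let E : S.base17 → OnePoint K × S.cfg.borel := fun g => (f g, ⟨_, hb g⟩)
  have hE : Function.Injective E := fun g g' e => by
    have e1 : f g = f g' := congrArg Prod.fst e
    have e2 := congrArg (fun p : OnePoint K × S.cfg.borel => (p.2 : G)) e
    simp only [E, e1] at e2
    exact Subtype.ext (mul_left_cancel e2)
  refine (Nat.card_le_card_of_injective E hE).trans ?_
  rw [Nat.card_prod, h17]
  exact Nat.mul_le_mul_left 17 hB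

theorem transv_notin {d : G} (D : Transv S d) : d ∉ S.base17 := by
  intro hd
  obtain ⟨o, ho⟩ := S.keeps_base hd (OnePoint.infty : OnePoint K)
  cases o with
  | infty =>
    have hB : d ∈ S.cfg.borel := by
      have e := QuotientGroup.eq.1 (show ((d * 1 : G) : G ⧸ S.cfg.borel) = ((1 : G) : G ⧸ S.cfg.borel) from ho)
      rwa [mul_one, mul_one, inv_mem_iff] at e
    obtain ⟨a, ha, i, hg⟩ := hB
    have hti : ∀ g, (g = t ^ i ∨ g = t ^ i * σ) → d = a * g → t ^ i = 1 := by
      intro g hg e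
      have hau : ∀ b ∈ T, a * b * a⁻¹ = b := fun b hb => by rw [S.cfg.comm a ha b hb, mul_inv_cancel_right]
      have h1 : g * u * g⁻¹ = t ^ i * u * (t ^ i)⁻¹ := by
        rcases hg with rfl | rfl
        · rfl
        · rw [show t ^ i * σ * u * (t ^ i * σ)⁻¹ = t ^ i * (σ * u * σ⁻¹) * (t ^ i)⁻¹ by group, S.cfg.su,
            mul_inv_cancel_right]
      have h2 : d * u * d⁻¹ = u := by rw [D.du, mul_inv_cancel_right]
      rw [e, show a * g * u * (a * g)⁻¹ = a * (g * u * g⁻¹) * a⁻¹ by group, h1,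
        hau _ (S.cfg.tpow_mem i S.cfg.uT)] at h2
      have h3 : θ (ζ ^ i) = θ (ζ ^ 0) := by rw [S.cfg.theta_pow S.crd, h2, pow_zero, S.crd.one]
      obtain ⟨k, rfl⟩ := Nat.dvd_of_mod_eq_zero (show i % 15 = 0 from S.pow_inj h3)
      rw [pow_mul, S.cfg.t15, one_pow]
    rcases hg with e | e
    · have h := hti _ (Or.inl rfl) e
      rw [h, mul_one] at e
      exact D.ne (S.yfree (e ▸ ha) D.dy.symm)
    · have h := hti _ (Or.inr rfl) (by rw [e, mul_assoc])
      rw [h, mul_one] at e
      have ea : a = d * σ := by rw [e, mul_assoc, S.cfg.ss, mul_one]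
      have hc : Commute (t ^ 10) (d * σ) :=
        (show Commute (t ^ 10) d from D.dy.symm).mul_right (S.sigma_pow_fix (k := 10) (by norm_num)).symm
      have h1 := S.yfree (ea ▸ ha) hc.eq
      exact D.nes (by
        calc d = d * σ * σ := by rw [mul_assoc, S.cfg.ss, mul_one]
          _ = σ := by rw [h1, one_mul])
  | coe x =>
    have e : u • d • S.cfg.point θ OnePoint.infty = u • S.cfg.point θ (x : OnePoint K) :=
      congrArg (fun q => u • q) ho
    have hu : ∀ o, u • S.cfg.point θ o = S.cfg.point θ (OnePoint.map (fun x => 1 + x) o) := fun o => by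
      have e := S.cfg.acts_shift S.crd 1 o
      rwa [S.crd.one] at e
    rw [← mul_smul, ← D.du, mul_smul, hu, hu, OnePoint.map_infty, ho] at e
    have := OnePoint.coe_injective (S.cfg.point_injective S.crd e)
    exact one_ne_zero (α := K) (left_eq_add.1 (this.trans (add_comm 1 x))) 

end Setting

end CfsgLib.Invol.JThreeType
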