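import Cfsg.Agent.Lib.Invol.JThreeType.Sixteen.Amalgam
import Cfsg.Agent.Lib.Invol.JThreeType.Sixteen.Outside
import Cfsg.Agent.Lib.Invol.JThreeType.Sixteen.Embedded

/-!
# The six involutions generate

Together they contain the centralizer of the Frobenius involution and fuse all involutions into one class.
-/

set_option autoImplicit false
set_option synthInstance.maxSize 4096

namespace CfsgLib.Invol.JThreeType

open Subgroup
open CfsgLib.Invol.JTwo (Frame Out cj mem_cj mem_centralizer_conj)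

local notation "A" => alternatingGroup (Fin 5)

theorem stab_transitive : ∀ i j k : Fin 5, j ≠ i → k ≠ i →
    ∃ s : A, JTwo.AltFive.act s i = i ∧ JTwo.AltFive.act s j = k := by
  decide +kernel

theorem even_span : ∀ v : {v : Fin 5 → Bool // JTwo.AltFive.Even5 v}, ∃ e : Fin 5 → Bool, ∀ k,
    v.1 k = ((e 0 && JTwo.AltFive.co 0 k) ^^ (e 1 && JTwo.AltFive.co 1 k) ^^ (e 2 && JTwo.AltFive.co 2 k) ^^
      (e 3 && JTwo.AltFive.co 3 k) ^^ (e 4 && JTwo.AltFive.co 4 k)) := by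
  decide +kernel

/-- The stabiliser of a point. -/
def pointStab (i : Fin 5) : Subgroup A where
  carrier := {g | JTwo.AltFive.act g i = i}
  one_mem' := rfl
  mul_mem' := fun {a b} ha hb => by
    show (a : Equiv.Perm (Fin 5)) ((b : Equiv.Perm (Fin 5)) i) = i
    rw [show (b : Equiv.Perm (Fin 5)) i = i from hb]; exact ha
  inv_mem' := fun {a} ha => by
    show (a : Equiv.Perm (Fin 5))⁻¹ i = i
    exact Equiv.Perm.inv_eq_iff_eq.2 (show i = (a : Equiv.Perm (Fin 5)) i from ha.symm)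

/-- Two commuting involutions and an element of order three with a common point, and a mover, generate. -/
theorem five_generate {S : Subgroup A} {i : Fin 5} {a b y c : A} (ha : a ∈ S) (hb : b ∈ S) (hy : y ∈ S)
    (hc : c ∈ S) (haa : a * a = 1) (ha1 : a ≠ 1) (hbb : b * b = 1) (hb1 : b ≠ 1) (hab : b ≠ a)
    (hai : JTwo.AltFive.act a i = i) (hbi : JTwo.AltFive.act b i = i) (hyy : y * y * y = 1) (hy1 : y ≠ 1)
    (hyi : JTwo.AltFive.act y i = i) (hci : JTwo.AltFive.act c i ≠ i) : S = ⊤ := by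
  have hfour : JTwo.AltFive.four i ≤ S ⊓ pointStab i := fun g hg => ⟨by
    rcases JTwo.AltFive.four_cases a b g haa hbb hg.1 i hai hbi hg.2 ha1 hb1 hab with e | e | e | e <;> rw [e]
    exacts [one_mem S, ha, hb, mul_mem hb ha], hg.2⟩
  have hst : Nat.card (pointStab i) = 12 := by
    rw [← JTwo.AltFive.stab_card i, ← Nat.card_eq_fintype_card]
    exact Nat.card_congr (Equiv.refl _)
  have h4 : 4 ∣ Nat.card (S ⊓ pointStab i : Subgroup A) := JTwo.AltFive.card_four i ▸ card_dvd_of_le hfour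
  have h3 : 3 ∣ Nat.card (S ⊓ pointStab i : Subgroup A) := by
    haveI : Fact (Nat.Prime 3) := ⟨Nat.prime_three⟩
    rw [← orderOf_eq_prime (p := 3) (x := y) (by rw [pow_three', hyy]) hy1]
    exact Subgroup.orderOf_dvd_natCard _ ⟨hy, hyi⟩
  have h12 := Nat.Coprime.mul_dvd_of_dvd_of_dvd (by norm_num : Nat.Coprime 4 3) h4 h3
  have hstab : pointStab i ≤ S := by
    refine le_trans (eq_of_le_of_card_ge inf_le_right ?_).ge inf_le_left
    rw [hst]
    exact Nat.le_of_dvd Nat.card_pos h12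
  refine eq_top_iff.2 fun g _ => ?_
  by_cases hg : JTwo.AltFive.act g i = i
  · exact hstab hg
  obtain ⟨s, hs, hsk⟩ := stab_transitive i _ _ hci hg
  have hm : c⁻¹ * s⁻¹ * g ∈ pointStab i := by
    show (c : Equiv.Perm (Fin 5))⁻¹ ((s : Equiv.Perm (Fin 5))⁻¹ ((g : Equiv.Perm (Fin 5)) i)) = i
    rw [Equiv.Perm.inv_eq_iff_eq, Equiv.Perm.inv_eq_iff_eq]
    exact hsk.symm
  have := mul_mem (mul_mem (hstab (x := s) hs) hc) (hstab hm)
  rwa [show s * c * (c⁻¹ * s⁻¹ * g) = g by group] at this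

namespace Transv

variable {G : Type*} [Group G] [Finite G] {T : Subgroup G} {t σ w u : G} {K : Type} [Field K] {ζ : K}
  {θ : K → G} {S : Setting T t σ w u K ζ θ} {d : G} (D : Transv S d)
include D

/-- The whole subgroup. -/
theorem gens_le {H : Subgroup G} (hu : u ∈ H) (hσ : σ ∈ H) (hw : w ∈ H) (h6 : w * t ^ 6 ∈ H)
    (h10 : w * t ^ 10 ∈ H) (hd : d ∈ H) : H = ⊤ := by
  have hf : ∀ n, w * t ^ n ∈ H → t ^ n ∈ H := fun n hn => by
    have := mul_mem hw hn
    rwa [← mul_assoc, S.cfg.ww, one_mul] at this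
  have ht : t ∈ H := by
    have := mul_mem (hf 6 h6) (hf 10 h10)
    rwa [← pow_add, show 6 + 10 = 15 + 1 from rfl, pow_add, S.cfg.t15, one_mul, pow_one] at this
  obtain ⟨R, hR⟩ := S.hyp σ ⟨S.cfg.ss, S.sigma_ne⟩
  obtain ⟨F⟩ := hR.exists_frame
  have hdR := D.point R hR
  obtain ⟨i, hi⟩ := F.all d hdR D.dd D.ne D.nes
  set C := centralizer ({σ} : Set G)
  have hdp : ∀ {c : G}, c ∈ C → c * d = d * c → c * F.p i = F.p i * c := fun hc e => by
    rcases hi with rfl | rfl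
    · exact e
    · exact (hR.centralizer_mul_z hc).1 e
  set S0 : Subgroup A := (H.subgroupOf C).map F.π with hS0
  have hmem : ∀ {a : G} (ha : a ∈ H) (hc : a ∈ C), F.π ⟨a, hc⟩ ∈ S0 := fun ha hc =>
    mem_map_of_mem F.π (show (⟨_, hc⟩ : C) ∈ H.subgroupOf C from ha)
  have hy : t ^ 10 ∈ H := pow_mem ht 10
  have hyC : t ^ 10 ∈ C := mem_centralizer_singleton_iff.2 D.sig_commute.symm.eq
  have huC : u ∈ C := mem_centralizer_singleton_iff.2 S.cfg.su.symm
  set u' := t ^ 10 * u * (t ^ 10)⁻¹ with hu'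
  have huC' : u' ∈ C := mul_mem (mul_mem hyC huC) (inv_mem hyC)
  have hvC : w * σ ∈ C := mem_centralizer_singleton_iff.2 (by
    rw [mul_assoc, S.cfg.ss, mul_one, S.cfg.ws, ← mul_assoc, S.cfg.ss, one_mul])
  let uC : C := ⟨u, huC⟩
  let uC' : C := ⟨u', huC'⟩
  let yC : C := ⟨t ^ 10, hyC⟩
  let vC : C := ⟨w * σ, hvC⟩
  -- the base point is outside the extraspecial group
  have hu'T : u' ∈ T := S.cfg.tpow_mem 10 S.cfg.uT
  have hu'1 : u' ≠ 1 := fun e => S.cfg.u_ne (conj_eq_one_iff.1 e)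
  have hu'u : u' ≠ u := fun e => by
    have e' : θ (ζ ^ 10) = θ (ζ ^ 0) := by rw [S.cfg.theta_pow S.crd, ← hu', e, pow_zero, S.crd.one]
    have := S.pow_inj e'
    omega
  have hu'uT : u' * u ∈ T := mul_mem hu'T S.cfg.uT
  have huR : u ∉ R := fun hm => by
    have h10' : u' ∈ R := hR.nrm _ hyC u hm
    have hus : u ≠ σ := fun e => S.sigma_notin (e ▸ S.cfg.uT)
    rcases hR.commuting_invol hm (S.cfg.sq u S.cfg.uT) S.cfg.u_ne hus h10' (S.cfg.sq _ hu'T)
      (S.cfg.comm u S.cfg.uT _ hu'T) with e | e | e | e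
    · exact hu'1 e
    · exact S.sigma_notin (e ▸ hu'T)
    · exact hu'u e
    · refine S.sigma_notin ?_
      have := mul_mem S.cfg.uT hu'T
      rwa [e, ← mul_assoc, S.cfg.sq u S.cfg.uT, one_mul] at this
  have hu'R : u' ∉ R := fun hm => huR (by
    have := hR.nrm _ (inv_mem hyC) _ hm
    rwa [show (t ^ 10)⁻¹ * u' * (t ^ 10)⁻¹⁻¹ = u by rw [hu']; group] at this)
  have hne : F.π uC' ≠ F.π uC := fun e => by
    have hm : u' * u ∈ R := (F.ker (uC' * uC)).1 (by
      rw [map_mul, e, ← map_mul, show uC * uC = 1 from Subtype.ext (S.cfg.sq u S.cfg.uT), map_one])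
    have hp1 : u' * u ≠ 1 := fun e => hu'u (by
      rw [eq_inv_of_mul_eq_one_left e, inv_eq_of_mul_eq_one_right (S.cfg.sq u S.cfg.uT)])
    have hpm : t ^ 10 * (u' * u) * (t ^ 10)⁻¹ ∈ R := hR.nrm _ hyC _ hm
    have hps : u' * u ≠ σ := fun e => S.sigma_notin (e ▸ hu'uT)
    have hpT : t ^ 10 * (u' * u) * (t ^ 10)⁻¹ ∈ T := S.cfg.tpow_mem 10 hu'uT
    rcases hR.commuting_invol hm (S.cfg.sq _ hu'uT) hp1 hps hpm (S.cfg.sq _ hpT)
      (S.cfg.comm _ hu'uT _ hpT) with e | e | e | e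
    · exact hp1 (conj_eq_one_iff.1 e)
    · exact S.sigma_notin (e ▸ hpT)
    · exact hp1 (S.yfree hu'uT (mul_inv_eq_iff_eq_mul.1 e))
    · refine S.sigma_notin ?_
      have := mul_mem hu'uT hpT
      rwa [e, ← mul_assoc, S.cfg.sq _ hu'uT, one_mul] at this
  have o : Out σ R u := ⟨huC, huR, S.cfg.sq u S.cfg.uT⟩
  have o' : Out σ R u' := ⟨huC', hu'R, S.cfg.sq _ hu'T⟩
  have hdu' : u' * d = d * u' :=
    (((D.d_commute.symm).mul_left (show Commute u d from D.du.symm)).mul_left D.d_commute.symm.inv_left).eq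
  have hui := hR.act_of_commute F (c := uC) (hdp huC D.du.symm)
  have hui' := hR.act_of_commute F (c := uC') (hdp huC' hdu')
  have hyi := hR.act_of_commute F (c := yC) (hdp hyC D.dy.symm)
  have hy3 : yC * yC * yC = 1 := Subtype.ext (by
    show t ^ 10 * t ^ 10 * t ^ 10 = 1
    rw [← pow_three']; exact S.y_three)
  have hy1 : F.π yC ≠ 1 := fun e' => by
    haveI : Fact (Nat.Prime 3) := ⟨Nat.prime_three⟩
    have hd' := orderOf_dvd_natCard R ((F.ker yC).1 e' : t ^ 10 ∈ R)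
    rw [hR.card, orderOf_eq_prime (p := 3) S.y_three S.y_ne] at hd'
    norm_num at hd'
  have hv : JTwo.AltFive.act (F.π vC) i ≠ i := by
    intro hvi
    have hvv : vC * vC = 1 := Subtype.ext (by
      show w * σ * (w * σ) = 1
      rw [show w * σ * (w * σ) = w * (σ * w) * σ by group, ← S.cfg.ws,
        show w * (w * σ) * σ = w * w * (σ * σ) by group, S.cfg.ww, S.cfg.ss, mul_one])
    have hinv : vC * yC * vC = yC⁻¹ := by
      refine eq_inv_of_mul_eq_one_left (Subtype.ext ?_)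
      show w * σ * t ^ 10 * (w * σ) * t ^ 10 = 1
      rw [show w * σ * t ^ 10 * (w * σ) = w * (σ * t ^ 10) * (w * σ) by group, D.sig_commute.eq, S.cfg.ws,
        show w * (t ^ 10 * σ) * (σ * w) = w * t ^ 10 * (σ * σ) * w⁻¹⁻¹ by group, S.cfg.ss, mul_one, inv_inv,
        show w * t ^ 10 * w = w * t ^ 10 * w⁻¹ by rw [S.cfg.winv], ← conj_pow, S.cfg.winv, S.cfg.wtw, inv_pow,
        inv_mul_cancel]
    have hv1 : F.π vC ≠ 1 := fun e' => by
      have h2 := congrArg F.π hinv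
      rw [map_mul, map_mul, e', one_mul, mul_one, map_inv] at h2
      have h3 := congrArg F.π hy3
      rw [map_mul, map_mul, map_one, eq_inv_iff_mul_eq_one.1 h2, one_mul] at h3
      exact hy1 h3
    refine no_common_point ⟨F.π vC, by rw [← map_mul, hvv, map_one], hv1⟩
      ⟨F.π yC, by rw [← map_mul, ← map_mul, hy3, map_one], hy1⟩ ?_ i hyi hvi
    show F.π vC * F.π yC * F.π vC = (F.π yC)⁻¹
    rw [← map_mul, ← map_mul, hinv, map_inv]
  have hS0top : S0 = ⊤ := five_generate (hmem hu huC) (hmem (mul_mem (mul_mem hy hu) (inv_mem hy)) huC')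
    (hmem hy hyC) (hmem (mul_mem hw hσ) hvC) (hR.pi_invol F o).1 (hR.pi_invol F o).2 (hR.pi_invol F o').1
    (hR.pi_invol F o').2 hne hui hui' (by rw [← map_mul, ← map_mul, hy3, map_one]) hy1 hyi hv
  have lift : ∀ g : A, ∃ c : C, (c : G) ∈ H ∧ F.π c = g := fun g => by
    obtain ⟨c, hc, e⟩ : g ∈ S0 := hS0top ▸ mem_top g
    exact ⟨c, hc, e⟩
  have hpi : F.p i ∈ H := by
    rcases hi with e | e
    · exact e ▸ hd
    · have := mul_mem hd hσ
      rwa [e, mul_assoc, S.cfg.ss, mul_one] at this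
  have hp : ∀ j, F.p j ∈ H := fun j => by
    obtain ⟨g, hg⟩ := JTwo.AltFive.transitive i j
    obtain ⟨c, hcH, hc⟩ := lift g
    have hm : (c : G) * F.p i * (c : G)⁻¹ ∈ H := mul_mem (mul_mem hcH hpi) (inv_mem hcH)
    rcases F.equi c i with e | e <;> rw [hc, hg] at e <;> rw [e] at hm
    · exact hm
    · have := mul_mem hm hσ
      rwa [mul_assoc, S.cfg.ss, mul_one] at this
  have hRH : R ≤ H := by
    intro q hq
    obtain ⟨e, he⟩ := even_span ⟨F.chi q, hR.chi_even F hq⟩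
    let x : Fin 5 → G := fun j => bif e j then F.p j else 1
    have hx : ∀ j, x j ∈ R ∧ x j ∈ H ∧ ∀ k, F.chi (x j) k = (e j && JTwo.AltFive.co j k) := fun j => by
      simp only [x]
      cases e j
      · exact ⟨one_mem R, one_mem H, fun k => by simpa using hR.chi_one F k⟩
      · exact ⟨F.mem j, hp j, fun k => by simp [F.chi_p]⟩
    have hm : x 0 * x 1 * x 2 * x 3 * x 4 ∈ R ∧ x 0 * x 1 * x 2 * x 3 * x 4 ∈ H :=
      ⟨mul_mem (mul_mem (mul_mem (mul_mem (hx 0).1 (hx 1).1) (hx 2).1) (hx 3).1) (hx 4).1,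
        mul_mem (mul_mem (mul_mem (mul_mem (hx 0).2.1 (hx 1).2.1) (hx 2).2.1) (hx 3).2.1) (hx 4).2.1⟩
    have hchi : F.chi (x 0 * x 1 * x 2 * x 3 * x 4) = F.chi q := funext fun k => by
      rw [hR.chi_mul F (mul_mem (mul_mem (mul_mem (hx 0).1 (hx 1).1) (hx 2).1) (hx 3).1) (hx 4).1,
        hR.chi_mul F (mul_mem (mul_mem (hx 0).1 (hx 1).1) (hx 2).1) (hx 3).1,
        hR.chi_mul F (mul_mem (hx 0).1 (hx 1).1) (hx 2).1, hR.chi_mul F (hx 0).1 (hx 1).1,
        (hx 0).2.2, (hx 1).2.2, (hx 2).2.2, (hx 3).2.2, (hx 4).2.2]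
      exact (he k).symm
    rcases hR.eq_or_of_chi F hm.1 hq hchi with e' | e' <;> rw [e']
    exacts [hm.2, mul_mem hm.2 hσ]
  have hCH : C ≤ H := fun c hc => by
    obtain ⟨b, hbH, hb⟩ := lift (F.π ⟨c, hc⟩)
    have hm : (b : G)⁻¹ * c ∈ R := (F.ker (b⁻¹ * ⟨c, hc⟩)).1 (by rw [map_mul, map_inv, hb, inv_mul_cancel])
    simpa using mul_mem hbH (hRH hm)
  -- the classes
  have hθ : θ ζ ∈ H := by
    rw [← pow_one ζ, S.cfg.theta_pow S.crd]
    exact mul_mem (mul_mem (pow_mem ht 1) hu) (inv_mem (pow_mem ht 1))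
  have cls_uσ : ∃ c ∈ H, c * σ * c⁻¹ = u * σ := by
    refine ⟨θ ζ, hθ, ?_⟩
    have e1 : θ (ζ + ζ ^ 4) = u := by
      rw [show ζ + ζ ^ 4 = 1 by linear_combination S.root - S.two]; exact S.crd.one
    rw [S.crd.add, ← S.crd.frob] at e1
    calc θ ζ * σ * (θ ζ)⁻¹ = θ ζ * σ * θ ζ * (σ * σ) := by
          rw [S.cfg.ss, mul_one, inv_eq_of_mul_eq_one_right (S.cfg.sq _ (S.crd.mem ζ))]
      _ = θ ζ * (σ * θ ζ * σ) * σ := by group
      _ = u * σ := by rw [e1]
  have cls_d : ∃ c ∈ H, c * σ * c⁻¹ = d := by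
    have hst : σ * t ^ 6 * (σ * t ^ 6) = 1 := by
      rw [← mul_assoc, S.cfg.sigma_t, mul_assoc (t ^ (4 * 6)) σ σ, S.cfg.ss, mul_one, ← pow_add,
        show 4 * 6 + 6 = 15 * 2 from rfl, pow_mul, S.cfg.t15, one_pow]
    obtain ⟨c, hc, hce⟩ := odd_dihedral_conj hst D.dd (k := 2) (by
      have e := congrArg (fun x => (σ * t ^ 6) * x * (σ * t ^ 6)⁻¹) D.dsf5
      simp only [← conj_pow, mul_one, mul_inv_cancel] at e
      rw [← e]
      congr 1
      group) (mul_mem hσ (pow_mem ht 6)) hd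
    refine ⟨c * t ^ 12, mul_mem hc (pow_mem ht 12), ?_⟩
    rw [← hce]
    calc c * t ^ 12 * σ * (c * t ^ 12)⁻¹ = c * (t ^ 12 * σ * (t ^ 12)⁻¹) * c⁻¹ := by group
      _ = c * (σ * t ^ 6) * c⁻¹ := by
          congr 2
          rw [S.cfg.sigma_t, mul_inv_eq_iff_eq_mul, mul_assoc _ σ, S.cfg.sigma_t, ← mul_assoc, ← pow_add,
            show 4 * 6 + 4 * 12 = 15 * 4 + 12 from rfl, pow_add, pow_mul, S.cfg.t15, one_pow, one_mul]
  have conjC : ∀ s, s ∈ C → IsI s → ∃ c ∈ H, c * σ * c⁻¹ = s := by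
    intro s hsC hs
    by_cases hsσ : s = σ
    · exact ⟨1, one_mem H, by rw [hsσ]; group⟩
    by_cases hsR : s ∈ R
    · obtain ⟨c0, hc0, e0⟩ := cls_d
      obtain ⟨c1, hc1, e1⟩ := hR.exists_conj_point F i hdR D.dd D.ne D.nes
      obtain ⟨c2, hc2, e2⟩ := hR.exists_conj_point F i hsR hs.1 hs.2 hsσ
      refine ⟨c2 * c1⁻¹ * c0, mul_mem (mul_mem (hCH hc2) (inv_mem (hCH hc1))) hc0, ?_⟩
      rw [show c2 * c1⁻¹ * c0 * σ * (c2 * c1⁻¹ * c0)⁻¹ = c2 * (c1⁻¹ * (c0 * σ * c0⁻¹) * c1) * c2⁻¹ by group,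
        e0, ← e1, ← e2]
      group
    · have ouσ : Out σ R (u * σ) := ⟨mul_mem huC (mem_centralizer_singleton_iff.2 rfl), fun hm => huR (by
        have := mul_mem hm hR.zmem
        rwa [mul_assoc, S.cfg.ss, mul_one] at this), by
        rw [show u * σ * (u * σ) = u * (σ * u) * σ by group, S.cfg.su, show u * (u * σ) * σ = u * u * (σ * σ) by group,
          S.cfg.sq u S.cfg.uT, S.cfg.ss, mul_one]⟩
      obtain ⟨c0, hc0, e0⟩ := cls_uσ
      obtain ⟨c1, hc1, e1⟩ := (hR.outer_class ouσ).2 s ⟨hsC, hsR, hs.1⟩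
      refine ⟨c1 * c0, mul_mem (hCH hc1) hc0, ?_⟩
      rw [← e1, ← e0]; group
  have hone : ∀ s ∈ H, IsI s → ∃ c ∈ H, c * σ * c⁻¹ = s := by
    intro s hs hsI
    rcases Nat.even_or_odd' (orderOf (σ * s)) with ⟨k, hk | hk⟩
    · set r := (σ * s) ^ k with hr
      have hrI : IsI r := by
        have := exists_invol_half (x := σ * s) (by rw [hk]; exact even_two_mul k)
        rwa [hk, Nat.mul_div_cancel_left _ (by norm_num)] at this
      have hinv : r⁻¹ = r := inv_eq_of_mul_eq_one_right hrI.1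
      have si : σ⁻¹ = σ := S.cfg.sinv
      have si' : s⁻¹ = s := inv_eq_of_mul_eq_one_right hsI.1
      have hrσ : σ * r * σ⁻¹ = r := by
        rw [hr, ← conj_pow, show σ * (σ * s) * σ⁻¹ = (σ * s)⁻¹ by
          rw [_root_.mul_inv_rev, si, si', ← mul_assoc σ σ, S.cfg.ss, one_mul], inv_pow, ← hr, hinv]
      have hrs : s * r * s⁻¹ = r := by
        rw [hr, ← conj_pow, show s * (σ * s) * s⁻¹ = (σ * s)⁻¹ by
          rw [_root_.mul_inv_rev, si, si', mul_assoc, mul_assoc σ s s, hsI.1, mul_one], inv_pow, ← hr, hinv]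
      have hrC : r ∈ C := mem_centralizer_singleton_iff.2 (mul_inv_eq_iff_eq_mul.1 hrσ).symm
      obtain ⟨c, hc, hce⟩ := conjC r hrC hrI
      have hsC : c⁻¹ * s * c ∈ C := mem_centralizer_singleton_iff.2 (by
        have e := mul_inv_eq_iff_eq_mul.1 hrs
        calc c⁻¹ * s * c * σ = c⁻¹ * (s * (c * σ * c⁻¹)) * c := by group
          _ = c⁻¹ * (c * σ * c⁻¹ * s) * c := by rw [hce, e]
          _ = σ * (c⁻¹ * s * c) := by group)
      obtain ⟨c', hc', hce'⟩ := conjC _ hsC (by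
        have := isI_conj c⁻¹ hsI
        rwa [inv_inv] at this)
      refine ⟨c * c', mul_mem hc hc', ?_⟩
      rw [show c * c' * σ * (c * c')⁻¹ = c * (c' * σ * c'⁻¹) * c⁻¹ by group, hce']; group
    · exact odd_dihedral_conj S.cfg.ss hsI.1 (k := k) (by rw [← hk]; exact pow_orderOf_eq_one _) hσ hs
  -- seventeen points
  have h17 : 17 ∣ Nat.card H := by
    classical
    haveI : Finite K := Nat.finite_of_card_ne_zero (by rw [S.card]; norm_num)
    have hle : S.base17 ≤ H := by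
      rw [Setting.base17, closure_le]
      rintro a (rfl | rfl | rfl | rfl | rfl)
      exacts [hu, hσ, hw, h6, h10]
    refine dvd_trans ?_ (card_dvd_of_le hle)
    have horb : MulAction.orbit S.base17 (S.cfg.point θ OnePoint.infty) = Set.range (S.cfg.point θ) := by
      refine Set.Subset.antisymm ?_ ?_
      · rintro _ ⟨g, rfl⟩
        obtain ⟨o, e⟩ := S.keeps_base g.2 OnePoint.infty
        exact ⟨o, e.symm⟩
      · rintro _ ⟨o, rfl⟩
        cases o with
        | infty => exact MulAction.mem_orbit_self _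
        | coe x =>
          have hgen : ∀ {a : G}, a ∈ ({u, σ, w, w * t ^ 6, w * t ^ 10} : Set G) → a ∈ S.base17 :=
            fun ha => subset_closure ha
          have htb : t ∈ S.base17 := by
            have := mul_mem (mul_mem (hgen (a := w) (by simp)) (hgen (a := w * t ^ 6) (by simp)))
              (mul_mem (hgen (a := w) (by simp)) (hgen (a := w * t ^ 10) (by simp)))
            rwa [← mul_assoc w w, ← mul_assoc w w, S.cfg.ww, one_mul, one_mul, ← pow_add,
              show 6 + 10 = 15 + 1 from rfl, pow_add, S.cfg.t15, one_mul, pow_one] at this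
          have hx : θ x ∈ S.base17 := by
            by_cases hx0 : x = 0
            · rw [hx0, S.cfg.theta_zero S.crd]; exact one_mem _
            · obtain ⟨n, rfl⟩ := S.crd.gen x hx0
              rw [S.cfg.theta_pow S.crd]
              exact mul_mem (mul_mem (pow_mem htb n) (hgen (a := u) (by simp))) (inv_mem (pow_mem htb n))
          refine ⟨⟨θ x * w, mul_mem hx (hgen (a := w) (by simp))⟩, ?_⟩
          show ((θ x * w * 1 : G) : G ⧸ S.cfg.borel) = ((θ x * w : G) : G ⧸ S.cfg.borel)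
          rw [mul_one]
    have h1 := (MulAction.stabilizer S.base17 (S.cfg.point θ OnePoint.infty)).card_mul_index
    rw [MulAction.index_stabilizer, horb, ← Nat.card_coe_set_eq,
      Nat.card_range_of_injective (S.cfg.point_injective S.crd)] at h1
    rw [← h1, show Nat.card (OnePoint K) = 17 from by show Nat.card (Option K) = 17; rw [Finite.card_option, S.card]]
    exact dvd_mul_left 17 _
  exact hR.embedded_top hCH hone h17

end Transv

end CfsgLib.Invol.JThreeType
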