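import Cfsg.Agent.Lib.Invol.JThreeType.Sixteen.Lines
import Mathlib.GroupTheory.Sylow

/-!
# The normalizer of a group of order sixteen

Its order is 2880 and an element of order five of it centralises an element of order three of it.
-/

set_option autoImplicit false

namespace CfsgLib.Invol.JThreeType

open Subgroup
open CfsgLib.Invol.JTwo (Frame Out cj mem_cj mem_centralizer_conj card_orbit_mul)

local notation "A" => alternatingGroup (Fin 5)

theorem four_count : ∀ i : Fin 5,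
    (Finset.univ.filter fun k : A => k * k = 1 ∧ k ≠ 1 ∧ JTwo.AltFive.act k i = i).card = 3 := by
  decide +kernel

/-- The normalizer of a sixteen. -/
def sixN {G : Type*} [Group G] (a b : G) : Subgroup G := normalizer (six a b : Set G)

namespace Hyp

variable {G : Type*} [Group G] [Finite G] {z : G} {Q : Subgroup G} (h : Hyp z Q)
include h

/-- At most twenty-four outer involutions lie in `R`. -/
theorem card_out_big (F : Frame z Q) (i : Fin 5) : {y | Out z Q y ∧ y ∈ F.big i}.ncard ≤ 24 := by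
  classical
  haveI := Fintype.ofFinite G
  set S : Finset G := Finset.univ.filter fun y => Out z Q y ∧ y ∈ F.big i with hS
  rw [show {y | Out z Q y ∧ y ∈ F.big i} = (S : Set G) by ext y; simp [hS], Set.ncard_coe_finset]
  let f : G → A := fun y => if hy : y ∈ centralizer ({z} : Set G) then F.π ⟨y, hy⟩ else 1
  have hf : ∀ {y : G} (hy : Out z Q y), f y = F.π ⟨y, hy.1⟩ := fun {y} hy => dif_pos hy.1
  have himg : S.image f ⊆ Finset.univ.filter fun k : A => k * k = 1 ∧ k ≠ 1 ∧ JTwo.AltFive.act k i = i := by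
    intro k hk
    obtain ⟨y, hy, rfl⟩ := Finset.mem_image.1 hk
    obtain ⟨o, hb⟩ := (Finset.mem_filter.1 hy).2
    obtain ⟨hyC, -, hyp⟩ := (h.mem_big F).1 hb
    refine Finset.mem_filter.2 ⟨Finset.mem_univ _, ?_⟩
    rw [hf o]
    exact ⟨(h.pi_invol F o).1, (h.pi_invol F o).2, h.act_of_commute F hyp⟩
  refine (Finset.card_le_mul_card_image (f := f) S 8 fun k hk => ?_).trans ?_
  · obtain ⟨y, hy, rfl⟩ := Finset.mem_image.1 hk
    obtain ⟨o, -⟩ := (Finset.mem_filter.1 hy).2
    rw [← h.card_fiber F o, ← Nat.card_eq_finsetCard]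
    refine Nat.card_le_card_of_injective (fun w => ⟨w.1, ?_⟩) fun u v e => Subtype.ext (Subtype.mk.inj e)
    obtain ⟨hw, e⟩ := Finset.mem_filter.1 w.2
    obtain ⟨o', -⟩ := (Finset.mem_filter.1 hw).2
    exact ⟨o', by rw [← hf o', e, hf o]⟩
  · have := Finset.card_le_card himg
    rw [four_count] at this
    omega

/-- Twelve partners. -/
theorem card_far {b : G} (p : Pair z b) : ((six z b : Set G) \ (Q : Set G)).ncard = 12 := by
  have e : ((six z b : Set G) \ (Q : Set G)) = (six z b : Set G) \ (↑(six z b ⊓ Q) : Set G) := by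
    ext x; simp
  rw [e, Set.ncard_sdiff (SetLike.coe_subset_coe.2 inf_le_left) (Set.toFinite _), ← Nat.card_coe_set_eq,
    ← Nat.card_coe_set_eq]
  show Nat.card (six z b) - Nat.card (six z b ⊓ Q : Subgroup G) = 12
  rw [p.card, h.card_six_inf p]

/-- The group `R` normalises. -/
theorem big_le_norm {b : G} (p : Pair z b) (F : Frame z Q) {i : Fin 5}
    (hi : JTwo.AltFive.act (F.π ⟨b, (h.pair_iff.1 p).1⟩) i = i) : F.big i ≤ sixN z b := by
  intro r hr
  have o := h.pair_iff.1 p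
  have hrz : r * z * r⁻¹ = z := by
    rw [mem_centralizer_singleton_iff.1 ((h.mem_big F).1 hr).1, mul_inv_cancel_right]
  obtain ⟨e, he, he'⟩ := h.big_comm F i hr (h.out_mem_big F o hi)
  have hre : r * b * r⁻¹ = e * b := by rw [he']; group
  have he6 : e ∈ six z b := by
    obtain ⟨heQ, heb⟩ := (h.inf_outer F o hi e).2 he
    exact mem_six.2 ⟨mem_centralizer_singleton_iff.1 (h.le heQ), heb⟩
  refine mem_normalizer_fintype fun y hy => ?_
  have p' : Pair z (e * b) := by
    have := p.conj r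
    rwa [hre, hrz] at this
  have hy' : r * y * r⁻¹ ∈ cj r (six z b) := mem_cj.2 (by simpa [mul_assoc] using hy)
  rwa [← six_conj, hre, hrz, h.six_eq p p' p.mem_left (mul_mem he6 p.mem_right)] at hy'

/-- An element of order three in the stabilizer. -/
theorem exists_three_stab {b : G} (p : Pair z b) :
    ∃ y ∈ sixN z b ⊓ centralizer ({z} : Set G), orderOf y = 3 := by
  have o := h.pair_iff.1 p
  obtain ⟨F, i, hi⟩ := h.exists_fixed o
  haveI : Fact (Nat.Prime 3) := ⟨Nat.prime_three⟩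
  obtain ⟨y₀, hy₀⟩ := exists_prime_orderOf_dvd_card'
    (G := ↥(centralizer ({z} : Set G) ⊓ centralizer ({F.p i} : Set G))) 3
    (by rw [(h.card_point F i).2]; norm_num)
  have hy : orderOf (y₀ : G) = 3 := by rw [orderOf_coe, hy₀]
  have hy3 : (y₀ : G) ^ 3 = 1 := by rw [← hy]; exact pow_orderOf_eq_one _
  set y : G := (y₀ : G) with hy'
  have hyC : y ∈ centralizer ({z} : Set G) := y₀.2.1
  have hyp : y * F.p i = F.p i * y := mem_centralizer_singleton_iff.1 y₀.2.2
  refine ⟨y, ⟨?_, hyC⟩, hy⟩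
  have hyz : y * z * y⁻¹ = z := by rw [mem_centralizer_singleton_iff.1 hyC, mul_inv_cancel_right]
  have hcb : ∀ x ∈ F.big i, y * x * y⁻¹ ∈ F.big i := by
    intro x hx
    obtain ⟨hxC, hx2, hxp⟩ := (h.mem_big F).1 hx
    refine (h.mem_big F).2 ⟨mul_mem (mul_mem hyC hxC) (inv_mem hyC), ?_, ?_⟩
    · rw [show (⟨y * x * y⁻¹, mul_mem (mul_mem hyC hxC) (inv_mem hyC)⟩ : ↥(centralizer ({z} : Set G))) =
        ⟨y, hyC⟩ * ⟨x, hxC⟩ * ⟨y, hyC⟩⁻¹ from rfl, map_mul, map_mul, map_inv,
        show F.π ⟨y, hyC⟩ * F.π ⟨x, hxC⟩ * (F.π ⟨y, hyC⟩)⁻¹ * (F.π ⟨y, hyC⟩ * F.π ⟨x, hxC⟩ * (F.π ⟨y, hyC⟩)⁻¹) =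
          F.π ⟨y, hyC⟩ * (F.π ⟨x, hxC⟩ * F.π ⟨x, hxC⟩) * (F.π ⟨y, hyC⟩)⁻¹ by group, hx2, mul_one,
        mul_inv_cancel]
    · have c : Commute y (F.p i) := hyp
      exact ((c.mul_left (show Commute x (F.p i) from hxp)).mul_left c.inv_left).eq
  set U : Set G := {w | Out z Q w ∧ w ∈ F.big i} with hU
  set S : G → Set G := fun g => (cj g (six z b) : Set G) \ (Q : Set G) with hS
  have hpair : ∀ g, g * z * g⁻¹ = z → g * b * g⁻¹ ∈ F.big i →
      Pair z (g * b * g⁻¹) ∧ S g ⊆ U ∧ (S g).ncard = 12 := by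
    intro g hg hgb
    have q : Pair z (g * b * g⁻¹) := by
      have := p.conj g
      rwa [hg] at this
    have e : cj g (six z b) = six z (g * b * g⁻¹) := by rw [← six_conj, hg]
    refine ⟨q, fun w hw => ?_, by rw [hS]; simp only; rw [e]; exact h.card_far q⟩
    obtain ⟨hw, hwQ⟩ := hw
    rw [e] at hw
    have o' := h.pair_iff.1 q
    have hi' := h.act_of_commute F (c := ⟨g * b * g⁻¹, o'.1⟩) ((h.mem_big F).1 hgb).2.2
    exact ⟨⟨hw.1, hwQ, (h.pair_struct q).2 w hw⟩, h.outer_le_big F o' hi' hw⟩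
  have hdis : ∀ g g', g * z * g⁻¹ = z → g' * z * g'⁻¹ = z → g * b * g⁻¹ ∈ F.big i → g' * b * g'⁻¹ ∈ F.big i →
      cj g (six z b) ≠ cj g' (six z b) → Disjoint (S g) (S g') := by
    intro g g' hg hg' hb hb' hne
    refine Set.disjoint_left.2 fun w hw hw' => hne ?_
    obtain ⟨q, hsub, -⟩ := hpair g hg hb
    obtain ⟨q', -, -⟩ := hpair g' hg' hb'
    have pw : Pair z w := h.pair_iff.2 (hsub hw).1
    have e : ∀ {k : G}, k * z * k⁻¹ = z → cj k (six z b) = six z (k * b * k⁻¹) := fun {k} hk => by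
      rw [← six_conj, hk]
    have m1 := hw.1; have m2 := hw'.1
    rw [e hg] at m1; rw [e hg'] at m2
    rw [e hg, e hg', ← h.six_eq q pw q.mem_left m1, h.six_eq q' pw q'.mem_left m2]
  have hb1 : (1 : G) * b * 1⁻¹ ∈ F.big i := by simpa using h.out_mem_big F o hi
  have hby : y * b * y⁻¹ ∈ F.big i := hcb b (h.out_mem_big F o hi)
  have hbyy : y * y * b * (y * y)⁻¹ ∈ F.big i := by
    rw [show y * y * b * (y * y)⁻¹ = y * (y * b * y⁻¹) * y⁻¹ by group]; exact hcb _ hby
  have hz2 : y * y * z * (y * y)⁻¹ = z := by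
    rw [show y * y * z * (y * y)⁻¹ = y * (y * z * y⁻¹) * y⁻¹ by group, hyz, hyz]
  have hz1 : (1 : G) * z * 1⁻¹ = z := by simp
  have hcj : ∀ g k : G, cj g (cj k (six z b)) = cj (g * k) (six z b) := fun g k => by
    ext x; simp [mem_cj, mul_assoc]
  have hone : cj (1 : G) (six z b) = six z b := by ext x; simp [mem_cj]
  have heq : cj y (six z b) = six z b := by
    by_contra hne
    have hyyy : y * (y * y) = 1 := by rw [← hy3, pow_succ', pow_two]
    have n1 : cj 1 (six z b) ≠ cj y (six z b) := by rw [hone]; exact fun e => hne e.symm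
    have n2 : cj y (six z b) ≠ cj (y * y) (six z b) := fun e => hne (by
      have e' := congrArg (cj y⁻¹) e
      rwa [hcj, hcj, inv_mul_cancel, inv_mul_cancel_left, hone, eq_comm] at e')
    have n3 : cj 1 (six z b) ≠ cj (y * y) (six z b) := fun e => hne (by
      have e' := congrArg (cj y) e
      rwa [hcj, hcj, hyyy, mul_one, hone] at e')
    obtain ⟨-, s1, c1⟩ := hpair 1 hz1 hb1
    obtain ⟨-, s2, c2⟩ := hpair y hyz hby
    obtain ⟨-, s3, c3⟩ := hpair (y * y) hz2 hbyy
    have h24 : U.ncard ≤ 24 := h.card_out_big F i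
    have hle : (S 1 ∪ S y ∪ S (y * y)).ncard ≤ U.ncard :=
      Set.ncard_le_ncard (Set.union_subset (Set.union_subset s1 s2) s3) (Set.toFinite _)
    rw [Set.ncard_union_eq (Set.disjoint_union_left.2
      ⟨hdis _ _ hz1 hz2 hb1 hbyy n3, hdis _ _ hyz hz2 hby hbyy n2⟩),
      Set.ncard_union_eq (hdis _ _ hz1 hyz hb1 hby n1), c1, c2, c3] at hle
    omega
  exact mem_normalizer_fintype fun w hw => by
    rw [SetLike.mem_coe, ← heq, mem_cj]
    simpa [mul_assoc] using hw

theorem six_le_norm {a b : G} (p : Pair a b) : six a b ≤ sixN a b := fun x hx =>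
  mem_normalizer_fintype fun y hy => by
    rw [(h.pair_struct p).1 x hx y hy, mul_inv_cancel_right]; exact hy

omit h in
/-- The normalizer keeps the nontrivial elements. -/
theorem norm_mem {a b n x : G} (hn : n ∈ sixN a b) (hx : x ∈ six a b) : n * x * n⁻¹ ∈ six a b :=
  (mem_normalizer_iff.1 hn x).1 hx

/-- The stabilizer of an involution in the normalizer. -/
theorem card_stab {b : G} (p : Pair z b) :
    Nat.card (sixN z b ⊓ centralizer ({z} : Set G) : Subgroup G) = 192 := by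
  have o := h.pair_iff.1 p
  obtain ⟨F, i, hi⟩ := h.exists_fixed o
  obtain ⟨y, hy, hy3⟩ := h.exists_three_stab p
  set S : Subgroup G := sixN z b ⊓ centralizer ({z} : Set G) with hS
  have e : S ⊓ centralizer ({b} : Set G) = six z b := le_antisymm (fun r hr => ⟨hr.1.2, hr.2⟩)
    fun r hr => ⟨⟨h.six_le_norm p hr, hr.1⟩, hr.2⟩
  have ho := card_orbit_mul S b
  rw [e, p.card] at ho
  have h64 : 64 ∣ Nat.card S := by
    rw [← h.card_big F i]
    exact card_dvd_of_le fun r hr => ⟨h.big_le_norm p F hi hr, ((h.mem_big F).1 hr).1⟩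
  have h3 : 3 ∣ Nat.card S := by
    rw [← hy3]; exact Subgroup.orderOf_dvd_natCard _ hy
  have hle : Nat.card {x : G // ∃ c ∈ S, c * b * c⁻¹ = x} ≤ 12 := by
    rw [← h.card_far p, ← Nat.card_coe_set_eq ((six z b : Set G) \ (Q : Set G))]
    refine Nat.card_le_card_of_injective (fun x => ⟨x.1, ?_⟩) fun u v e => Subtype.ext (Subtype.mk.inj e)
    obtain ⟨x, c, hc, rfl⟩ := x
    refine ⟨norm_mem hc.1 p.mem_right, ?_⟩
    have q := p.conj c
    rw [mem_centralizer_singleton_iff.1 hc.2, mul_inv_cancel_right] at q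
    exact (h.pair_iff.1 q).2.1
  have hpos : 0 < Nat.card S := Nat.card_pos
  have h192 : 192 ∣ Nat.card S := by
    have := Nat.Coprime.mul_dvd_of_dvd_of_dvd (by norm_num : Nat.Coprime 64 3) h64 h3
    norm_num at this
    exact this
  have := Nat.le_of_dvd hpos h192
  rw [← ho] at this ⊢
  omega

/-- The stabilizers all have order 192, and the normalizer 2880. -/
theorem card_sixN {b : G} (p : Pair z b) :
    Nat.card (sixN z b) = 2880 ∧
      ∀ a ∈ six z b, a ≠ 1 → Nat.card (sixN z b ⊓ centralizer ({a} : Set G) : Subgroup G) = 192 := by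
  have key : ∀ a ∈ six z b, a ≠ 1 →
      15 * Nat.card (sixN z b ⊓ centralizer ({a} : Set G) : Subgroup G) = Nat.card (sixN z b) := by
    intro a ha ha1
    rw [← card_orbit_mul (sixN z b) a]
    congr 1
    symm
    have e : {x : G | ∃ c ∈ sixN z b, c * a * c⁻¹ = x} = (six z b : Set G) \ {1} := by
      ext x
      constructor
      · rintro ⟨c, hc, rfl⟩
        exact ⟨norm_mem hc ha, fun e => ha1 (conj_eq_one_iff.1 e)⟩
      · rintro ⟨hx, hx1⟩
        exact h.six_transitive p ha ha1 hx hx1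
    show Nat.card ↥{x : G | ∃ c ∈ sixN z b, c * a * c⁻¹ = x} = 15
    rw [Nat.card_coe_set_eq, e, Set.ncard_sdiff_singleton_of_mem (one_mem (six z b)), ← Nat.card_coe_set_eq]
    show Nat.card (six z b) - 1 = 15
    rw [p.card]
  have hN := key z p.mem_left h.z_ne
  rw [h.card_stab p] at hN
  exact ⟨hN.symm, fun a ha ha1 => by have := key a ha ha1; omega⟩

/-- An element of order five fixes no involution. -/
theorem five_free {b f a : G} (p : Pair z b) (hf : f ∈ sixN z b) (hfo : orderOf f = 5) (ha : a ∈ six z b)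
    (hfa : f * a = a * f) : a = 1 := by
  by_contra ha1
  have h5 : orderOf f ∣ Nat.card (sixN z b ⊓ centralizer ({a} : Set G) : Subgroup G) :=
    Subgroup.orderOf_dvd_natCard _ ⟨hf, mem_centralizer_singleton_iff.2 hfa⟩
  rw [hfo, (h.card_sixN p).2 a ha ha1] at h5
  norm_num at h5

/-- Four pairwise paired involutions. -/
theorem exists_four {b : G} (p : Pair z b) : ∃ a : Fin 4 → G,
    (∀ k, a k ∈ six z b ∧ a k ≠ 1) ∧ ∀ k l, k ≠ l → Pair (a k) (a l) := by
  have o := h.pair_iff.1 p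
  have hzb : z * b ∈ six z b := mul_mem p.mem_left p.mem_right
  obtain ⟨R, hR⟩ := h.at_invol p.right
  have oR := hR.pair_iff.1 p.symm
  have hzbI : IsI (z * b) := ⟨(h.pair_struct p).2 _ hzb, fun e => o.2.1 (by
    rw [← inv_eq_of_mul_eq_one_right e, inv_eq_of_mul_eq_one_right h.zz]; exact h.zmem)⟩
  have p2 : Pair z (z * b) := h.pair_iff.2 ⟨mem_centralizer_singleton_iff.2 (mem_six.1 hzb).1,
    fun e => o.2.1 (by simpa using mul_mem (inv_mem h.zmem) e), hzbI.1⟩
  have p3 : Pair b (z * b) := hR.pair_iff.2 ⟨mem_centralizer_singleton_iff.2 (mem_six.1 hzb).2,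
    fun e => oR.2.1 (by simpa using mul_mem e (inv_mem hR.zmem)), hzbI.1⟩
  obtain ⟨R', hR'⟩ := h.at_invol hzbI
  obtain ⟨w, hw, hw1, hw2, hw3⟩ : ∃ w ∈ six z b, w ∉ Q ∧ w ∉ R ∧ w ∉ R' := by
    by_contra hno
    push Not at hno
    have hsub : (six z b : Set G) ⊆ ↑(six z b ⊓ Q) ∪ ↑(six z b ⊓ R) ∪ ↑(six z b ⊓ R') := fun w hw => by
      by_cases h1 : w ∈ Q
      · exact Or.inl (Or.inl ⟨hw, h1⟩)
      by_cases h2 : w ∈ R
      · exact Or.inl (Or.inr ⟨hw, h2⟩)
      exact Or.inr ⟨hw, hno w hw h1 h2⟩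
    have hle := (Set.ncard_le_ncard hsub (Set.toFinite _)).trans
      ((Set.ncard_union_le _ _).trans (Nat.add_le_add_right (Set.ncard_union_le _ _) _))
    have c1 := h.card_six_inf p
    have c2 := hR.card_six_inf p.symm
    have c3 := hR'.card_six_inf p2.symm
    rw [six_comm b z] at c2
    rw [six_comm (z * b) z, h.six_eq p p2 p.mem_left hzb] at c3
    rw [← Nat.card_coe_set_eq, ← Nat.card_coe_set_eq, ← Nat.card_coe_set_eq, ← Nat.card_coe_set_eq,
      SetLike.coe_sort_coe, SetLike.coe_sort_coe, SetLike.coe_sort_coe, SetLike.coe_sort_coe,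
      p.card, c1, c2, c3] at hle
    omega
  have hw2' := (h.pair_struct p).2 w hw
  have hcw : ∀ {s : G}, s ∈ six z b → w ∈ centralizer ({s} : Set G) := fun {s} hs =>
    mem_centralizer_singleton_iff.2 ((h.pair_struct p).1 w hw s hs)
  have q1 : Pair z w := h.pair_iff.2 ⟨hcw p.mem_left, hw1, hw2'⟩
  have q2 : Pair b w := hR.pair_iff.2 ⟨hcw p.mem_right, hw2, hw2'⟩
  have q3 : Pair (z * b) w := hR'.pair_iff.2 ⟨hcw hzb, hw3, hw2'⟩
  refine ⟨![z, b, z * b, w], fun k => ?_, fun k l hkl => ?_⟩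
  · fin_cases k
    exacts [⟨p.mem_left, h.z_ne⟩, ⟨p.mem_right, p.right.2⟩, ⟨hzb, hzbI.2⟩, ⟨hw, q1.right.2⟩]
  · fin_cases k <;> fin_cases l <;> first
      | exact absurd rfl hkl
      | exact p | exact p.symm | exact p2 | exact p2.symm | exact p3 | exact p3.symm
      | exact q1 | exact q1.symm | exact q2 | exact q2.symm | exact q3 | exact q3.symm

/-- Seven hundred and twenty elements of the stabilizers. -/
theorem card_stab_union {b : G} (p : Pair z b) : ∃ U : Set G, U ⊆ (sixN z b : Set G) ∧ U.ncard = 720 ∧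
    ∀ x ∈ U, orderOf x ≠ 5 := by
  obtain ⟨a, ha, hpair⟩ := h.exists_four p
  set S : Fin 4 → Set G := fun k => (↑(sixN z b ⊓ centralizer ({a k} : Set G)) : Set G) with hS
  set D : Fin 4 → Set G := fun k => S k \ (six z b : Set G) with hD
  have hA : ∀ k, (six z b : Set G) ⊆ S k := fun k x hx =>
    ⟨h.six_le_norm p hx, mem_centralizer_singleton_iff.2 ((h.pair_struct p).1 x hx _ (ha k).1)⟩
  have hDc : ∀ k, (D k).ncard = 176 := fun k => by
    rw [hD]; simp only
    rw [Set.ncard_sdiff (hA k) (Set.toFinite _), ← Nat.card_coe_set_eq, ← Nat.card_coe_set_eq]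
    show Nat.card (sixN z b ⊓ centralizer ({a k} : Set G) : Subgroup G) - Nat.card (six z b) = 176
    rw [(h.card_sixN p).2 _ (ha k).1 (ha k).2, p.card]
  have hdd : ∀ k l, k ≠ l → Disjoint (D k) (D l) := fun k l hkl => Set.disjoint_left.2 fun x hx hx' => hx.2 (by
    rw [SetLike.mem_coe, ← h.six_eq p (hpair k l hkl) (ha k).1 (ha l).1]
    exact ⟨hx.1.2, hx'.1.2⟩)
  have hdA : ∀ k, Disjoint (six z b : Set G) (D k) := fun k => Set.disjoint_left.2 fun x hx hx' => hx'.2 hx
  refine ⟨(six z b : Set G) ∪ D 0 ∪ D 1 ∪ D 2 ∪ D 3, ?_, ?_, fun x hx hxo => ?_⟩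
  · intro x hx
    rcases hx with (((hx | hx) | hx) | hx) | hx
    · exact h.six_le_norm p hx
    all_goals exact hx.1.1
  · rw [Set.ncard_union_eq (by
        simp only [Set.disjoint_union_left]
        exact ⟨⟨⟨hdA 3, hdd 0 3 (by decide)⟩, hdd 1 3 (by decide)⟩, hdd 2 3 (by decide)⟩),
      Set.ncard_union_eq (by
        simp only [Set.disjoint_union_left]
        exact ⟨⟨hdA 2, hdd 0 2 (by decide)⟩, hdd 1 2 (by decide)⟩),
      Set.ncard_union_eq (by
        simp only [Set.disjoint_union_left]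
        exact ⟨hdA 1, hdd 0 1 (by decide)⟩),
      Set.ncard_union_eq (hdA 0), hDc, hDc, hDc, hDc, ← Nat.card_coe_set_eq]
    show Nat.card (six z b) + 176 + 176 + 176 + 176 = 720
    rw [p.card]
  · have hxS : ∃ k, x ∈ S k := by
      rcases hx with (((hx | hx) | hx) | hx) | hx
      exacts [⟨0, hA 0 hx⟩, ⟨0, hx.1⟩, ⟨1, hx.1⟩, ⟨2, hx.1⟩, ⟨3, hx.1⟩]
    obtain ⟨k, hk⟩ := hxS
    exact (ha k).2 (h.five_free p hk.1 hxo (ha k).1 (mem_centralizer_singleton_iff.1 hk.2))

end Hyp

end CfsgLib.Invol.JThreeType
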