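import Cfsg.Agent.Lib.Invol.JThreeType.Sixteen.Cosets
import Mathlib.Algebra.CharP.Two

/-!
# Normalised coordinates

The generator can be chosen with field root of `x ^ 4 + x + 1`; the field then is the bit vectors of
length four.
-/

set_option autoImplicit false

namespace CfsgLib.Invol.JThreeType

open Subgroup

theorem root_cases {K : Type} [Field K] [CharP K 2] {ζ : K} (h15 : ζ ^ 15 = 1)
    (hne : ∀ i : ℕ, 0 < i → i < 15 → ζ ^ i ≠ 1) : ζ ^ 4 + ζ + 1 = 0 ∨ ζ ^ 4 + ζ ^ 3 + 1 = 0 := by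
  have two : (2 : K) = 0 := CharTwo.two_eq_zero
  have e : (ζ ^ 4 + ζ + 1) * (ζ ^ 4 + ζ ^ 3 + 1) * (ζ ^ 4 + ζ ^ 3 + ζ ^ 2 + ζ + 1) * (ζ ^ 2 + ζ + 1) *
      (ζ + 1) = 0 := by
    linear_combination h15 + (1 + 2 * ζ + 4 * ζ ^ 2 + 6 * ζ ^ 3 + 9 * ζ ^ 4 + 13 * ζ ^ 5 + 16 * ζ ^ 6 +
      17 * ζ ^ 7 + 17 * ζ ^ 8 + 16 * ζ ^ 9 + 13 * ζ ^ 10 + 9 * ζ ^ 11 + 6 * ζ ^ 12 + 4 * ζ ^ 13 +
      2 * ζ ^ 14) * two
  rcases mul_eq_zero.1 e with e | e
  · rcases mul_eq_zero.1 e with e | e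
    · rcases mul_eq_zero.1 e with e | e
      · exact mul_eq_zero.1 e
      · exact absurd (show ζ ^ 5 = 1 by linear_combination (ζ - 1) * e) (hne 5 (by norm_num) (by norm_num))
    · exact absurd (show ζ ^ 3 = 1 by linear_combination (ζ - 1) * e) (hne 3 (by norm_num) (by norm_num))
  · exact absurd (show ζ ^ 1 = 1 by linear_combination e - two) (hne 1 (by norm_num) (by norm_num))

section

variable {G : Type*} [Group G] {T : Subgroup G} {t σ w u : G}

theorem SLConfig.inv_gen (c : SLConfig T t σ w u) : SLConfig T t⁻¹ σ w u := by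
  have hti : t⁻¹ = t ^ 14 := inv_eq_of_mul_eq_one_right (by rw [← pow_succ', c.t15])
  refine ⟨c.comm, c.sq, c.card, by rw [orderOf_inv, c.tord], fun a ha => ?_, c.uT, fun a ha ha1 => ?_,
    c.ss, ?_, c.su, c.ww, ?_, c.ws, c.rel⟩
  · rw [hti]; exact c.tpow_mem 14 ha
  · obtain ⟨i, hi⟩ := c.trans a ha ha1
    exact ⟨14 * i, by rw [hti, ← pow_mul, show 14 * (14 * i) = 15 * (13 * i) + i by ring, pow_add, pow_mul,
      c.t15, one_pow, one_mul]; exact hi⟩
  · rw [show σ * t⁻¹ * σ = (σ⁻¹ * t * σ⁻¹)⁻¹ by group, c.sinv, c.st, inv_pow]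
  · rw [show w * t⁻¹ * w = (w⁻¹ * t * w⁻¹)⁻¹ by group, c.winv, c.wtw]

theorem Coord.inv_gen {K : Type} [Field K] {ζ : K} {θ : K → G} (c : SLConfig T t σ w u)
    (d : Coord T t σ u K ζ θ) : Coord T t⁻¹ σ u K (ζ ^ 14) θ := by
  refine ⟨d.mem, d.add, d.inj, d.surj, d.one, fun x => ?_, fun x hx => ?_, d.frob, fun i h0 hi e => ?_, ?_⟩
  · have e := d.tmul (ζ ^ 14 * x)
    rw [← mul_assoc, ← pow_succ', d.zord, one_mul] at e
    rw [← e]; group
  · obtain ⟨i, rfl⟩ := d.gen x hx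
    exact ⟨14 * i, by rw [← pow_mul, show 14 * (14 * i) = 15 * (13 * i) + i by ring, pow_add, pow_mul,
      d.zord, one_pow, one_mul]⟩
  · rw [← pow_mul] at e
    refine d.zpow_ne (15 - i) (by omega) (by omega) ?_
    rw [show 14 * i = 15 * (i - 1) + (15 - i) by omega, pow_add, pow_mul, d.zord, one_pow, one_mul] at e
    exact e
  · rw [← pow_mul, mul_comm, pow_mul, d.zord, one_pow]

/-- Coordinates with the root of `x ^ 4 + x + 1`. -/
structure NCoord (T : Subgroup G) (t σ w u : G) (K : Type) [Field K] (ζ : K) (θ : K → G) : Prop where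
  cfg : SLConfig T t σ w u
  crd : Coord T t σ u K ζ θ
  root : ζ ^ 4 + ζ + 1 = 0
  two : (2 : K) = 0
  card : Nat.card K = 16

theorem SLConfig.exists_normal (c : SLConfig T t σ w u) :
    ∃ (t' : G) (K : Type) (_ : Field K) (ζ : K) (θ : K → G), NCoord T t' σ w u K ζ θ := by
  obtain ⟨K, i1, i2, ζ, θ, hK, hchar, d⟩ := c.exists_coord
  have two : (2 : K) = 0 := CharTwo.two_eq_zero
  have hK' : Nat.card K = 16 := by rw [Nat.card_eq_fintype_card, hK]
  rcases root_cases d.zord d.zpow_ne with e | e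
  · exact ⟨t, K, i1, ζ, θ, c, d, e, two, hK'⟩
  · refine ⟨t⁻¹, K, i1, ζ ^ 14, θ, c.inv_gen, d.inv_gen c, ?_, two, hK'⟩
    have h : ζ * ζ ^ 14 = 1 := by rw [← pow_succ', d.zord]
    generalize ζ ^ 14 = ξ at h
    linear_combination ξ ^ 4 * e - (((ξ * ζ) + 1) * ((ξ * ζ) ^ 2 + 1) + ξ * ((ξ * ζ) ^ 2 + ξ * ζ + 1)) * h

end

/-- Bit vectors. -/
abbrev B4 := Bool × Bool × Bool × Bool

namespace B4

/-- Addition. -/
def add (a b : B4) : B4 := (a.1 ^^ b.1, a.2.1 ^^ b.2.1, a.2.2.1 ^^ b.2.2.1, a.2.2.2 ^^ b.2.2.2)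

/-- Multiplication by the root. -/
def mz : B4 → B4
  | (a, b, c, e) => (e, a ^^ e, b, c)

/-- The fourth power. -/
def frob : B4 → B4
  | (a, b, c, e) => (a ^^ b ^^ c ^^ e, b ^^ e, c ^^ e, e)

/-- A power of the root. -/
def pw : ℕ → B4
  | 0 => (true, false, false, false)
  | n + 1 => mz (pw n)

/-- The transvection. -/
def tv (x : B4) : B4 := add x (mz (mz (mz (mz (mz (add x (frob x)))))))

end B4

section field

variable {K : Type} [Field K]

/-- A bit. -/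
def bit (a : Bool) : K := bif a then 1 else 0

/-- The value of a bit vector. -/
def val (ζ : K) : B4 → K
  | (a, b, c, e) => bit a + bit b * ζ + bit c * ζ ^ 2 + bit e * ζ ^ 3

variable {ζ : K} (root : ζ ^ 4 + ζ + 1 = 0) (two : (2 : K) = 0)
include two

theorem bit_xor (a b : Bool) : (bit (a ^^ b) : K) = bit a + bit b := by
  cases a <;> cases b <;> simp [bit]
  linear_combination -two

theorem val_add (x y : B4) : val ζ (B4.add x y) = val ζ x + val ζ y := by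
  obtain ⟨a, b, c, e⟩ := x
  obtain ⟨a', b', c', e'⟩ := y
  simp only [B4.add, val, bit_xor two]
  ring

include root

theorem val_mz (x : B4) : val ζ (B4.mz x) = ζ * val ζ x := by
  obtain ⟨a, b, c, e⟩ := x
  simp only [B4.mz, val, bit_xor two]
  linear_combination -(bit e : K) * root + (bit e + bit e * ζ : K) * two

theorem val_pw (n : ℕ) : val ζ (B4.pw n) = ζ ^ n := by
  induction n with
  | zero => simp [B4.pw, val, bit]
  | succ n ih => rw [B4.pw, val_mz root two, ih, pow_succ']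

theorem val_frob (x : B4) : val ζ (B4.frob x) = val ζ x ^ 4 := by
  obtain ⟨a, b, c, e⟩ := x
  have sq : ∀ p q : K, (p + q) ^ 4 = p ^ 4 + q ^ 4 := fun p q => by
    linear_combination (2 * p ^ 3 * q + 3 * p ^ 2 * q ^ 2 + 2 * p * q ^ 3) * two
  have hb : ∀ a : Bool, (bit a : K) ^ 4 = bit a := fun a => by cases a <;> simp [bit]
  have e4 : ζ ^ 4 = ζ + 1 := by linear_combination root - (ζ + 1) * two
  have e8 : (ζ ^ 2) ^ 4 = ζ ^ 2 + 1 := by
    rw [← pow_mul, show 2 * 4 = 4 * 2 from rfl, pow_mul, e4]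
    linear_combination ζ * two
  have e12 : (ζ ^ 3) ^ 4 = ζ ^ 3 + ζ ^ 2 + ζ + 1 := by
    rw [← pow_mul, show 3 * 4 = 4 * 3 from rfl, pow_mul, e4]
    linear_combination (ζ ^ 2 + ζ) * two
  simp only [B4.frob, val, bit_xor two, sq, mul_pow, hb, e4, e8, e12]
  ring

end field

end CfsgLib.Invol.JThreeType
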