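import Cfsg.Agent.Lib.Invol.JThreeType.Main

/-!
# Element orders in the centralizer of an element of order three

Modulo that element every element has order dividing three, four or five.
-/

set_option autoImplicit false

namespace CfsgLib.Invol.JThreeType

open Subgroup
open CfsgLib.Invol.JTwo (cyc mem_cyc)

namespace EightType

variable {H : Type*} [Group H] [Finite H] {z : H} (h : EightType z)
include h

theorem pow_cases (h360 : Nat.card H = 360) (g : H) : g ^ 3 = 1 ∨ g ^ 4 = 1 ∨ g ^ 5 = 1 := by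
  classical
  rcases h.cases with ⟨e, -⟩ | ⟨-, h32, h16, hall⟩
  · omega
  rcases Nat.even_or_odd (orderOf g) with he | ho
  · -- the even case
    obtain ⟨w, hw, hwI⟩ : ∃ w, w ∈ zpowers g ∧ orderOf w = 2 :=
      ⟨_, npow_mem_zpowers g (orderOf g / 2), isI_iff.1 (exists_invol_half he)⟩
    have hgC : g ∈ centralizer ({w} : Set H) := by
      obtain ⟨k, rfl⟩ := mem_zpowers_iff.1 hw
      exact mem_centralizer_singleton_iff.2 (Commute.self_zpow g k).eq
    have hd : orderOf g ∣ 2 ^ 3 := by
      have := orderOf_dvd_natCard (centralizer ({w} : Set H)) hgC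
      rwa [h.two_group hwI] at this
    obtain ⟨j, hj, hjo⟩ := (Nat.dvd_prime_pow Nat.prime_two).1 hd
    right; left
    rcases Nat.lt_or_ge j 3 with hl | hl
    · exact orderOf_dvd_iff_pow_eq_one.1 (hjo ▸ show 2 ^ j ∣ 2 ^ 2 from pow_dvd_pow 2 (by omega))
    exfalso
    obtain ⟨c, hc⟩ := isConj_iff.1 (h.one w hwI)
    have hz : c * z * c⁻¹ = w := hc
    set g' := c⁻¹ * g * c
    have hg'o : orderOf g' = 8 := by
      rw [show g' = MulAut.conj c⁻¹ g by simp [g'], MulEquiv.orderOf_eq, hjo, show j = 3 by omega]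
      norm_num
    have hg'C : g' ∈ centralizer ({z} : Set H) := mem_centralizer_singleton_iff.2 (by
      have e := mem_centralizer_singleton_iff.1 hgC
      calc c⁻¹ * g * c * z = c⁻¹ * (g * (c * z * c⁻¹)) * c := by group
        _ = c⁻¹ * (c * z * c⁻¹ * g) * c := by rw [hz, e]
        _ = z * (c⁻¹ * g * c) := by group)
    have heq : zpowers g' = centralizer ({z} : Set H) :=
      eq_of_le_of_card_ge (zpowers_le.2 hg'C) (by rw [Nat.card_zpowers, hg'o, h.card])
    have h1 : Nat.card {d : H // d ∈ centralizer ({z} : Set H) ∧ orderOf d = 2} ≤ 1 :=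
      Finite.card_le_one_iff_subsingleton.2 ⟨fun a b => Subtype.ext
        ((zpowers_invol (heq.ge a.2.1) (isI_iff.2 a.2.2)).2.trans
          (zpowers_invol (heq.ge b.2.1) (isI_iff.2 b.2.2)).2.symm)⟩
    rw [h.five] at h1
    norm_num at h1
  · have hd : orderOf g ∣ 45 := ((Nat.coprime_two_right.2 ho).pow_right 3).dvd_of_dvd_mul_left
      (show orderOf g ∣ 2 ^ 3 * 45 by have := _root_.orderOf_dvd_natCard g; rwa [h360] at this)
    have hle : ∀ {a : H}, a ^ 5 = 1 → a ^ 3 = 1 → a = 1 := fun h5 h3 => orderOf_eq_one_iff.1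
      (Nat.eq_one_of_dvd_coprimes (by norm_num : Nat.Coprime 5 3) (orderOf_dvd_of_pow_eq_one h5)
        (orderOf_dvd_of_pow_eq_one h3))
    by_cases h5 : 5 ∣ orderOf g
    · -- order five
      haveI : Fact (Nat.Prime 5) := ⟨Nat.prime_five⟩
      obtain ⟨⟨x, hx, hx5⟩⟩ : Nonempty {x : H // IsOddInv z x ∧ x ^ 5 = 1} :=
        (Nat.card_pos_iff.1 (by rw [h16]; norm_num)).1
      have hxc : Nat.card (centralizer ({x} : Set H)) = 5 := by
        rcases hall x hx with ⟨-, e, -⟩ | ⟨e, -⟩
        · exact e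
        · exact absurd (hle hx5 e) hx.1
      have hxo : orderOf x = 5 := orderOf_eq_prime hx5 hx.1
      have hg5 : orderOf (g ^ (orderOf g / 5)) = 5 :=
        orderOf_pow_orderOf_div (orderOf_pos g).ne' h5
      obtain ⟨c, -, hc⟩ := exists_conj_zpowers (K := (⊤ : Subgroup H)) (p := 5)
        (by rw [card_top, h360]; norm_num) (mem_top (g ^ (orderOf g / 5))) hg5 (mem_top x) hxo
      set v := c * g ^ (orderOf g / 5) * c⁻¹
      have hvo : orderOf v = 5 := by
        show orderOf (c * g ^ (orderOf g / 5) * c⁻¹) = 5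
        rw [← MulAut.conj_apply, MulEquiv.orderOf_eq, hg5]
      have hxv : x ∈ zpowers v := by
        rw [eq_of_le_of_card_ge (zpowers_le.2 hc) (by rw [Nat.card_zpowers, Nat.card_zpowers, hxo, hvo])]
        exact mem_zpowers x
      have hcomm : Commute (c * g * c⁻¹) x := by
        obtain ⟨k, rfl⟩ := mem_zpowers_iff.1 hxv
        refine Commute.zpow_right ?_ k
        show c * g * c⁻¹ * (c * g ^ (orderOf g / 5) * c⁻¹) = c * g ^ (orderOf g / 5) * c⁻¹ * (c * g * c⁻¹)
        calc c * g * c⁻¹ * (c * g ^ (orderOf g / 5) * c⁻¹) = c * (g * g ^ (orderOf g / 5)) * c⁻¹ := by group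
          _ = c * (g ^ (orderOf g / 5) * g) * c⁻¹ := by rw [(Commute.self_pow g _).eq]
          _ = _ := by group
      have hd5 := orderOf_dvd_natCard (centralizer ({x} : Set H)) (mem_centralizer_singleton_iff.2 hcomm.eq)
      rw [hxc, ← MulAut.conj_apply, MulEquiv.orderOf_eq] at hd5
      exact Or.inr (Or.inr (orderOf_dvd_iff_pow_eq_one.1 hd5))
    · -- order three
      left
      haveI : Fact (Nat.Prime 3) := ⟨Nat.prime_three⟩
      have h9 : orderOf g ∣ 9 :=
        ((Nat.Prime.coprime_iff_not_dvd Nat.prime_five).2 h5).symm.dvd_of_dvd_mul_left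
          (show orderOf g ∣ 5 * 9 from hd)
      obtain ⟨x, hx, hx5⟩ : ∃ x, IsOddInv z x ∧ x ^ 5 ≠ 1 := by
        by_contra hno
        push Not at hno
        have := Nat.card_congr (Equiv.subtypeEquivRight (p := IsOddInv z) (q := fun x => IsOddInv z x ∧ x ^ 5 = 1)
          fun x => ⟨fun hx => ⟨hx, hno x hx⟩, fun hx => hx.1⟩)
        rw [h32, h16] at this
        norm_num at this
      obtain ⟨-, hxc⟩ := (hall x hx).resolve_left fun e => hx5 e.1
      have hcube : ∀ a ∈ centralizer ({x} : Set H), a ^ 3 = 1 := by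
        intro a ha
        by_cases ha1 : a = 1
        · rw [ha1, one_pow]
        rcases hall a (h.free_sys.closed x a hx (mem_centralizer_singleton_iff.1 ha) ha1) with ⟨e, -⟩ | ⟨e, -⟩
        · exfalso
          have hd9 := orderOf_dvd_natCard _ ha
          rw [hxc] at hd9
          exact ha1 (orderOf_eq_one_iff.1 (Nat.eq_one_of_dvd_coprimes (by norm_num : Nat.Coprime 5 9)
            (orderOf_dvd_of_pow_eq_one e) hd9))
        · exact e
      obtain ⟨P, hP⟩ := (IsPGroup.of_card (p := 3) (n := 2) (G := centralizer ({x} : Set H))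
        (by rw [hxc]; norm_num)).exists_le_sylow
      obtain ⟨j, hj⟩ := IsPGroup.iff_card.1 P.isPGroup'
      have hPd := card_subgroup_dvd_card (P : Subgroup H)
      have hPe : (P : Subgroup H) = centralizer ({x} : Set H) := by
        refine (eq_of_le_of_card_ge hP ?_).symm
        rw [hj, h360] at hPd
        rw [hj, hxc]
        have : j ≤ 2 := by
          by_contra hj2
          exact absurd ((pow_dvd_pow 3 (show 3 ≤ j by omega)).trans hPd) (by norm_num)
        exact (Nat.pow_le_pow_right (by norm_num) this).trans (by norm_num)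
      have hgP : IsPGroup 3 (zpowers g) := by
        obtain ⟨i, -, hi⟩ := (Nat.dvd_prime_pow Nat.prime_three (m := 2)).1 h9
        exact IsPGroup.of_card (n := i) (by rw [Nat.card_zpowers, hi])
      obtain ⟨Pg, hPg⟩ := hgP.exists_le_sylow
      obtain ⟨c, hc⟩ := MulAction.exists_smul_eq H Pg P
      have hm : c * g * c⁻¹ ∈ (P : Subgroup H) := by
        rw [← hc, Sylow.coe_subgroup_smul]
        exact ⟨g, hPg (mem_zpowers g), rfl⟩
      rw [hPe] at hm
      have := hcube _ hm
      rwa [conj_pow, conj_eq_one_iff] at this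

end EightType

/-- The powers in the centralizer of an element of order three. -/
theorem Hyp.pow_in_X {G : Type*} [Group G] [Finite G] {z : G} {Q : Subgroup G} (h : Hyp z Q) {y : G}
    (hyC : y ∈ centralizer ({z} : Set G)) (hy : orderOf y = 3) {a : G} (ha : a * y = y * a) :
    a ^ 3 ∈ zpowers y ∨ a ^ 4 ∈ zpowers y ∨ a ^ 5 ∈ zpowers y := by
  have e := h.card_X hyC hy
  rw [h.big.big y hyC hy] at e
  let g : ↥(centralizer ({y} : Set G)) := ⟨a, mem_centralizer_singleton_iff.2 ha⟩
  have key : ∀ n : ℕ, QuotientGroup.mk' (cyc y) g ^ n = 1 → a ^ n ∈ zpowers y := fun n hn => by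
    rw [← map_pow] at hn
    exact mem_cyc.1 ((QuotientGroup.eq_one_iff (g ^ n)).1 hn)
  have h360 : Nat.card (XQ y) = 360 := by omega
  rcases (h.eight hyC hy).pow_cases h360 (QuotientGroup.mk' (cyc y) g) with e | e | e
  exacts [Or.inl (key 3 e), Or.inr (Or.inl (key 4 e)), Or.inr (Or.inr (key 5 e))]

end CfsgLib.Invol.JThreeType
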