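import Cfsg.Agent.Lib.Invol.JThreeType.Sixteen.Normal
import Cfsg.Agent.Lib.Invol.JThreeType.Sixteen.Config

/-!
# The group of order sixteen with its coordinates

The four elements of the group which lie in the extraspecial group at the base point form the subfield of
order four.
-/

set_option autoImplicit false

namespace CfsgLib.Invol.JThreeType

open Subgroup
open CfsgLib.Invol.JTwo (Frame Out cj mem_cj mem_centralizer_conj)

variable {G : Type*} [Group G]

/-- The extraspecial group of an involution is unique. -/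
theorem Hyp.unique [Finite G] {z : G} {R R' : Subgroup G} (h : Hyp z R) (h' : Hyp z R') : R' = R := by
  obtain ⟨F⟩ := h.exists_frame
  set N := (R'.subgroupOf (centralizer ({z} : Set G))).map F.π
  haveI hn : (R'.subgroupOf (centralizer ({z} : Set G))).Normal :=
    ⟨fun a ha c => h'.nrm c c.2 a ha⟩
  haveI : N.Normal := hn.map F.π F.surj
  have hc : Nat.card N ≤ 32 := by
    calc Nat.card N ≤ Nat.card (R'.subgroupOf (centralizer ({z} : Set G))) :=
          Nat.card_le_card_of_surjective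
            (fun a : R'.subgroupOf (centralizer ({z} : Set G)) => (⟨F.π a, mem_map_of_mem _ a.2⟩ : N))
            (by rintro ⟨_, a, ha, rfl⟩; exact ⟨⟨a, ha⟩, rfl⟩)
      _ = Nat.card R' := Nat.card_congr (subgroupOfEquivOfLe h'.le).toEquiv
      _ = 32 := h'.card
  have hbot : N = ⊥ := ((inferInstance : N.Normal).eq_bot_or_eq_top).resolve_right fun e => by
    rw [e, card_top, JTwo.AltFive.card_A] at hc
    norm_num at hc
  refine eq_of_le_of_card_ge (fun a ha => ?_) (by rw [h.card, h'.card])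
  have hm : F.π ⟨a, h'.le ha⟩ ∈ N := mem_map_of_mem _ ha
  rw [hbot, mem_bot] at hm
  exact (F.ker _).1 hm

/-- A group of order sixteen in a group of third Janko type, with its coordinates. -/
structure Setting (T : Subgroup G) (t σ w u : G) (K : Type) [Field K] (ζ : K) (θ : K → G) : Prop
    extends NCoord T t σ w u K ζ θ where
  hyp : ∀ x : G, IsI x → ∃ R : Subgroup G, Hyp x R
  pair : ∃ a b, Pair a b ∧ T = six a b

theorem Hyp.exists_setting [Finite G] {z : G} {Q : Subgroup G} (h : Hyp z Q) :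
    ∃ (T : Subgroup G) (t σ w u : G) (K : Type) (_ : Field K) (ζ : K) (θ : K → G),
      Setting T t σ w u K ζ θ := by
  obtain ⟨x, hx⟩ := h.exists_out
  have p := h.pair_iff.2 hx
  obtain ⟨f, y, σ, u, d⟩ := h.exists_sixData p
  obtain ⟨w, u', c⟩ := d.exists_config h
  obtain ⟨t', K, hK, ζ, θ, n⟩ := c.exists_normal
  exact ⟨_, t', σ, w, u', K, hK, ζ, θ, n, fun a ha => h.at_invol ha, z, x, p, rfl⟩

namespace Setting

variable [Finite G] {T : Subgroup G} {t σ w u : G} {K : Type} [Field K] {ζ : K} {θ : K → G}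
  (S : Setting T t σ w u K ζ θ)
include S

theorem exists_hyp_u : ∃ R : Subgroup G, Hyp u R := S.hyp u ⟨S.cfg.sq u S.cfg.uT, S.cfg.u_ne⟩

theorem six_self {a : G} (hc : ∀ b ∈ T, a * b = b * a) : a ∈ T := by
  obtain ⟨p, q, hp, rfl⟩ := S.pair
  exact mem_six.2 ⟨hc p hp.mem_left, hc q hp.mem_right⟩

theorem partner {a : G} (ha : a ∈ T) (ha1 : a ≠ 1) : ∃ b ∈ T, Pair a b ∧ T = six a b := by
  obtain ⟨p, q, hp, hT⟩ := S.pair
  subst hT
  obtain ⟨R, hR⟩ := S.hyp p hp.left
  obtain ⟨b, hb, e⟩ := hR.exists_partner hp ha ha1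
  exact ⟨b, hb, e, (hR.six_eq hp e ha hb).symm⟩

theorem card_near {a : G} (ha : a ∈ T) (ha1 : a ≠ 1) {R : Subgroup G} (hR : Hyp a R) :
    Nat.card (T ⊓ R : Subgroup G) = 4 := by
  obtain ⟨b, -, p, rfl⟩ := S.partner ha ha1
  exact hR.card_six_inf p

theorem near_symm {a b : G} (hb : b ∈ T) (hb1 : b ≠ 1) (hab : b ≠ a) {R R' : Subgroup G}
    (hR : Hyp a R) (hR' : Hyp b R') (hbR : b ∈ R) : a ∈ R' := by
  have hbC := hR.le hbR
  have haC : a ∈ centralizer ({b} : Set G) :=
    mem_centralizer_singleton_iff.2 (mem_centralizer_singleton_iff.1 hbC).symm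
  by_contra hn
  have e1 := (hR.card_meet ⟨S.cfg.sq b hb, hb1⟩ hab hbC).1 hbR
  have e2 := (hR'.card_meet hR.isI hab.symm haC).2 hn
  rw [inf_comm, e1] at e2
  norm_num at e2

theorem near_eq {a b : G} (ha : a ∈ T) (hb : b ∈ T) (hb1 : b ≠ 1) (hab : b ≠ a) {R R' : Subgroup G}
    (hR : Hyp a R) (hR' : Hyp b R') (hbR : b ∈ R) : T ⊓ R = T ⊓ R' := by
  classical
  haveI : Fintype G := Fintype.ofFinite G
  have haR := S.near_symm hb hb1 hab hR hR' hbR
  have ha1 : a ≠ 1 := hR.isI.2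
  have e4 : ({1, a, b, a * b} : Finset G).card = 4 := by
    have n1 : a * b ≠ 1 := fun e => hab (by
      rw [← inv_eq_of_mul_eq_one_right e, inv_eq_of_mul_eq_one_right (S.cfg.sq a ha)])
    rw [Finset.card_insert_of_notMem (by simp [ha1.symm, hb1.symm, n1.symm]),
      Finset.card_insert_of_notMem (by simp [hab.symm, hb1]),
      Finset.card_insert_of_notMem (by simp [ha1]), Finset.card_singleton]
  have key : ∀ {P : Subgroup G}, a ∈ P → b ∈ P → Nat.card P = 4 → ∀ x, x ∈ P ↔ x ∈ ({1, a, b, a * b} : Finset G) := by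
    intro P h1 h2 hc x
    have hsub : ({1, a, b, a * b} : Finset G) ⊆ Finset.univ.filter fun x => x ∈ P := by
      intro x hx
      simp only [Finset.mem_insert, Finset.mem_singleton] at hx
      refine Finset.mem_filter.2 ⟨Finset.mem_univ _, ?_⟩
      rcases hx with rfl | rfl | rfl | rfl
      exacts [one_mem P, h1, h2, mul_mem h1 h2]
    have := Finset.eq_of_subset_of_card_le hsub (by
      rw [e4, ← hc, Nat.card_eq_fintype_card, Fintype.card_subtype])
    rw [this]; simp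
  ext x
  rw [key (P := T ⊓ R) ⟨ha, hR.zmem⟩ ⟨hb, hbR⟩ (S.card_near ha ha1 hR) x,
    key (P := T ⊓ R') ⟨ha, haR⟩ ⟨hb, hR'.zmem⟩ (S.card_near hb hb1 hR') x]

theorem theta_val (i : ℕ) : θ (val ζ (B4.pw i)) = t ^ i * u * (t ^ i)⁻¹ := by
  rw [val_pw S.root S.two, S.cfg.theta_pow S.crd]

theorem pow_inj {i j : ℕ} (e : θ (ζ ^ i) = θ (ζ ^ j)) : i % 15 = j % 15 := by
  have key : ∀ k, ζ ^ k = ζ ^ (k % 15) := fun k => by
    conv_lhs => rw [← Nat.mod_add_div k 15, pow_add, pow_mul, S.crd.zord, one_pow, mul_one]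
  have e' := S.crd.inj e
  rw [key i, key j] at e'
  by_contra hne
  rcases Nat.lt_or_ge (i % 15) (j % 15) with hl | hl
  · refine S.crd.zpow_ne (j % 15 - i % 15) (by omega) (by omega) ?_
    have hz : ζ ^ (i % 15) ≠ 0 := pow_ne_zero _ fun e0 => by
      have h := S.crd.zord
      rw [e0, zero_pow (by norm_num)] at h
      exact zero_ne_one h
    refine mul_left_cancel₀ hz ?_
    rw [← pow_add, mul_one, Nat.add_sub_cancel' hl.le, e']
  · refine S.crd.zpow_ne (i % 15 - j % 15) (by omega) (by omega) ?_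
    have hz : ζ ^ (j % 15) ≠ 0 := pow_ne_zero _ fun e0 => by
      have h := S.crd.zord
      rw [e0, zero_pow (by norm_num)] at h
      exact zero_ne_one h
    refine mul_left_cancel₀ hz ?_
    rw [← pow_add, mul_one, Nat.add_sub_cancel' hl, e']

/-- The part in the extraspecial group of the base point. -/
theorem near_base {R : Subgroup G} (hR : Hyp u R) (x : G) :
    x ∈ T ⊓ R ↔ x = 1 ∨ x = u ∨ x = θ (ζ ^ 5) ∨ x = θ (ζ ^ 10) := by
  classical
  haveI : Fintype G := Fintype.ofFinite G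
  have hu : u = θ (ζ ^ 0) := by rw [pow_zero, S.crd.one]
  have hne1 : ∀ i : ℕ, θ (ζ ^ i) ≠ 1 := fun i e => by
    rw [S.cfg.theta_pow S.crd] at e
    exact S.cfg.u_ne (conj_eq_one_iff.1 e)
  obtain ⟨a, haW, ha1, hau⟩ : ∃ a ∈ T ⊓ R, a ≠ 1 ∧ a ≠ u := by
    by_contra hno
    push Not at hno
    have hsub : ((T ⊓ R : Subgroup G) : Set G) ⊆ {1, u} := fun a ha => by
      by_cases e : a = 1
      · exact Or.inl e
      · exact Or.inr (hno a ha e)
    have := (Set.ncard_le_ncard hsub (Set.toFinite _)).trans (Set.ncard_insert_le _ _)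
    rw [Set.ncard_singleton, ← Nat.card_coe_set_eq, SetLike.coe_sort_coe, S.card_near S.cfg.uT S.cfg.u_ne hR] at this
    omega
  obtain ⟨v, rfl⟩ := S.crd.surj a haW.1
  obtain ⟨i, rfl⟩ := S.crd.gen v fun e => ha1 (by rw [e, S.cfg.theta_zero S.crd])
  have h' : Hyp (θ (ζ ^ i)) (cj (t ^ i) R) := by
    rw [S.cfg.theta_pow S.crd]; exact hR.conj _
  have heq : T ⊓ R = T ⊓ cj (t ^ i) R := S.near_eq S.cfg.uT haW.1 (hne1 i) hau hR h' haW.2
  have step : ∀ j, θ (ζ ^ j) ∈ T ⊓ R → θ (ζ ^ (i + j)) ∈ T ⊓ R := fun j hj => by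
    rw [heq]
    refine ⟨S.crd.mem _, mem_cj.2 ?_⟩
    rw [S.cfg.theta_pow S.crd, pow_add,
      show (t ^ i)⁻¹ * (t ^ i * t ^ j * u * (t ^ i * t ^ j)⁻¹) * t ^ i = t ^ j * u * (t ^ j)⁻¹ by group,
      ← S.cfg.theta_pow S.crd]
    exact hj.2
  have m2 := step i haW
  have m3 := step _ m2
  have hu' : u ∈ T ⊓ R := ⟨S.cfg.uT, hR.zmem⟩
  have hi0 : i % 15 ≠ 0 := fun e => hau (by
    rw [← Nat.mod_add_div i 15, e, zero_add, pow_mul, S.crd.zord, one_pow, S.crd.one])
  have n2 : θ (ζ ^ (i + i)) ≠ u := fun e => by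
    rw [hu] at e; have := S.pow_inj e; omega
  have n2' : θ (ζ ^ (i + i)) ≠ θ (ζ ^ i) := fun e => by have := S.pow_inj e; omega
  have hsub : ({1, u, θ (ζ ^ i), θ (ζ ^ (i + i))} : Finset G) ⊆ Finset.univ.filter fun x => x ∈ T ⊓ R := by
    intro x hx
    simp only [Finset.mem_insert, Finset.mem_singleton] at hx
    refine Finset.mem_filter.2 ⟨Finset.mem_univ _, ?_⟩
    rcases hx with rfl | rfl | rfl | rfl
    exacts [one_mem _, hu', haW, m2]
  have hfull := Finset.eq_of_subset_of_card_le hsub (by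
    rw [Finset.card_insert_of_notMem (by simp [S.cfg.u_ne.symm, (hne1 i).symm, (hne1 (i + i)).symm]),
      Finset.card_insert_of_notMem (by simp [hau.symm, n2.symm]),
      Finset.card_insert_of_notMem (by simp [n2'.symm]), Finset.card_singleton,
      ← Fintype.card_subtype, ← Nat.card_eq_fintype_card]
    exact (S.card_near S.cfg.uT S.cfg.u_ne hR).le)
  have mem : ∀ x, x ∈ T ⊓ R ↔ x = 1 ∨ x = u ∨ x = θ (ζ ^ i) ∨ x = θ (ζ ^ (i + i)) := fun x => by
    have := Finset.ext_iff.1 hfull x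
    simpa using this.symm
  have h3 : (3 * i) % 15 = 0 := by
    rcases (mem _).1 m3 with e | e | e | e
    · exact absurd e (hne1 _)
    · rw [hu] at e; have := S.pow_inj e; omega
    · have := S.pow_inj e; omega
    · have := S.pow_inj e; omega
  have hmod : ∀ k, θ (ζ ^ k) = θ (ζ ^ (k % 15)) := fun k => by
    conv_lhs => rw [← Nat.mod_add_div k 15, pow_add, pow_mul, S.crd.zord, one_pow, mul_one]
  rw [mem, hmod i, hmod (i + i)]
  rcases (show i % 15 = 5 ∨ i % 15 = 10 by omega) with e | e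
  · rw [e, show (i + i) % 15 = 10 by omega]
  · rw [e, show (i + i) % 15 = 5 by omega]; tauto

end Setting

end CfsgLib.Invol.JThreeType
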