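import Cfsg.Agent.Lib.Invol.JThreeType.Sixteen.Norm
import Cfsg.Agent.Lib.Invol.JThreeType.Main

/-!
# A cyclic group of order fifteen regular on a group of order sixteen

It is normalised by an involution which raises an element of it to the fourth power.
-/

set_option autoImplicit false

namespace CfsgLib.Invol.JThreeType

open Subgroup
open CfsgLib.Invol.JTwo (card_orbit_mul)

variable {G : Type*} [Group G]

/-- The elements used for the subgroup `SL(2,16):2`. -/
structure SixData (T : Subgroup G) (f y σ u : G) : Prop where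
  comm : ∀ a ∈ T, ∀ b ∈ T, a * b = b * a
  sq : ∀ a ∈ T, a * a = 1
  card : Nat.card T = 16
  fo : orderOf f = 5
  yo : orderOf y = 3
  yf : y * f = f * y
  tord : orderOf (y * f) = 15
  ss : σ * σ = 1
  s1 : σ ≠ 1
  sT : σ ∉ T
  sf : σ * f * σ = f ^ 4
  sy : σ * y = y * σ
  fmem : ∀ a ∈ T, f * a * f⁻¹ ∈ T
  ymem : ∀ a ∈ T, y * a * y⁻¹ ∈ T
  smem : ∀ a ∈ T, σ * a * σ ∈ T
  uT : u ∈ T
  u1 : u ≠ 1
  su : σ * u = u * σ
  yfree : ∀ a ∈ T, y * a = a * y → a = 1
  trans : ∀ a ∈ T, a ≠ 1 → ∃ i : ℕ, (y * f) ^ i * u * ((y * f) ^ i)⁻¹ = a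

theorem odd_five_dvd : ∀ d ≤ 30, d ∣ 30 → ¬ 2 ∣ d → 5 ∣ d → d = 5 ∨ d = 15 := by decide +kernel

/-- An element of order five with no fixed point leaves a subgroup of order one modulo five. -/
theorem card_mod_five [Finite G] {W : Subgroup G} {f : G} (hf5 : f ^ 5 = 1)
    (hW : ∀ a ∈ W, f * a * f⁻¹ ∈ W) (hfree : ∀ a ∈ W, f * a = a * f → a = 1) : Nat.card W % 5 = 1 := by
  classical
  let F : Function.End W := fun a => ⟨f * a * f⁻¹, hW a a.2⟩
  haveI : Fintype W := Fintype.ofFinite _
  haveI : Fact (Nat.Prime 5) := ⟨Nat.prime_five⟩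
  have hpow : ∀ (n : ℕ) (a : W), (((F ^ n) a : W) : G) = f ^ n * a * (f ^ n)⁻¹ := by
    intro n
    induction n with
    | zero => intro a; show (a : G) = _; simp
    | succ n ih =>
      intro a
      rw [pow_succ']
      show f * (((F ^ n) a : W) : G) * f⁻¹ = _
      rw [ih, pow_succ']; group
  have hF : F ^ 5 ^ 1 = 1 := funext fun a => Subtype.ext (by
    rw [hpow, pow_one, hf5, one_mul, inv_one, mul_one]; rfl)
  have hmod := Equiv.Perm.card_fixedPoints_modEq hF
  have hfix : Nat.card (Function.fixedPoints F) = 1 := by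
    refine Nat.card_eq_one_iff_unique.2 ⟨⟨fun u v => Subtype.ext (Subtype.ext ?_)⟩, ⟨⟨1, Subtype.ext (by
      show f * (1 : G) * f⁻¹ = 1; group)⟩⟩⟩
    have one : ∀ w : Function.fixedPoints F, (w.1 : G) = 1 := fun w =>
      hfree _ w.1.2 (mul_inv_eq_iff_eq_mul.1 (congrArg Subtype.val w.2))
    rw [one u, one v]
  rw [Nat.ModEq, ← Nat.card_eq_fintype_card, ← Nat.card_eq_fintype_card, hfix] at hmod
  exact hmod

theorem mem_norm_zpowers [Finite G] {f g : G} (hg : g * f * g⁻¹ ∈ zpowers f) :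
    g ∈ normalizer (zpowers f : Set G) := by
  refine mem_normalizer_fintype fun n hn => ?_
  obtain ⟨k, rfl⟩ := mem_zpowers_iff.1 hn
  show g * f ^ k * g⁻¹ ∈ zpowers f
  rw [← conj_zpow]
  exact zpow_mem hg k

theorem five_powers_cases {f x : G} [Finite G] (hf : orderOf f = 5) (hx : x ∈ zpowers f) (hx1 : x ≠ 1) :
    ∃ k : Fin 4, x = f ^ (k.1 + 1) := by
  obtain ⟨n, hn⟩ := (isOfFinOrder_of_finite f).mem_powers_iff_mem_zpowers.2 hx
  rw [← hn] at hx1
  change f ^ n ≠ 1 at hx1
  have h0 : n % 5 ≠ 0 := fun e => hx1 (by rw [← pow_mod_orderOf, hf, e, pow_zero])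
  have h5 := Nat.mod_lt n (show 5 > 0 by norm_num)
  refine ⟨⟨n % 5 - 1, by omega⟩, ?_⟩
  rw [← hn]
  show f ^ n = f ^ (n % 5 - 1 + 1)
  rw [Nat.sub_add_cancel (by omega), ← hf, pow_mod_orderOf]

namespace Hyp

variable [Finite G] {z : G} {Q : Subgroup G} (h : Hyp z Q) {b : G} (p : Pair z b)
include h p

/-- No involution of the normalizer centralises an element of order five. -/
theorem five_no_invol {f c : G} (hf : f ∈ sixN z b) (hfo : orderOf f = 5) (hc : c ∈ sixN z b) (hcI : IsI c)
    (hcf : c * f = f * c) : False := by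
  set W : Subgroup G := six z b ⊓ centralizer ({c} : Set G) with hW
  have hf5 : f ^ 5 = 1 := by rw [← hfo]; exact pow_orderOf_eq_one _
  have hci : c⁻¹ = c := inv_eq_of_mul_eq_one_right hcI.1
  have hcW : ∀ a ∈ W, f * a * f⁻¹ ∈ W := by
    rintro a ⟨ha, hac⟩
    refine ⟨norm_mem hf ha, mem_centralizer_singleton_iff.2 ?_⟩
    have k1 : Commute f c := hcf.symm
    exact ((k1.mul_left (show Commute a c from mem_centralizer_singleton_iff.1 hac)).mul_left k1.inv_left).eq
  have h1 := card_mod_five hf5 hcW fun a ha e => h.five_free p hf hfo ha.1 e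
  have hd : Nat.card W ∣ 2 ^ 4 := by
    rw [show 2 ^ 4 = Nat.card (six z b) by rw [p.card]; norm_num]
    exact card_dvd_of_le inf_le_left
  obtain ⟨n, hn, e⟩ := (Nat.dvd_prime_pow Nat.prime_two).1 hd
  have hne : ∃ a ∈ W, a ≠ 1 := by
    by_cases hcz : c * z * c⁻¹ = z
    · exact ⟨z, ⟨p.mem_left, mem_centralizer_singleton_iff.2 (mul_inv_eq_iff_eq_mul.1 hcz).symm⟩, h.z_ne⟩
    · have hm := norm_mem hc p.mem_left
      refine ⟨z * (c * z * c⁻¹), ⟨mul_mem p.mem_left hm, mem_centralizer_singleton_iff.2 ?_⟩,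
        fun e => hcz ?_⟩
      · have key : c * (z * (c * z * c⁻¹)) * c⁻¹ = z * (c * z * c⁻¹) := by
          calc c * (z * (c * z * c⁻¹)) * c⁻¹ = c * z * c⁻¹ * (c * c * z * (c * c)⁻¹) := by group
            _ = c * z * c⁻¹ * z := by rw [hcI.1]; group
            _ = _ := ((h.pair_struct p).1 _ hm _ p.mem_left)
        exact (mul_inv_eq_iff_eq_mul.1 key).symm
      · rw [← inv_eq_of_mul_eq_one_right e, inv_eq_of_mul_eq_one_right h.zz]
  have h4 : n = 4 := by
    obtain ⟨a, ha, ha1⟩ := hne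
    have h0 : n ≠ 0 := fun e0 => by
      rw [e0, pow_zero] at e
      rw [(Subgroup.card_eq_one).1 e, mem_bot] at ha
      exact ha1 ha
    rw [e] at h1
    interval_cases n <;> simp_all
  subst h4
  have hall : W = six z b := eq_of_le_of_card_ge inf_le_left (by rw [e, p.card]; norm_num)
  have hcT : c ∈ six z b := by
    have hzW : z ∈ W := hall.ge p.mem_left
    have hbW : b ∈ W := hall.ge p.mem_right
    exact mem_six.2 ⟨(mem_centralizer_singleton_iff.1 hzW.2).symm, (mem_centralizer_singleton_iff.1 hbW.2).symm⟩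
  exact hcI.2 (h.five_free p hf hfo hcT hcf.symm)

/-- The normalizer of a subgroup of order five has order thirty, its centralizer fifteen. -/
theorem five_local {f : G} (hf : f ∈ sixN z b) (hfo : orderOf f = 5) :
    Nat.card (sixN z b ⊓ normalizer (zpowers f : Set G) : Subgroup G) = 30 ∧
      Nat.card (sixN z b ⊓ centralizer ({f} : Set G) : Subgroup G) = 15 := by
  classical
  haveI : Fact (Nat.Prime 5) := ⟨Nat.prime_five⟩
  set N := sixN z b with hN
  set D : Subgroup G := N ⊓ normalizer (zpowers f : Set G) with hD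
  have hN0 : Nat.card N = 2880 := (h.card_sixN p).1
  have hf5 : f ^ 5 = 1 := by rw [← hfo]; exact pow_orderOf_eq_one _
  let f' : N := ⟨f, hf⟩
  have hf'o : orderOf f' = 5 := by rw [← orderOf_coe]; exact hfo
  set H : Subgroup N := zpowers f' with hH
  have hHc : Nat.card H = 5 ^ 1 := by rw [hH, Nat.card_zpowers, hf'o, pow_one]
  have hHi : H.index = 576 := by
    have := H.card_mul_index
    rw [hHc, hN0] at this
    omega
  let P : Sylow 5 N := (IsPGroup.of_card hHc).toSylow (by rw [hHi]; norm_num)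
  have hn5 := card_sylow_modEq_one 5 N
  rw [P.card_eq_index_normalizer] at hn5
  have hM : (normalizer (H : Set N)).map N.subtype = D := by
    ext x
    constructor
    · rintro ⟨x, hx, rfl⟩
      refine ⟨x.2, mem_norm_zpowers ?_⟩
      obtain ⟨k, hk⟩ := mem_zpowers_iff.1 ((mem_normalizer_iff.1 hx f').1 (mem_zpowers f'))
      exact mem_zpowers_iff.2 ⟨k, congrArg Subtype.val hk⟩
    · rintro ⟨hxN, hx⟩
      refine ⟨⟨x, hxN⟩, mem_norm_zpowers ?_, rfl⟩
      obtain ⟨k, hk⟩ := mem_zpowers_iff.1 ((mem_normalizer_iff.1 hx f).1 (mem_zpowers f))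
      exact mem_zpowers_iff.2 ⟨k, Subtype.ext hk⟩
  have hMc : Nat.card (normalizer (H : Set N)) = Nat.card D := by
    rw [← hM, card_map_of_injective N.subtype_injective]
  have hmul := (normalizer (H : Set N)).card_mul_index
  rw [hMc, hN0] at hmul
  replace hn5 : (normalizer (H : Set N)).index % 5 = 1 := hn5
  set n5 := (normalizer (H : Set N)).index with hn5d
  -- the orbit of the generator
  have ho := card_orbit_mul D f
  have eC : D ⊓ centralizer ({f} : Set G) = N ⊓ centralizer ({f} : Set G) := le_antisymm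
    (fun x hx => ⟨hx.1.1, hx.2⟩) fun x hx => ⟨⟨hx.1, mem_norm_zpowers (by
      rw [mem_centralizer_singleton_iff.1 hx.2, mul_inv_cancel_right]; exact mem_zpowers f)⟩, hx.2⟩
  rw [eC] at ho
  set d := Nat.card (N ⊓ centralizer ({f} : Set G) : Subgroup G) with hd
  have hd5 : 5 ∣ d := by
    rw [← hfo]
    exact Subgroup.orderOf_dvd_natCard _ ⟨hf, mem_centralizer_singleton_iff.2 rfl⟩
  have hd30 : d ∣ 30 := by
    obtain ⟨u, c, E⟩ := h.big.five_data hfo
    rw [← E.card]
    exact card_dvd_of_le inf_le_right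
  have hd2 : ¬ 2 ∣ d := fun h2 => by
    haveI : Fact (Nat.Prime 2) := ⟨Nat.prime_two⟩
    obtain ⟨c, hc⟩ := exists_prime_orderOf_dvd_card' (G := ↥(N ⊓ centralizer ({f} : Set G) : Subgroup G)) 2 h2
    have hco : orderOf (c : G) = 2 := by rw [orderOf_coe, hc]
    exact h.five_no_invol p hf hfo c.2.1 (isI_iff.2 hco) (mem_centralizer_singleton_iff.1 c.2.2)
  set o := Nat.card {x : G // ∃ c ∈ D, c * f * c⁻¹ = x} with hod
  have ho4 : o ≤ 4 := by
    have key : ∀ x : {x : G // ∃ c ∈ D, c * f * c⁻¹ = x}, ∃ k : Fin 4, x.1 = f ^ (k.1 + 1) := by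
      rintro ⟨x, c, hc, rfl⟩
      refine five_powers_cases hfo ((mem_normalizer_iff.1 hc.2 f).1 (mem_zpowers f)) fun e => ?_
      rw [conj_eq_one_iff.1 e, orderOf_one] at hfo
      exact absurd hfo (by norm_num)
    choose k hk using key
    exact (Nat.card_le_card_of_injective k fun u v e => Subtype.ext (by rw [hk u, hk v, e])).trans
      (by simp)
  -- one element normalising alone would give too many elements of order five
  have h5 : Nat.card D ≠ 5 := by
    intro e5
    obtain ⟨U, hUN, hUc, hU5⟩ := h.card_stab_union p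
    have hDf : D = zpowers f := (eq_of_le_of_card_ge
      (zpowers_le.2 (⟨hf, mem_norm_zpowers (by simp)⟩ : f ∈ D))
      (by rw [e5, Nat.card_zpowers, hfo])).symm
    let E : Fin 4 × (N ⧸ H) → G := fun q => (q.2.out : G) * f ^ (q.1.1 + 1) * (q.2.out : G)⁻¹
    have hcop : ∀ k : Fin 4, (k.1 + 1).Coprime 5 := by decide
    have hE5 : ∀ q, orderOf (E q) = 5 := fun q => by
      show orderOf ((q.2.out : G) * f ^ (q.1.1 + 1) * (q.2.out : G)⁻¹) = 5
      rw [← MulAut.conj_apply, MulEquiv.orderOf_eq, Nat.Coprime.orderOf_pow (by rw [hfo]; exact (hcop q.1).symm),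
        hfo]
    have hinj : Function.Injective E := by
      rintro ⟨k, q⟩ ⟨k', q'⟩ e
      set g : N := q'.out⁻¹ * q.out with hg
      have e1 : (g : G) * f ^ (k.1 + 1) * (g : G)⁻¹ = f ^ (k'.1 + 1) := by
        calc (g : G) * f ^ (k.1 + 1) * (g : G)⁻¹
            = (q'.out : G)⁻¹ * ((q.out : G) * f ^ (k.1 + 1) * (q.out : G)⁻¹) * (q'.out : G) := by
              rw [hg, coe_mul, coe_inv]; group
          _ = (q'.out : G)⁻¹ * ((q'.out : G) * f ^ (k'.1 + 1) * (q'.out : G)⁻¹) * (q'.out : G) := by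
              rw [show (q.out : G) * f ^ (k.1 + 1) * (q.out : G)⁻¹ = _ from e]
          _ = _ := by group
      obtain ⟨m, hm⟩ : ∃ m, (f ^ (k.1 + 1)) ^ m = f :=
        exists_pow_eq_self_of_coprime (by rw [hfo]; exact hcop k)
      have hgD : (g : G) ∈ D := ⟨g.2, mem_norm_zpowers (by
        have e2 : (g : G) * (f ^ (k.1 + 1)) ^ m * (g : G)⁻¹ ∈ zpowers f := by
          rw [← conj_pow, e1]
          exact pow_mem (pow_mem (mem_zpowers f) _) _
        rwa [hm] at e2)⟩
      rw [hDf] at hgD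
      obtain ⟨j, hj⟩ := mem_zpowers_iff.1 hgD
      rw [← hj, ((Commute.refl f).zpow_left j |>.pow_right _).eq, mul_inv_cancel_right] at e1
      have hk : k = k' := by
        have := pow_inj_mod.1 e1
        rw [hfo] at this
        omega
      have hgH : g ∈ H := mem_zpowers_iff.2 ⟨j, Subtype.ext hj⟩
      have hq : q' = q := by
        rw [← QuotientGroup.out_eq' q, ← QuotientGroup.out_eq' q']
        exact QuotientGroup.eq.2 hgH
      rw [hk, hq]
    have hdisj : Disjoint U (Set.range E) := Set.disjoint_left.2 fun x hx ⟨q, hq⟩ =>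
      hU5 x hx (hq ▸ hE5 q)
    have hsub : U ∪ Set.range E ⊆ (N : Set G) := Set.union_subset hUN (by
      rintro _ ⟨q, rfl⟩
      exact mul_mem (mul_mem q.2.out.2 (pow_mem hf _)) (inv_mem q.2.out.2))
    have hle := Set.ncard_le_ncard hsub (Set.toFinite _)
    rw [Set.ncard_union_eq hdisj, hUc, Set.ncard_range_of_injective hinj, Nat.card_prod,
      show Nat.card (N ⧸ H) = H.index from rfl, hHi, Nat.card_eq_fintype_card, Fintype.card_fin,
      ← Nat.card_coe_set_eq, SetLike.coe_sort_coe, hN0] at hle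
    omega
  have hdv : d = 5 ∨ d = 15 := odd_five_dvd d (Nat.le_of_dvd (by norm_num) hd30) hd30 hd2 hd5
  have ho0 : o ≠ 0 := fun e => by
    rw [e, zero_mul] at ho
    exact Nat.card_pos.ne' ho.symm
  have : o = 1 ∨ o = 2 ∨ o = 3 ∨ o = 4 := by omega
  rw [← ho] at h5 hmul ⊢
  rcases hdv with e | e <;> rw [e] at hmul h5 ⊢ <;> rcases this with e' | e' | e' | e' <;>
    rw [e'] at hmul h5 ⊢ <;> omega

/-- The data. -/
theorem exists_sixData : ∃ f y σ u, SixData (six z b) f y σ u := by
  classical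
  haveI : Fact (Nat.Prime 5) := ⟨Nat.prime_five⟩
  haveI : Fact (Nat.Prime 3) := ⟨Nat.prime_three⟩
  haveI : Fact (Nat.Prime 2) := ⟨Nat.prime_two⟩
  obtain ⟨f₀, hf₀⟩ := exists_prime_orderOf_dvd_card' (G := ↥(sixN z b)) 5
    (by rw [(h.card_sixN p).1]; norm_num)
  have fo : orderOf (f₀ : G) = 5 := by rw [orderOf_coe, hf₀]
  have hfN : (f₀ : G) ∈ sixN z b := f₀.2
  generalize (f₀ : G) = f at fo hfN
  clear hf₀ f₀
  obtain ⟨c30, c15⟩ := h.five_local p hfN fo
  obtain ⟨y₀, hy₀⟩ := exists_prime_orderOf_dvd_card'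
    (G := ↥(sixN z b ⊓ centralizer ({f} : Set G) : Subgroup G)) 3 (by rw [c15]; norm_num)
  obtain ⟨s₀, hs₀⟩ := exists_prime_orderOf_dvd_card'
    (G := ↥(sixN z b ⊓ normalizer (zpowers f : Set G) : Subgroup G)) 2 (by rw [c30]; norm_num)
  have yo : orderOf (y₀ : G) = 3 := by rw [orderOf_coe, hy₀]
  have so : orderOf (s₀ : G) = 2 := by rw [orderOf_coe, hs₀]
  have hyN : (y₀ : G) ∈ sixN z b := y₀.2.1
  have yf : (y₀ : G) * f = f * y₀ := mem_centralizer_singleton_iff.1 y₀.2.2
  have hsN : (s₀ : G) ∈ sixN z b := s₀.2.1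
  have hsP : (s₀ : G) ∈ normalizer (zpowers f : Set G) := s₀.2.2
  generalize (y₀ : G) = y at yo hyN yf
  generalize (s₀ : G) = σ at so hsN hsP
  clear hy₀ hs₀ y₀ s₀ c15 c30
  obtain ⟨comm, sq⟩ := h.pair_struct p
  obtain ⟨ss, s1⟩ := isI_iff.2 so
  have si : σ⁻¹ = σ := inv_eq_of_mul_eq_one_right ss
  have hf5 : f ^ 5 = 1 := by rw [← fo]; exact pow_orderOf_eq_one _
  have hy3 : y ^ 3 = 1 := by rw [← yo]; exact pow_orderOf_eq_one _
  -- the action on the group of order five
  have sf : σ * f * σ = f ^ 4 := by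
    have hm : σ * f * σ⁻¹ ∈ zpowers f := (mem_normalizer_iff.1 hsP f).1 (mem_zpowers f)
    obtain ⟨k, hk⟩ := five_powers_cases fo hm (fun e => by
      rw [conj_eq_one_iff.1 e, orderOf_one] at fo
      exact absurd fo (by norm_num))
    have htw : f ^ ((k.1 + 1) * (k.1 + 1)) = f ^ 1 := by
      rw [pow_mul, ← hk, conj_pow, ← hk, si, pow_one]
      calc σ * (σ * f * σ) * σ = σ * σ * f * (σ * σ) := by group
        _ = f := by rw [ss]; group
    have := pow_inj_mod.1 htw
    rw [fo] at this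
    rw [si] at hk
    have hk0 : k.1 ≠ 0 := fun e => h.five_no_invol p hfN fo hsN ⟨ss, s1⟩ (by
      rw [e, zero_add, pow_one] at hk
      calc σ * f = σ * f * (σ * σ) := by rw [ss, mul_one]
        _ = σ * f * σ * σ := by group
        _ = f * σ := by rw [hk])
    rw [hk]
    congr 1
    fin_cases k <;> simp_all
  -- `y` has no fixed point
  have yfree : ∀ a ∈ six z b, y * a = a * y → a = 1 := by
    set W : Subgroup G := six z b ⊓ centralizer ({y} : Set G) with hW
    have hWf : ∀ a ∈ W, f * a * f⁻¹ ∈ W := fun a ha => ⟨norm_mem hfN ha.1,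
      mem_centralizer_singleton_iff.2
        (((show Commute f y from yf.symm).mul_left (show Commute a y from mem_centralizer_singleton_iff.1 ha.2)).mul_left
          (show Commute f y from yf.symm).inv_left).eq⟩
    have h1 := card_mod_five hf5 hWf fun a ha e => h.five_free p hfN fo ha.1 e
    have hd : Nat.card W ∣ 2 ^ 4 := by
      rw [show 2 ^ 4 = Nat.card (six z b) by rw [p.card]; norm_num]
      exact card_dvd_of_le inf_le_left
    obtain ⟨n, hn, e⟩ := (Nat.dvd_prime_pow Nat.prime_two).1 hd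
    rw [e] at h1
    have hn0 : n = 0 := by
      rcases (show n = 0 ∨ n = 1 ∨ n = 2 ∨ n = 3 ∨ n = 4 by omega) with e' | e' | e' | e' | e' <;>
        subst e' <;> try norm_num at h1
      · rfl
      exfalso
      have hall : W = six z b := eq_of_le_of_card_ge inf_le_left (by rw [e, p.card]; norm_num)
      have hzW : z ∈ W := hall.ge p.mem_left
      have hbW : b ∈ W := hall.ge p.mem_right
      have hyT : y ∈ six z b := mem_six.2
        ⟨(mem_centralizer_singleton_iff.1 hzW.2).symm, (mem_centralizer_singleton_iff.1 hbW.2).symm⟩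
      have := orderOf_dvd_of_pow_eq_one (show y ^ 2 = 1 by rw [pow_two]; exact sq y hyT)
      rw [yo] at this
      norm_num at this
    intro a ha hya
    rw [hn0, pow_zero] at e
    have haW : a ∈ W := ⟨ha, mem_centralizer_singleton_iff.2 hya.symm⟩
    rw [(Subgroup.card_eq_one).1 e, mem_bot] at haW
    exact haW
  -- the product of order fifteen
  have tord : orderOf (y * f) = 15 := by
    rw [(show Commute y f from yf).orderOf_mul_eq_mul_orderOf_of_coprime (by rw [yo, fo]; norm_num), yo, fo]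
  have reg : ∀ (i : ℕ), ∀ a ∈ six z b, a ≠ 1 → (y * f) ^ i * a = a * (y * f) ^ i → 15 ∣ i := by
    intro i a ha ha1 hc
    have c1 : Commute ((y * f) ^ i) a := hc
    refine Nat.Coprime.mul_dvd_of_dvd_of_dvd (by norm_num : Nat.Coprime 3 5) ?_ ?_
    · have e : ((y * f) ^ i) ^ 5 = y ^ (5 * i) := by
        rw [← pow_mul, mul_comm i, (show Commute y f from yf).mul_pow, pow_mul f, hf5, one_pow, mul_one]
      by_contra h3
      have h3' : ¬ 3 ∣ 5 * i := fun d => h3 ((Nat.Coprime.dvd_mul_left (by norm_num)).1 d)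
      obtain ⟨m, hm⟩ : ∃ m, (y ^ (5 * i)) ^ m = y :=
        exists_pow_eq_self_of_coprime (by rw [yo]; exact ((Nat.Prime.coprime_iff_not_dvd Nat.prime_three).2 h3').symm)
      refine ha1 (yfree a ha ?_)
      have := (c1.pow_left 5).pow_left m
      rw [e, hm] at this
      exact this
    · have e : ((y * f) ^ i) ^ 3 = f ^ (3 * i) := by
        rw [← pow_mul, mul_comm i, (show Commute y f from yf).mul_pow, pow_mul y, hy3, one_pow, one_mul]
      by_contra h5
      have h5' : ¬ 5 ∣ 3 * i := fun d => h5 ((Nat.Coprime.dvd_mul_left (by norm_num)).1 d)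
      obtain ⟨m, hm⟩ : ∃ m, (f ^ (3 * i)) ^ m = f :=
        exists_pow_eq_self_of_coprime (by rw [fo]; exact ((Nat.Prime.coprime_iff_not_dvd Nat.prime_five).2 h5').symm)
      refine ha1 (h.five_free p hfN fo ha ?_)
      have := (c1.pow_left 3).pow_left m
      rw [e, hm] at this
      exact this
  have htN : y * f ∈ sixN z b := mul_mem hyN hfN
  have trans : ∀ u ∈ six z b, u ≠ 1 → ∀ a ∈ six z b, a ≠ 1 →
      ∃ i : ℕ, (y * f) ^ i * u * ((y * f) ^ i)⁻¹ = a := by
    intro u hu hu1 a ha ha1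
    let φ : Fin 15 → {x : G // x ∈ (six z b : Set G) \ {1}} := fun i =>
      ⟨(y * f) ^ i.1 * u * ((y * f) ^ i.1)⁻¹, norm_mem (pow_mem htN _) hu,
        fun e => hu1 (conj_eq_one_iff.1 e)⟩
    have key : ∀ i j : ℕ, i ≤ j →
        (y * f) ^ i * u * ((y * f) ^ i)⁻¹ = (y * f) ^ j * u * ((y * f) ^ j)⁻¹ → 15 ∣ j - i := by
      intro i j hij e
      refine reg _ u hu hu1 (mul_inv_eq_iff_eq_mul.1 ?_)
      calc (y * f) ^ (j - i) * u * ((y * f) ^ (j - i))⁻¹
          = ((y * f) ^ i)⁻¹ * ((y * f) ^ j * u * ((y * f) ^ j)⁻¹) * (y * f) ^ i := by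
            conv_rhs => rw [show j = i + (j - i) by omega, pow_add]
            group
        _ = u := by rw [← e]; group
    have hinj : Function.Injective φ := fun i j e => by
      have e' : (y * f) ^ i.1 * u * ((y * f) ^ i.1)⁻¹ = (y * f) ^ j.1 * u * ((y * f) ^ j.1)⁻¹ :=
        congrArg Subtype.val e
      apply Fin.ext
      rcases le_total i.1 j.1 with hl | hl
      · have := key _ _ hl e'; omega
      · have := key _ _ hl e'.symm; omega
    have hc : Nat.card {x : G // x ∈ (six z b : Set G) \ {1}} = 15 := by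
      show Nat.card ↥((six z b : Set G) \ {1}) = 15
      rw [Nat.card_coe_set_eq, Set.ncard_sdiff_singleton_of_mem (one_mem (six z b)), ← Nat.card_coe_set_eq]
      show Nat.card (six z b) - 1 = 15
      rw [p.card]
    obtain ⟨i, hi⟩ := ((Nat.bijective_iff_injective_and_card φ).2
      ⟨hinj, by rw [hc, Nat.card_eq_fintype_card, Fintype.card_fin]⟩).2 ⟨a, ha, ha1⟩
    exact ⟨i, congrArg Subtype.val hi⟩
  have smem : ∀ a ∈ six z b, σ * a * σ ∈ six z b := fun a ha => by
    have := norm_mem hsN ha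
    rwa [si] at this
  -- a fixed involution
  obtain ⟨u, hu, hu1, su⟩ : ∃ u ∈ six z b, u ≠ 1 ∧ σ * u * σ = u := by
    by_cases e : σ * z * σ = z
    · exact ⟨z, p.mem_left, h.z_ne, e⟩
    · refine ⟨z * (σ * z * σ), mul_mem p.mem_left (smem z p.mem_left), fun e' => e ?_, ?_⟩
      · rw [← inv_eq_of_mul_eq_one_right e', inv_eq_of_mul_eq_one_right h.zz]
      · calc σ * (z * (σ * z * σ)) * σ = σ * z * σ * (z * (σ * σ)) := by group
          _ = z * (σ * z * σ) := by rw [ss, mul_one]; exact comm _ (smem z p.mem_left) _ p.mem_left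
  have suc : σ * u = u * σ := by
    calc σ * u = σ * u * (σ * σ) := by rw [ss, mul_one]
      _ = σ * u * σ * σ := by group
      _ = u * σ := by rw [su]
  -- the action on the group of order three
  obtain ⟨v, c, E⟩ := h.big.five_data fo
  have three : ∀ a, a * f = f * a → orderOf a = 3 → a = c ∨ a = c⁻¹ := by
    intro a haf hao
    obtain ⟨i, j, e⟩ := E.odd a (mem_centralizer_singleton_iff.2 haf) (by rw [hao]; decide)
    have hc3 : c ^ 3 = 1 := by rw [← E.yclass.1]; exact pow_orderOf_eq_one _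
    have ha3 : a ^ 3 = 1 := by rw [← hao]; exact pow_orderOf_eq_one _
    have e10 : a = c ^ j := by
      calc a = a ^ 10 := by rw [show 10 = 3 * 3 + 1 from rfl, pow_succ, pow_mul, ha3, one_pow, one_mul]
        _ = (f ^ i * c ^ j) ^ 10 := by rw [e]
        _ = f ^ (5 * (2 * i)) * c ^ (3 * (3 * j) + j) := by
            rw [((show Commute f c from E.commb.symm).pow_pow i j).mul_pow, ← pow_mul, ← pow_mul]
            ring_nf
        _ = c ^ j := by rw [pow_mul, hf5, one_pow, pow_add, pow_mul c 3, hc3, one_pow, one_mul, one_mul]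
    rcases order_three_pow E.yclass.1 j with e' | e' | e'
    · rw [e10, e', orderOf_one] at hao
      exact absurd hao (by norm_num)
    · exact Or.inl (e10.trans e')
    · exact Or.inr (e10.trans e')
  have hsy : σ * y * σ = y ∨ σ * y * σ = y⁻¹ := by
    have e4 : (σ * y * σ) * f = f * (σ * y * σ) := by
      have c4 : Commute (σ * y * σ) (f ^ 4) := by
        rw [← sf]
        show σ * y * σ * (σ * f * σ) = σ * f * σ * (σ * y * σ)
        calc σ * y * σ * (σ * f * σ) = σ * (y * (σ * σ) * f) * σ := by group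
          _ = σ * (f * (σ * σ) * y) * σ := by rw [ss, mul_one, mul_one, yf]
          _ = _ := by group
      have e16 : (f ^ 4) ^ 4 = f := by
        rw [← pow_mul, show 4 * 4 = 5 * 3 + 1 from rfl, pow_succ, pow_mul, hf5, one_pow, one_mul]
      have := c4.pow_right 4
      rwa [e16] at this
    have o3 : orderOf (σ * y * σ) = 3 := by
      conv_lhs => rw [show σ * y * σ = σ * y * σ⁻¹ by rw [si]]
      rw [← MulAut.conj_apply, MulEquiv.orderOf_eq, yo]
    rcases three _ e4 o3 with e | e <;> rcases three y yf yo with e' | e' <;> rw [e, e']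
    · exact Or.inl rfl
    · exact Or.inr (inv_inv c).symm
    · exact Or.inr rfl
    · exact Or.inl rfl
  have sy : σ * y * σ = y := by
    refine hsy.resolve_right fun einv => ?_
    have st : σ * (y * f) * σ = (y * f)⁻¹ := by
      calc σ * (y * f) * σ = σ * y * (σ * σ) * f * σ := by rw [ss]; group
        _ = σ * y * σ * (σ * f * σ) := by group
        _ = y⁻¹ * f⁻¹ := by
            rw [einv, sf, show f⁻¹ = f ^ 4 from inv_eq_of_mul_eq_one_right (by rw [← pow_succ', hf5])]
        _ = (y * f)⁻¹ := by rw [yf, _root_.mul_inv_rev]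
    have fixu : ∀ a ∈ six z b, σ * a * σ = a → a = 1 ∨ a = u := by
      intro a ha hfix
      by_cases ha1 : a = 1
      · exact Or.inl ha1
      obtain ⟨i, hi⟩ := trans u hu hu1 a ha ha1
      refine Or.inr ?_
      have h2 : (y * f) ^ (i + i) * u = u * (y * f) ^ (i + i) := by
        apply mul_inv_eq_iff_eq_mul.1
        have e1 : σ * a * σ = ((y * f) ^ i)⁻¹ * u * (y * f) ^ i := by
          have hp : σ * (y * f) ^ i * σ = ((y * f) ^ i)⁻¹ := by
            rw [← inv_pow, ← st]
            conv_rhs => rw [show σ * (y * f) * σ = σ * (y * f) * σ⁻¹ by rw [si], conj_pow, si]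
          calc σ * a * σ = σ * (y * f) ^ i * (σ * σ) * u * (σ * σ) * ((y * f) ^ i)⁻¹ * σ := by
                rw [← hi, ss]; group
            _ = σ * (y * f) ^ i * σ * (σ * u * σ) * (σ⁻¹ * ((y * f) ^ i)⁻¹ * σ⁻¹)⁻¹⁻¹ := by
                rw [si]; group
            _ = ((y * f) ^ i)⁻¹ * u * (y * f) ^ i := by
                rw [hp, su, si, inv_inv,
                  show σ * ((y * f) ^ i)⁻¹ * σ = (σ⁻¹ * (y * f) ^ i * σ⁻¹)⁻¹ by group, si, hp, inv_inv]
        calc (y * f) ^ (i + i) * u * ((y * f) ^ (i + i))⁻¹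
            = (y * f) ^ i * ((y * f) ^ i * u * ((y * f) ^ i)⁻¹) * ((y * f) ^ i)⁻¹ := by rw [pow_add]; group
          _ = (y * f) ^ i * (((y * f) ^ i)⁻¹ * u * (y * f) ^ i) * ((y * f) ^ i)⁻¹ := by rw [hi, ← e1, hfix]
          _ = u := by group
      have hd := reg _ u hu hu1 h2
      have hd' : 15 ∣ i := by omega
      obtain ⟨k, rfl⟩ := hd'
      rw [← hi, pow_mul, ← tord, pow_orderOf_eq_one, one_pow, one_mul, inv_one, mul_one]
    have moved : ∀ a ∈ six z b, a ≠ 1 → a ≠ u → σ * a * σ = a * u := by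
      intro a ha n1 n2
      have hm : a * (σ * a * σ) ∈ six z b := mul_mem ha (smem a ha)
      rcases fixu _ hm (by
        calc σ * (a * (σ * a * σ)) * σ = σ * a * σ * (a * (σ * σ)) := by group
          _ = _ := by rw [ss, mul_one]; exact comm _ (smem a ha) _ ha) with e | e
      · exfalso
        have e' : σ * a * σ = a := by rw [← inv_eq_of_mul_eq_one_right e, inv_eq_of_mul_eq_one_right (sq a ha)]
        exact (fixu a ha e').elim n1 n2
      · rw [← e, ← mul_assoc, sq a ha, one_mul]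
    obtain ⟨a1, ha1, n11, n12⟩ : ∃ a ∈ six z b, a ≠ 1 ∧ a ≠ u := by
      by_contra hno
      push Not at hno
      have hsub : (six z b : Set G) ⊆ {1, u} := fun a ha => by
        by_cases e : a = 1
        · exact Or.inl e
        · exact Or.inr (hno a ha e)
      have := (Set.ncard_le_ncard hsub (Set.toFinite _)).trans (Set.ncard_insert_le _ _)
      rw [Set.ncard_singleton, ← Nat.card_coe_set_eq, SetLike.coe_sort_coe, p.card] at this
      omega
    obtain ⟨a2, ha2, n21, n22, n23, n24⟩ : ∃ a ∈ six z b, a ≠ 1 ∧ a ≠ u ∧ a ≠ a1 ∧ a ≠ a1 * u := by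
      by_contra hno
      push Not at hno
      have hsub : (six z b : Set G) ⊆ {1, u, a1, a1 * u} := fun a ha => by
        simp only [Set.mem_insert_iff, Set.mem_singleton_iff]
        by_cases e1 : a = 1
        · exact Or.inl e1
        by_cases e2 : a = u
        · exact Or.inr (Or.inl e2)
        by_cases e3 : a = a1
        · exact Or.inr (Or.inr (Or.inl e3))
        exact Or.inr (Or.inr (Or.inr (hno a ha e1 e2 e3)))
      have := Set.ncard_le_ncard hsub (Set.toFinite _)
      have h4 : ({1, u, a1, a1 * u} : Set G).ncard ≤ 4 := (Set.ncard_insert_le _ _).trans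
        (Nat.add_le_add_right ((Set.ncard_insert_le _ _).trans
          (Nat.add_le_add_right ((Set.ncard_insert_le _ _).trans (by rw [Set.ncard_singleton])) _)) _)
      rw [← Nat.card_coe_set_eq, SetLike.coe_sort_coe, p.card] at this
      omega
    have hfx : σ * (a1 * a2) * σ = a1 * a2 := by
      calc σ * (a1 * a2) * σ = σ * a1 * (σ * σ) * a2 * σ := by rw [ss]; group
        _ = σ * a1 * σ * (σ * a2 * σ) := by group
        _ = a1 * u * (a2 * u) := by rw [moved a1 ha1 n11 n12, moved a2 ha2 n21 n22]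
        _ = a1 * a2 * (u * u) := by
            rw [mul_assoc a1 u, ← mul_assoc u, comm u hu a2 ha2]; group
        _ = a1 * a2 := by rw [sq u hu, mul_one]
    rcases fixu _ (mul_mem ha1 ha2) hfx with e | e
    · exact n23 (by rw [← inv_eq_of_mul_eq_one_right e, inv_eq_of_mul_eq_one_right (sq a1 ha1)])
    · exact n24 (by rw [← e, ← mul_assoc, sq a1 ha1, one_mul])
  refine ⟨f, y, σ, u, ⟨comm, sq, p.card, fo, yo, yf, tord, ss, s1, fun hs => ?_, sf, ?_,
    fun a ha => norm_mem hfN ha, fun a ha => norm_mem hyN ha, smem, hu, hu1, suc, yfree,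
    trans u hu hu1⟩⟩
  · have hm : σ * (f * σ * f⁻¹) ∈ six z b := mul_mem hs (norm_mem hfN hs)
    have e3 : σ * (f * σ * f⁻¹) = f ^ 3 := by
      calc σ * (f * σ * f⁻¹) = σ * f * σ * f⁻¹ := by group
        _ = f ^ 3 := by rw [sf]; group
    rw [e3] at hm
    have h6 := sq _ hm
    rw [← pow_add] at h6
    have := orderOf_dvd_of_pow_eq_one h6
    rw [fo] at this
    norm_num at this
  · calc σ * y = σ * y * (σ * σ) := by rw [ss, mul_one]
      _ = σ * y * σ * σ := by group
      _ = y * σ := by rw [sy]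

end Hyp

end CfsgLib.Invol.JThreeType
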