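import Cfsg.Agent.Lib.Invol.JThreeType.Sixteen.Setting

/-!
# The extra involution

A point of the extraspecial group of the Frobenius involution normalises the group of order sixteen and
induces a transvection over the field of order four.
-/

set_option autoImplicit false

namespace CfsgLib.Invol.JThreeType

open Subgroup
open CfsgLib.Invol.JTwo (Frame Out cj mem_cj mem_centralizer_conj)

local notation "A" => alternatingGroup (Fin 5)

theorem three_fix_point : ∀ a : {a : A // a * a = 1 ∧ a ≠ 1}, ∀ y : {y : A // y * y * y = 1},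
    y.1 * a.1 * y.1⁻¹ * a.1 = a.1 * (y.1 * a.1 * y.1⁻¹) → ∀ i, JTwo.AltFive.act a.1 i = i →
      JTwo.AltFive.act y.1 i = i := by
  decide +kernel

namespace B4

/-- The zero vector. -/
def zero : B4 := (false, false, false, false)

/-- A combination of a basis over the prime field adapted to the subfield. -/
def comb (a b c e : Bool) : B4 :=
  add (add (bif a then pw 0 else zero) (bif b then pw 10 else zero))
    (add (bif c then pw 1 else zero) (bif e then pw 11 else zero))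

theorem comb_surj : ∀ x : B4, ∃ a b c e, comb a b c e = x := by decide +kernel

theorem tv_facts : (∀ a b : B4, tv (add a b) = add (tv a) (tv b)) ∧
    (∀ a b : B4, frob (add a b) = add (frob a) (frob b)) ∧
    (∀ x : B4, tv (frob (frob x)) = tv x) := by decide +kernel

theorem fix_base : tv (pw 0) = pw 0 ∧ frob (pw 0) = pw 0 ∧ tv (pw 10) = pw 10 ∧ frob (pw 10) = pw 10 ∧
    tv (frob (pw 1)) = add (pw 1) (pw 10) ∧ tv (frob (pw 11)) = add (pw 11) (pw 5) ∧
    tv (pw 1) = add (pw 1) (pw 5) ∧ tv (pw 11) = add (pw 11) (pw 0) ∧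
    frob (pw 1) = add (pw 1) (pw 0) ∧ frob (pw 11) = add (pw 11) (pw 10) := by decide +kernel

end B4

variable {G : Type*} [Group G]

namespace Setting

variable {T : Subgroup G} {t σ w u : G} {K : Type} [Field K] {ζ : K} {θ : K → G}

/-- An element acts on the group of order sixteen by a map on bit vectors. -/
def Act (_S : Setting T t σ w u K ζ θ) (g : G) (φ : B4 → B4) : Prop :=
  ∀ x, g * θ (val ζ x) * g⁻¹ = θ (val ζ (φ x))

variable (S : Setting T t σ w u K ζ θ)
include S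

theorem act_mul {g g' : G} {φ φ' : B4 → B4} (a : S.Act g φ) (a' : S.Act g' φ') : S.Act (g * g') (φ ∘ φ') :=
  fun x => by
    show g * g' * θ (val ζ x) * (g * g')⁻¹ = θ (val ζ (φ (φ' x)))
    rw [← a, ← a' x]; group

theorem act_one : S.Act 1 id := fun x => by simp

theorem act_t : S.Act t B4.mz := fun x => by rw [S.crd.tmul, val_mz S.root S.two]

theorem act_sigma : S.Act σ B4.frob := fun x => by
  rw [inv_eq_of_mul_eq_one_right S.cfg.ss, S.crd.frob, val_frob S.root S.two]

theorem act_pow {g : G} {φ : B4 → B4} (a : S.Act g φ) : ∀ n : ℕ, S.Act (g ^ n) φ^[n] := by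
  intro n
  induction n with
  | zero => simpa using S.act_one
  | succ n ih => rw [pow_succ', Function.iterate_succ']; exact S.act_mul a ih

theorem sigma_pow_fix {k : ℕ} (hk : k % 5 = 0) : σ * t ^ k = t ^ k * σ := by
  rw [S.cfg.sigma_t]
  obtain ⟨j, rfl⟩ : ∃ j, k = 5 * j := ⟨k / 5, by omega⟩
  rw [show 4 * (5 * j) = 15 * j + 5 * j by ring, pow_add, pow_mul, S.cfg.t15, one_pow, one_mul]

theorem theta_pw (i : ℕ) : θ (val ζ (B4.pw i)) = θ (ζ ^ i) := by rw [val_pw S.root S.two]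

theorem exists_val (x : K) : ∃ b : B4, val ζ b = x := by
  by_cases hx : x = 0
  · exact ⟨B4.zero, by simp [B4.zero, val, bit, hx]⟩
  · obtain ⟨i, rfl⟩ := S.crd.gen x hx
    exact ⟨B4.pw i, val_pw S.root S.two i⟩

variable [Finite G]

theorem yfree {a : G} (ha : a ∈ T) (hc : t ^ 10 * a = a * t ^ 10) : a = 1 := by
  obtain ⟨x, rfl⟩ := S.crd.surj a ha
  by_contra hne
  obtain ⟨i, rfl⟩ := S.crd.gen x fun e => hne (by rw [e, S.cfg.theta_zero S.crd])
  have e : θ (ζ ^ (10 + i)) = θ (ζ ^ i) := by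
    rw [S.cfg.theta_pow S.crd, pow_add,
      show t ^ 10 * t ^ i * u * (t ^ 10 * t ^ i)⁻¹ = t ^ 10 * (t ^ i * u * (t ^ i)⁻¹) * (t ^ 10)⁻¹ by group,
      ← S.cfg.theta_pow S.crd, hc, mul_inv_cancel_right]
  have e' := S.crd.inj e
  rw [pow_add] at e'
  have hz : ζ ^ i ≠ 0 := pow_ne_zero _ fun e0 => by
    have h := S.crd.zord
    rw [e0, zero_pow (by norm_num)] at h
    exact zero_ne_one h
  exact S.crd.zpow_ne 10 (by norm_num) (by norm_num) (mul_right_cancel₀ hz (by rw [one_mul]; exact e'))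

theorem y_ne : t ^ 10 ≠ 1 := fun e => by
  have := orderOf_dvd_of_pow_eq_one e
  rw [S.cfg.tord] at this
  norm_num at this

theorem y_three : (t ^ 10) ^ 3 = 1 := by
  rw [← pow_mul, show 10 * 3 = 15 * 2 from rfl, pow_mul, S.cfg.t15, one_pow]

theorem sigma_notin : σ ∉ T := by
  intro hs
  have e := S.act_sigma (B4.pw 1)
  rw [S.cfg.comm σ hs _ (S.crd.mem _), mul_inv_cancel_right, val_pw S.root S.two, B4.fix_base.2.2.2.2.2.2.2.2.1,
    val_add S.two, val_pw S.root S.two, val_pw S.root S.two] at e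
  have h := S.crd.inj e
  simp at h

theorem sigma_ne : σ ≠ 1 := fun e => S.sigma_notin (e ▸ one_mem T)

/-- An element fixing the group of order sixteen lies in it. -/
theorem act_id {g : G} {φ : B4 → B4} (a : S.Act g φ) (hφ : ∀ x, φ x = x) : g ∈ T := by
  refine S.six_self fun b hb => ?_
  obtain ⟨x, rfl⟩ := S.crd.surj b hb
  obtain ⟨v, rfl⟩ := S.exists_val x
  have e := a v
  rw [hφ] at e
  exact mul_inv_eq_iff_eq_mul.1 e

/-- The only element fixing it which commutes with the element of order three is trivial. -/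
theorem act_triv {g : G} {φ : B4 → B4} (a : S.Act g φ) (hφ : ∀ x, φ x = x) (hy : g * t ^ 10 = t ^ 10 * g) :
    g = 1 := S.yfree (S.act_id a hφ) hy.symm

theorem act_of_basis {g : G} {φ : B4 → B4} (hφ : ∀ a b, φ (B4.add a b) = B4.add (φ a) (φ b))
    (h : ∀ x ∈ [B4.pw 0, B4.pw 10, B4.pw 1, B4.pw 11], g * θ (val ζ x) * g⁻¹ = θ (val ζ (φ x))) :
    S.Act g φ := by
  have hadd : ∀ a b, g * θ (val ζ a) * g⁻¹ = θ (val ζ (φ a)) → g * θ (val ζ b) * g⁻¹ = θ (val ζ (φ b)) →
      g * θ (val ζ (B4.add a b)) * g⁻¹ = θ (val ζ (φ (B4.add a b))) := fun a b ea eb => by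
    rw [hφ, val_add S.two, val_add S.two, S.crd.add, S.crd.add, ← ea, ← eb]; group
  have hz : g * θ (val ζ B4.zero) * g⁻¹ = θ (val ζ (φ B4.zero)) := by
    have e0 : φ B4.zero = B4.zero := by
      have e : ∀ p q : B4, B4.add p q = q → p = B4.zero := by decide +kernel
      exact e _ (φ B4.zero) (by rw [← hφ]; rfl)
    rw [e0, show val ζ B4.zero = 0 by simp [B4.zero, val, bit], S.cfg.theta_zero S.crd]
    group
  intro x
  obtain ⟨a, b, c, e, rfl⟩ := B4.comb_surj x
  refine hadd _ _ (hadd _ _ ?_ ?_) (hadd _ _ ?_ ?_)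
  · cases a; exacts [hz, h _ (by simp)]
  · cases b; exacts [hz, h _ (by simp)]
  · cases c; exacts [hz, h _ (by simp)]
  · cases e; exacts [hz, h _ (by simp)]

end Setting

/-- The extra involution. -/
structure Transv {T : Subgroup G} {t σ w u : G} {K : Type} [Field K] {ζ : K} {θ : K → G}
    (S : Setting T t σ w u K ζ θ) (d : G) : Prop where
  dd : d * d = 1
  ne : d ≠ 1
  nes : d ≠ σ
  du : d * u = u * d
  ds : d * σ = σ * d
  dy : d * t ^ 10 = t ^ 10 * d
  act : S.Act d B4.tv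
  point : ∀ R : Subgroup G, Hyp σ R → d ∈ R

namespace Setting

variable [Finite G] {T : Subgroup G} {t σ w u : G} {K : Type} [Field K] {ζ : K} {θ : K → G}
  (S : Setting T t σ w u K ζ θ)
include S

/-- An involution commuting with the base point and the element of order three moves inside cosets of the
subfield. -/
theorem shift {d : G} (hdd : d * d = 1) (hdu : d * u = u * d) (hdy : d * t ^ 10 = t ^ 10 * d) {a : G}
    (ha : a ∈ T) : ∃ e, (e = 1 ∨ e = u ∨ e = θ (ζ ^ 5) ∨ e = θ (ζ ^ 10)) ∧ d * a * d⁻¹ = e * a := by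
  obtain ⟨R, hR⟩ := S.exists_hyp_u
  obtain ⟨b, hb, p, hT⟩ := S.partner S.cfg.uT S.cfg.u_ne
  have o := hR.pair_iff.1 p
  obtain ⟨F, i, hi⟩ := hR.exists_fixed o
  have hV : ∀ {e : G}, (e = 1 ∨ e = u ∨ e = F.p i ∨ e = F.p i * u) → e ∈ T ⊓ R := fun {e} he => by
    obtain ⟨heR, heb⟩ := (hR.inf_outer F o hi e).2 he
    exact ⟨by rw [hT]; exact mem_six.2 ⟨mem_centralizer_singleton_iff.1 (hR.le heR), heb⟩, heR⟩
  have hcomm : ∀ x, x ∈ T ⊓ R → d * x = x * d := by
    intro x hx
    have key : ∀ k : ℕ, d * (t ^ 10) ^ k = (t ^ 10) ^ k * d := fun k =>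
      ((show Commute d (t ^ 10) from hdy).pow_right k).eq
    have hθ : ∀ k : ℕ, d * θ (ζ ^ (10 * k)) = θ (ζ ^ (10 * k)) * d := fun k => by
      rw [S.cfg.theta_pow S.crd, pow_mul]
      exact (((show Commute d ((t ^ 10) ^ k) from key k).mul_right (show Commute d u from hdu)).mul_right
        (show Commute d ((t ^ 10) ^ k) from key k).inv_right).eq
    rcases (S.near_base hR x).1 hx with rfl | rfl | rfl | rfl
    · simp
    · exact hdu
    · have := hθ 2
      rwa [show ζ ^ (10 * 2) = ζ ^ 5 by rw [show 10 * 2 = 15 + 5 from rfl, pow_add, S.crd.zord, one_mul]] at this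
    · simpa using hθ 1
  have hdC : d ∈ centralizer ({u} : Set G) := mem_centralizer_singleton_iff.2 hdu
  have hdb : d ∈ F.big i := (hR.mem_big F).2 ⟨hdC, by
    rw [← map_mul, show (⟨d, hdC⟩ : ↥(centralizer ({u} : Set G))) * ⟨d, hdC⟩ = 1 from Subtype.ext hdd, map_one],
    hcomm _ (hV (Or.inr (Or.inr (Or.inl rfl))))⟩
  obtain ⟨e, he, e'⟩ := hR.big_comm F i hdb (hR.outer_le_big F o hi (hT ▸ ha : a ∈ six u b))
  refine ⟨e, (S.near_base hR e).1 (hV he), ?_⟩
  rw [e', mul_assoc e, mul_assoc, mul_inv_cancel, mul_one]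

theorem exists_transv : ∃ d, Transv S d := by
  obtain ⟨R, hR⟩ := S.hyp σ ⟨S.cfg.ss, S.sigma_ne⟩
  obtain ⟨F⟩ := hR.exists_frame
  set y := t ^ 10 with hy
  have hys : σ * y = y * σ := S.sigma_pow_fix (by norm_num)
  have hu1 : θ (ζ ^ 10) = y * u * y⁻¹ := S.cfg.theta_pow S.crd 10
  have hne10 : θ (ζ ^ 10) ≠ 1 := fun e => S.cfg.u_ne (by rw [hu1] at e; exact conj_eq_one_iff.1 e)
  have hneu : θ (ζ ^ 10) ≠ u := fun e => by
    rw [show u = θ (ζ ^ 0) by rw [pow_zero, S.crd.one]] at e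
    have := S.pow_inj e
    omega
  have hyC : y ∈ centralizer ({σ} : Set G) := mem_centralizer_singleton_iff.2 hys.symm
  have huC : u ∈ centralizer ({σ} : Set G) := mem_centralizer_singleton_iff.2 S.cfg.su.symm
  have huR : u ∉ R := fun hm => by
    have h10 : θ (ζ ^ 10) ∈ R := hu1 ▸ hR.nrm y hyC u hm
    have hus : u ≠ σ := fun e => S.sigma_notin (e ▸ S.cfg.uT)
    rcases hR.commuting_invol hm (S.cfg.sq u S.cfg.uT) S.cfg.u_ne hus h10 (S.cfg.sq _ (S.crd.mem _))
      (S.cfg.comm u S.cfg.uT _ (S.crd.mem _)) with e | e | e | e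
    · exact hne10 e
    · exact S.sigma_notin (e ▸ S.crd.mem _)
    · exact hneu e
    · refine S.sigma_notin ?_
      have := mul_mem S.cfg.uT (S.crd.mem (ζ ^ 10))
      rwa [e, ← mul_assoc, S.cfg.sq u S.cfg.uT, one_mul] at this
  have o : Out σ R u := ⟨huC, huR, S.cfg.sq u S.cfg.uT⟩
  obtain ⟨hg, hg1⟩ := hR.pi_invol F o
  obtain ⟨i, hi, -⟩ := JTwo.AltFive.invol_fixed _ hg hg1
  let yC : ↥(centralizer ({σ} : Set G)) := ⟨y, hyC⟩
  let uC : ↥(centralizer ({σ} : Set G)) := ⟨u, huC⟩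
  have hy3 : yC * yC * yC = 1 := Subtype.ext (by
    show y * y * y = 1
    rw [← S.y_three, pow_succ, pow_two])
  have hyi : JTwo.AltFive.act (F.π yC) i = i := by
    refine three_fix_point ⟨F.π uC, hg, hg1⟩ ⟨F.π yC, by rw [← map_mul, ← map_mul, hy3, map_one]⟩ ?_ i hi
    show F.π yC * F.π uC * (F.π yC)⁻¹ * F.π uC = F.π uC * (F.π yC * F.π uC * (F.π yC)⁻¹)
    rw [← map_inv, ← map_mul, ← map_mul, ← map_mul, ← map_mul]
    refine congrArg F.π (Subtype.ext ?_)
    show y * u * y⁻¹ * u = u * (y * u * y⁻¹)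
    rw [← hu1]
    exact S.cfg.comm _ (S.crd.mem _) u S.cfg.uT
  have hp : Commute y (F.p i) := by
    rcases F.equi yC i with e | e <;> rw [hyi] at e
    · exact mul_inv_eq_iff_eq_mul.1 e
    · exfalso
      change y * F.p i * y⁻¹ = F.p i * σ at e
      have hsy : y * σ * y⁻¹ = σ := by rw [← hys, mul_inv_cancel_right]
      have e2 : y * y * F.p i * (y * y)⁻¹ = F.p i := by
        calc y * y * F.p i * (y * y)⁻¹ = y * (y * F.p i * y⁻¹) * y⁻¹ := by group
          _ = y * (F.p i * σ) * y⁻¹ := by rw [e]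
          _ = y * F.p i * y⁻¹ * (y * σ * y⁻¹) := by group
          _ = F.p i := by rw [e, hsy, mul_assoc, S.cfg.ss, mul_one]
      have e3 : y * y * y = 1 := congrArg Subtype.val hy3
      have : F.p i * σ = F.p i := by
        calc F.p i * σ = y * F.p i * y⁻¹ := e.symm
          _ = y * (y * y * F.p i * (y * y)⁻¹) * y⁻¹ := by rw [e2]
          _ = y * y * y * F.p i * (y * y * y)⁻¹ := by group
          _ = F.p i := by rw [e3]; group
      exact S.sigma_ne (mul_eq_left.1 this)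
  have hσp : F.p i * σ = σ * F.p i := hR.z_comm (F.mem i)
  have hup : F.p i * u = u * F.p i := (hR.commute_point F o hi).symm
  have key : ∀ d, d ∈ R → d * d = 1 → d ≠ 1 → d ≠ σ → d * u = u * d → d * y = y * d → S.Act d B4.tv →
      ∃ d, Transv S d := fun d hdR hdd hd1 hds hdu hdy hact =>
    ⟨d, hdd, hd1, hds, hdu, hR.z_comm hdR, hdy, hact, fun R' hR' => hR.unique hR' ▸ hdR⟩
  obtain ⟨e, he, he'⟩ := S.shift (F.inv i) hup hp.symm.eq (S.crd.mem (ζ ^ 1))
  have hfix : ∀ k, k = 0 ∨ k = 10 → F.p i * θ (val ζ (B4.pw k)) * (F.p i)⁻¹ = θ (val ζ (B4.pw k)) := by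
    intro k hk
    rw [S.theta_pw, S.cfg.theta_pow S.crd]
    refine mul_inv_eq_iff_eq_mul.2 ?_
    rcases hk with rfl | rfl
    · simpa using hup
    · exact ((hp.symm.mul_right (show Commute (F.p i) u from hup)).mul_right hp.symm.inv_right).eq
  -- the four maps
  have build : ∀ {φ : B4 → B4} {v v' : B4}, (∀ a b, φ (B4.add a b) = B4.add (φ a) (φ b)) → φ (B4.pw 0) = B4.pw 0 →
      φ (B4.pw 10) = B4.pw 10 → φ (B4.pw 1) = B4.add (B4.pw 1) v → φ (B4.pw 11) = B4.add (B4.pw 11) v' →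
      θ (val ζ v) = e → θ (val ζ v') = y * e * y⁻¹ → S.Act (F.p i) φ := by
    intro φ v v' hφ h0 h10 h1 h11 hv hv'
    refine S.act_of_basis hφ fun x hx => ?_
    simp only [List.mem_cons, List.not_mem_nil, or_false] at hx
    have hb1 : F.p i * θ (val ζ (B4.pw 1)) * (F.p i)⁻¹ = θ (val ζ (φ (B4.pw 1))) := by
      rw [h1, val_add S.two, S.crd.add, hv, S.theta_pw, he']
      refine S.cfg.comm _ ?_ _ (S.crd.mem _)
      rw [← hv]; exact S.crd.mem _
    rcases hx with rfl | rfl | rfl | rfl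
    · rw [hfix 0 (Or.inl rfl), h0]
    · rw [hfix 10 (Or.inr rfl), h10]
    · exact hb1
    · have ht : θ (val ζ (B4.pw 11)) = y * θ (val ζ (B4.pw 1)) * y⁻¹ := by
        rw [S.theta_pw, S.theta_pw, S.cfg.theta_pow S.crd, S.cfg.theta_pow S.crd, hy,
          show 11 = 10 + 1 from rfl, pow_add]
        group
      rw [h11, val_add S.two, S.crd.add, hv', ht]
      calc F.p i * (y * θ (val ζ (B4.pw 1)) * y⁻¹) * (F.p i)⁻¹
          = (F.p i * y) * θ (val ζ (B4.pw 1)) * (F.p i * y)⁻¹ := by group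
        _ = (y * F.p i) * θ (val ζ (B4.pw 1)) * (y * F.p i)⁻¹ := by rw [hp.eq]
        _ = y * (F.p i * θ (val ζ (B4.pw 1)) * (F.p i)⁻¹) * y⁻¹ := by group
        _ = y * θ (val ζ (B4.pw 1)) * y⁻¹ * (y * e * y⁻¹) := by
          rw [hb1, h1, val_add S.two, S.crd.add, hv]; group
  have hyθ : ∀ k, y * θ (ζ ^ k) * y⁻¹ = θ (ζ ^ (10 + k)) := fun k => by
    rw [S.cfg.theta_pow S.crd, S.cfg.theta_pow S.crd, pow_add, hy]; group
  obtain ⟨f1, f2, f3, f4, f5, f6, f7, f8, f9, f10⟩ := B4.fix_base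
  obtain ⟨a1, a2, a3⟩ := B4.tv_facts
  rcases he with rfl | rfl | rfl | rfl
  · -- trivial action
    exfalso
    have hd : F.p i ∈ T := by
      refine S.act_id (φ := fun x => x) (build (φ := fun x => x) (v := B4.zero) (v' := B4.zero) (fun a b => rfl) rfl rfl
        (by decide) (by decide) ?_ ?_) (fun x => rfl)
      · simp [B4.zero, val, bit, S.cfg.theta_zero S.crd]
      · simp [B4.zero, val, bit, S.cfg.theta_zero S.crd]
    exact F.ne_one i (S.yfree hd hp.eq)
  · -- the Frobenius map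
    exfalso
    have hd : F.p i * σ ∈ T := by
      refine S.act_id (S.act_mul (build (φ := B4.frob) (v := B4.pw 0) (v' := B4.pw 10) a2 f2 f4 f9 f10 ?_ ?_) S.act_sigma)
        (fun x => ?_)
      · rw [S.theta_pw, pow_zero, S.crd.one]
      · rw [S.theta_pw, hu1]
      · have : ∀ x, B4.frob (B4.frob x) = x := by decide +kernel
        exact this x
    have h1 := S.yfree hd ((show Commute y (F.p i) from hp).mul_right (show Commute y σ from hys.symm)).eq
    exact F.ne_z i (by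
      calc F.p i = F.p i * σ * σ := by rw [mul_assoc, S.cfg.ss, mul_one]
        _ = σ := by rw [h1, one_mul])
  · refine key _ (F.mem i) (F.inv i) (F.ne_one i) (F.ne_z i) hup hp.symm.eq
      (build (φ := B4.tv) (v := B4.pw 5) (v' := B4.pw 0) a1 f1 f3 f7 f8 (S.theta_pw 5) ?_)
    rw [S.theta_pw, hyθ, show 10 + 5 = 15 from rfl, S.crd.zord, pow_zero]
  · have hb := build (φ := B4.tv ∘ B4.frob) (v := B4.pw 10) (v' := B4.pw 5)
      (fun a b => by show B4.tv (B4.frob _) = _; rw [a2, a1]; rfl)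
      (by show B4.tv _ = _; rw [f2, f1]) (by show B4.tv _ = _; rw [f4, f3]) f5 f6 (S.theta_pw 10) ?_
    · refine key (F.p i * σ) (mul_mem (F.mem i) hR.zmem) (hR.mul_z_inv (F.mem i) (F.inv i)) (fun e => F.ne_z i ?_)
        (fun e => F.ne_one i (mul_eq_right.1 e))
        ((show Commute (F.p i) u from hup).mul_left (show Commute σ u from S.cfg.su)).eq
        (hp.symm.mul_left (show Commute σ y from hys)).eq ?_
      · calc F.p i = F.p i * σ * σ := by rw [mul_assoc, S.cfg.ss, mul_one]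
          _ = σ := by rw [e, one_mul]
      · intro x
        rw [S.act_mul hb S.act_sigma x]
        show θ (val ζ (B4.tv (B4.frob (B4.frob x)))) = _
        rw [a3]
    · rw [S.theta_pw, hyθ, show 10 + 10 = 15 + 5 from rfl, pow_add, S.crd.zord, one_mul]

end Setting

end CfsgLib.Invol.JThreeType
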